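import Cfsg.Agent.ONType.Psl
import Cfsg.Agent.UGT.I34.Red

/-!
# THEOREM I34 for `Z = 2`: the kind `2.L3(4)` and the list of K-facts

* `IsTwo K` : `K` is perfect, `|Z(K)| = 2`, `K / Z(K) ≅ PSL(3,4)`.
* `two : Kind` : the kind of pairs, without exceptional configurations.
* `Loc K z t P Z` : structure of `P = C_K(t)`, `t` a noncentral involution, `Z = Z(P)`.
* `FG α`, `CC α` : what is used of the outer involutions of type `f`, `g` resp. `c`.
* `KF K` : the K-facts.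
-/

set_option autoImplicit false

open Cfsg Subgroup
open Cfsg.Agent.ONType.Psl (PSL3)
open Cfsg.Agent.UGT.I34.Pair
open scoped commutatorElement

namespace Cfsg.Agent.UGT.I34.Two

universe u

/-- `K` is perfect, `|Z(K)| = 2` and `K / Z(K) ≅ PSL(3,4)`. -/
structure IsTwo (K : Type*) [Group K] : Prop where
  perfect : Group.IsPerfect K
  card : Nat.card (center K) = 2
  quot : Nonempty (K ⧸ center K ≃* PSL3)

theorem IsTwo.card_eq {K : Type*} [Group K] (h : IsTwo K) : Nat.card K = Nat.card PSL3 * 2 := by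
  obtain ⟨e⟩ := h.quot
  rw [Subgroup.card_eq_card_quotient_mul_card_subgroup (center K), Nat.card_congr e.toEquiv, h.card]

theorem map_center {A B : Type*} [Group A] [Group B] (e : A ≃* B) :
    (center A).map e.toMonoidHom = center B := by
  ext x
  rw [mem_center_iff]
  constructor
  · rintro ⟨z, hz, rfl⟩ g
    obtain ⟨y, rfl⟩ := e.surjective g
    have h2 : e y * e z = e z * e y := by
      rw [← map_mul, ← map_mul, mem_center_iff.mp hz y]
    exact h2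
  · intro h
    obtain ⟨y, rfl⟩ := e.surjective x
    refine ⟨y, ?_, rfl⟩
    rw [SetLike.mem_coe, mem_center_iff]
    intro g
    apply e.injective
    rw [map_mul, map_mul]
    exact h (e g)

theorem IsTwo.congr {A B : Type*} [Group A] [Group B] (e : A ≃* B) (h : IsTwo A) : IsTwo B := by
  obtain ⟨h1, h2, ⟨i⟩⟩ := h
  refine ⟨?_, ?_, ⟨(QuotientGroup.congr _ _ e (map_center e)).symm.trans i⟩⟩
  · rw [Group.isPerfect_def] at h1 ⊢
    rw [eq_top_iff]
    intro b _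
    obtain ⟨a, rfl⟩ := e.surjective b
    have h3 : a ∈ _root_.commutator A := by rw [h1]; trivial
    have h4 : e a ∈ (_root_.commutator A).map e.toMonoidHom := ⟨a, h3, rfl⟩
    rw [_root_.commutator_def, Subgroup.map_commutator] at h4
    exact commutator_mono le_top le_top h4
  · rw [← map_center e, ← h2]
    exact (Nat.card_congr ((center A).equivMapOfInjective e.toMonoidHom e.injective).toEquiv).symm

/-- the kind of pairs with `X / O(X) ≅ 2.L3(4)`, no exceptional configurations -/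
def two : Kind.{u} where
  P K _ := IsTwo K
  congr e h := h.congr e
  card_eq h1 h2 := h1.card_eq.trans h2.card_eq.symm
  T _ _ _ _ := False

/-- inner automorphisms -/
abbrev Inn (K : Type*) [Group K] : Subgroup (MulAut K) := (MulAut.conj : K →* MulAut K).range

/-- The structure of `P = C_K(t)`, `t` a noncentral involution; `Z = Z(P)`, `z` the central involution. -/
structure Loc (K : Type*) [Group K] (z t : K) (P Z : Subgroup K) : Prop where
  mem_P : ∀ x, x ∈ P ↔ x * t = t * x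
  mem_Z : ∀ x, x ∈ Z ↔ x ∈ P ∧ ∀ y ∈ P, x * y = y * x
  card_P : Nat.card P = 128
  card_Z : Nat.card Z = 8
  sq_Z : ∀ x ∈ Z, x * x = 1
  /-- `t` and `tz` are not conjugate -/
  nconj : ∀ x, x * t * x⁻¹ ≠ t * z
  /-- class two -/
  comm : ∀ x ∈ P, ∀ y ∈ P, ⁅x, y⁆ ∈ Z
  /-- `[x, P] ⟨z⟩ = Z` for `x ∈ P - Z` -/
  surj : ∀ x ∈ P, x ∉ Z → ∀ w ∈ Z, ∃ y ∈ P, ⁅x, y⁆ = w ∨ ⁅x, y⁆ = w * z
  z_mem : z ∈ ⁅P, P⁆
  /-- every `w ∈ Z - ⟨z⟩` lies in some `[x, P]` not containing `z` -/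
  small : ∀ w ∈ Z, w ≠ 1 → w ≠ z → ∃ x ∈ P, (∃ y ∈ P, ⁅x, y⁆ = w) ∧ ∀ y ∈ P, ⁅x, y⁆ ≠ z
  /-- the two elementary abelian subgroups of order 32 -/
  ab : ∃ A B : Subgroup K, A ≤ P ∧ B ≤ P ∧ Z ≤ A ∧ Z ≤ B ∧ Nat.card A = 32 ∧ Nat.card B = 32 ∧
    (∀ x ∈ A, x * x = 1) ∧ (∀ x ∈ B, x * x = 1) ∧ ∀ x ∈ P, ∃ a ∈ A, ∃ b ∈ B, x = a * b
  /-- `P` is generated by the products `t t^x`, `t^x ∈ P` -/
  gen : ∀ H : Subgroup K, (∀ x, x * t * x⁻¹ ∈ P → t * (x * t * x⁻¹) ∈ H) → P ≤ H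
  four : ∃ q ∈ P, q * q ∉ center K
  /-- outer 2-automorphisms normalising `P` and centralising `Z` modulo `⟨z⟩` (they are of type `g`) -/
  out : ∀ α : MulAut K, α ∉ Inn K → (∃ n : ℕ, α ^ 2 ^ n = 1) → (∀ x ∈ P, α x ∈ P) →
    (∀ w ∈ Z, α w = w ∨ α w = w * z) →
    ∀ N : Subgroup K, N ≤ P → (∀ x ∈ P, ∀ n ∈ N, x * n * x⁻¹ ∈ N) → (∀ x ∈ P, α x * x⁻¹ ∈ N) →
      Z ≤ N

/-- types `f`, `g`: "good" involutions generate a perfect group -/
def FG {K : Type*} [Group K] (α : MulAut K) : Prop :=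
  ∃ S : Set K, (∀ s ∈ S, s * s = 1 ∧ α s = s ∧ ∃ k, s = k * (α k)⁻¹) ∧
    ⁅closure S, closure S⁆ = closure S ∧ ∃ s ∈ S, s ∉ center K

/-- type `c`: `α`, `αz`, `αb`, `αbz` are conjugate -/
def CC {K : Type*} [Group K] (z : K) (α : MulAut K) : Prop :=
  ∃ b : K, b * b = 1 ∧ b ∉ center K ∧ α b = b ∧ (∃ k, b = k * (α k)⁻¹) ∧
    (∃ k, b * z = k * (α k)⁻¹) ∧ ∃ k, z = k * (α k)⁻¹

/-- The K-facts, `z` the central involution. -/
structure KF (K : Type*) [Group K] (z : K) : Prop where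
  z_ne : z ≠ 1
  z_sq : z * z = 1
  mem_center : ∀ x, x ∈ center K ↔ x = 1 ∨ x = z
  /-- elements of order two modulo the centre lift to involutions -/
  lift : ∀ t : K, t * t ∈ center K → t ∉ center K → t * t = 1
  loc : ∀ t : K, t * t = 1 → t ∉ center K → ∃ P Z : Subgroup K, Loc K z t P Z
  out_sq : ∀ α : MulAut K, α * α ∈ Inn K
  rank : ∀ A : Subgroup (MulAut K), (∀ a ∈ A, a * a = 1) → Nat.card A ≤ 16
  rank_inn : ∀ A : Subgroup (MulAut K), (∀ a ∈ A, a * a = 1) → ¬ A ≤ Inn K → Nat.card A ≤ 8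
  /-- used for (#) -/
  sharp : ∀ α : MulAut K, α * α = 1 → α ∉ Inn K → ∀ t : K, t * t = 1 → t ∉ center K → α t = t →
    ∃ p, p * t = t * p ∧ (α p * p⁻¹) * (α p * p⁻¹) ≠ 1
  /-- `C` = the outer automorphisms of type `c` -/
  types : ∃ C : Set (MulAut K), (∀ α ∈ C, α ∉ Inn K) ∧ (∀ α ∈ C, ∀ β ∈ C, α * β ∈ Inn K) ∧
    (∀ α, α * α = 1 → α ∉ Inn K → α ∉ C → FG α) ∧ ∀ α ∈ C, α * α = 1 → CC z α

/-- The statement on `2.L3(4)` used by the group level. -/
def KFacts : Prop := ∀ (K : Type u) [Group K] [Finite K], IsTwo K → ∃ z : K, KF K z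

end Cfsg.Agent.UGT.I34.Two
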