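import Cfsg.Agent.UGT.I34.Two.Half

/-!
# Step 2 of [B]: the abstract end

`Half.false`: two halves `(U, u)`, `(V, v)` in a finite 2-group `S` are impossible.
The argument is carried out inside `S` (structure `HS`).
-/

set_option autoImplicit false

open Subgroup
open scoped commutatorElement

namespace Cfsg.Agent.UGT.I34.Two

namespace HalfEnd

section gen

variable {S : Type*} [Group S] {H : Type*} [Group H]

theorem card_map (A : Subgroup S) (f : S →* H) :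
    Nat.card A = Nat.card (A.map f) * Nat.card (A ⊓ f.ker : Subgroup S) := by
  have h1 : (f.comp A.subtype).range = A.map f := by
    rw [MonoidHom.range_comp, Subgroup.range_subtype]
  have h2 : Nat.card (f.comp A.subtype).ker = Nat.card (A ⊓ f.ker : Subgroup S) := by
    rw [Nat.card_congr (((f.comp A.subtype).ker).equivMapOfInjective A.subtype
      A.subtype_injective).toEquiv]
    congr 2
    ext x
    simp only [mem_map, MonoidHom.mem_ker, MonoidHom.comp_apply, mem_inf]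
    constructor
    · rintro ⟨y, hy, rfl⟩
      exact ⟨y.2, hy⟩
    · rintro ⟨hx, h⟩
      exact ⟨⟨x, hx⟩, h, rfl⟩
  rw [Subgroup.card_eq_card_quotient_mul_card_subgroup (f.comp A.subtype).ker, h2, ← h1,
    Nat.card_congr (QuotientGroup.quotientKerEquivRange (f.comp A.subtype)).toEquiv]

theorem exists_notin (W : Subgroup S) (hW : Nat.card W = 8) (a b c d : S) :
    ∃ w ∈ W, w ≠ a ∧ w ≠ b ∧ w ≠ c ∧ w ≠ d := by
  classical
  by_contra hcon
  push Not at hcon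
  have h1 : (W : Set S) ⊆ (({a, b, c, d} : Finset S) : Set S) := by
    intro w hw
    simp only [Finset.coe_insert, Finset.coe_singleton, Set.mem_insert_iff,
      Set.mem_singleton_iff]
    by_cases h1 : w = a
    · exact Or.inl h1
    by_cases h2 : w = b
    · exact Or.inr (Or.inl h2)
    by_cases h3 : w = c
    · exact Or.inr (Or.inr (Or.inl h3))
    exact Or.inr (Or.inr (Or.inr (hcon w hw h1 h2 h3)))
  have h2 : Nat.card W ≤ Nat.card (({a, b, c, d} : Finset S) : Set S) :=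
    Nat.card_mono (Finset.finite_toSet _) h1
  rw [Nat.card_coe_set_eq, Set.ncard_coe_finset] at h2
  have h3 : ({a, b, c, d} : Finset S).card ≤ 4 := Finset.card_le_four
  omega

theorem three_le (T : Subgroup H) [Finite T] {a b : H} (ha : a ∈ T) (hb : b ∈ T) (ha1 : a ≠ 1)
    (hb1 : b ≠ 1) (hab : a ≠ b) : 3 ≤ Nat.card T := by
  classical
  have := Fintype.ofFinite T
  rw [Nat.card_eq_fintype_card]
  have h1 : ({1, ⟨a, ha⟩, ⟨b, hb⟩} : Finset T).card = 3 := by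
    rw [Finset.card_eq_three]
    refine ⟨1, ⟨a, ha⟩, ⟨b, hb⟩, ?_, ?_, ?_, rfl⟩
    · intro h; exact ha1 (congrArg Subtype.val h).symm
    · intro h; exact hb1 (congrArg Subtype.val h).symm
    · intro h; exact hab (congrArg Subtype.val h)
  rw [← h1]
  exact Finset.card_le_univ _

theorem two_le (T : Subgroup H) [Finite T] {a : H} (ha : a ∈ T) (ha1 : a ≠ 1) :
    2 ≤ Nat.card T := by
  classical
  have := Fintype.ofFinite T
  rw [Nat.card_eq_fintype_card]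
  have h1 : ({1, ⟨a, ha⟩} : Finset T).card = 2 := by
    rw [Finset.card_eq_two]
    refine ⟨1, ⟨a, ha⟩, ?_, rfl⟩
    intro h; exact ha1 (congrArg Subtype.val h).symm
  rw [← h1]
  exact Finset.card_le_univ _

end gen

/-- one half of the configuration, inside `S`; `W = Z(U)` -/
structure HS {S : Type*} [Group S] (u v : S) (U W : Subgroup S) {H : Type*} [Group H]
    (I : Subgroup H) (ρ : S →* H) : Prop where
  normal : U.Normal
  ucen : ∀ s, s * u = u * s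
  hu : u ∈ U
  uu : u * u = 1
  hru : ρ u = 1
  hrv : ρ v ≠ 1
  mem_W : ∀ x, x ∈ W ↔ x ∈ U ∧ ∀ y ∈ U, x * y = y * x
  card_U : Nat.card U = 128
  card_W : Nat.card W = 8
  sq_W : ∀ x ∈ W, x * x = 1
  comm : ∀ x ∈ U, ∀ y ∈ U, ⁅x, y⁆ ∈ W
  surj : ∀ x ∈ U, x ∉ W → ∀ w ∈ W, ∃ y ∈ U, ⁅x, y⁆ = w ∨ ⁅x, y⁆ = w * u
  u_mem : u ∈ ⁅U, U⁆
  small : ∀ w ∈ W, w ≠ 1 → w ≠ u → ∃ x ∈ U, (∃ y ∈ U, ⁅x, y⁆ = w) ∧ ∀ y ∈ U, ⁅x, y⁆ ≠ u
  ab : ∃ A B : Subgroup S, A ≤ U ∧ B ≤ U ∧ W ≤ A ∧ W ≤ B ∧ Nat.card A = 32 ∧ Nat.card B = 32 ∧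
    (∀ x ∈ A, x * x = 1) ∧ (∀ x ∈ B, x * x = 1) ∧ ∀ x ∈ U, ∃ a ∈ A, ∃ b ∈ B, x = a * b
  out : ∀ y : S, ρ y ∉ I → (∀ w ∈ W, y * w * y⁻¹ = w) → ∀ N : Subgroup S, N.Normal → N ≤ U →
    (∀ x ∈ U, y * x * y⁻¹ * x⁻¹ ∈ N) → W ≤ N
  ker : ∀ x ∈ U, ρ x = 1 → x = 1 ∨ x = u
  act : ∀ s s', ρ s = ρ s' → ∀ x ∈ U, s * x * s⁻¹ = s' * x * s'⁻¹
  inn : ∀ s, ρ s ∈ I → ∃ x ∈ U, ρ s = ρ x
  rank : ∀ A : Subgroup H, (∀ a ∈ A, a * a = 1) → Nat.card A ≤ 16
  rank_inn : ∀ A : Subgroup H, (∀ a ∈ A, a * a = 1) → ¬ A ≤ I → Nat.card A ≤ 8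

section key

variable {S : Type*} [Group S] {u v : S} {U V W W' : Subgroup S}
variable {H H' : Type*} [Group H] [Group H'] {I : Subgroup H} {I' : Subgroup H'}
variable {ρ : S →* H} {ρ' : S →* H'}

theorem HS.W_le (h : HS u v U W I ρ) : W ≤ U := fun x hx => ((h.mem_W x).mp hx).1

theorem HS.u_W (h : HS u v U W I ρ) : u ∈ W :=
  (h.mem_W u).mpr ⟨h.hu, fun y _ => (h.ucen y).symm⟩

theorem HS.cen (h : HS u v U W I ρ) {s : S} (hs : ρ s = 1) {x : S} (hx : x ∈ U) :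
    s * x * s⁻¹ = x := by
  have := h.act s 1 (by rw [hs, map_one]) x hx
  simpa using this

theorem HS.comm_mul (h : HS u v U W I ρ) {x y y' : S} (hx : x ∈ U) (hy : y ∈ U) (hy' : y' ∈ U) :
    ⁅x, y * y'⁆ = ⁅x, y⁆ * ⁅x, y'⁆ := by
  have h1 : ⁅x, y'⁆ * y = y * ⁅x, y'⁆ := ((h.mem_W _).mp (h.comm x hx y' hy')).2 y hy
  have h2 : ⁅x, y * y'⁆ = ⁅x, y⁆ * (y * ⁅x, y'⁆ * y⁻¹) := by
    simp only [commutatorElement_def]; group
  rw [h2, ← h1]
  group

/-- (c) -/
theorem HS.ne_bot (h : HS u v U W I ρ) (h' : HS v u V W' I' ρ') : U ⊓ ρ'.ker ≠ ⊥ := by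
  intro hK
  obtain ⟨A, B, hA, hB, hWA, hWB, cA, cB, eA, eB, hAB⟩ := h.ab
  have h1 := card_map A ρ'
  have h2 : A ⊓ ρ'.ker = ⊥ := by
    rw [eq_bot_iff, ← hK]
    exact inf_le_inf_right _ hA
  rw [h2, cA, Subgroup.card_bot, mul_one] at h1
  have h3 := h'.rank (A.map ρ') (by
    rintro _ ⟨a, ha, rfl⟩
    rw [← map_mul, eA a ha, map_one])
  omega

/-- (d) -/
theorem HS.card_ne_two [Finite S] [Finite H'] (h : HS u v U W I ρ) (h' : HS v u V W' I' ρ') :
    Nat.card (U ⊓ ρ'.ker : Subgroup S) ≠ 2 := by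
  intro hK
  have := h.normal
  have hn : (U ⊓ ρ'.ker).Normal := inferInstance
  obtain ⟨w, hw, hw1, hall⟩ : ∃ w ∈ U ⊓ ρ'.ker, w ≠ 1 ∧ ∀ x ∈ U ⊓ ρ'.ker, x = 1 ∨ x = w := by
    obtain ⟨a, ha⟩ := (Nat.card_eq_two_iff' (1 : (U ⊓ ρ'.ker : Subgroup S))).mp hK
    refine ⟨a, a.2, fun h => ha.1 (Subtype.ext h), fun x hx => ?_⟩
    by_cases h1 : x = 1
    · exact Or.inl h1
    · exact Or.inr (congrArg Subtype.val (ha.2 ⟨x, hx⟩ (fun h2 => h1 (congrArg Subtype.val h2))))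
  have hwc : ∀ s, s * w = w * s := by
    intro s
    rcases hall _ (hn.conj_mem w hw s) with h1 | h1
    · exact absurd (by rw [mul_inv_eq_one] at h1; exact mul_eq_left.mp h1) hw1
    · exact mul_inv_eq_iff_eq_mul.mp h1
  have hwU : w ∈ U := hw.1
  have hwk : ρ' w = 1 := hw.2
  have hwW : w ∈ W := (h.mem_W w).mpr ⟨hwU, fun y _ => (hwc y).symm⟩
  have hwu : w ≠ u := by
    rintro rfl
    exact h'.hrv hwk
  have hv1 : v ≠ 1 := by
    rintro rfl
    exact h.hrv (map_one _)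
  -- `ρ' A` is inner
  have key : ∀ A : Subgroup S, A ≤ U → W ≤ A → Nat.card A = 32 → (∀ x ∈ A, x * x = 1) →
      ∀ a ∈ A, ρ' a ∈ I' := by
    intro A hA hWA cA eA
    by_contra hcon
    have h1 := card_map A ρ'
    have h2 : A ⊓ ρ'.ker = U ⊓ ρ'.ker := by
      apply le_antisymm
      · exact inf_le_inf_right _ hA
      · intro x hx
        refine ⟨?_, hx.2⟩
        rcases hall x hx with rfl | rfl
        · exact one_mem _
        · exact hWA hwW
    rw [h2, hK, cA] at h1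
    have h3 := h'.rank_inn (A.map ρ') (by
      rintro _ ⟨a, ha, rfl⟩
      rw [← map_mul, eA a ha, map_one]) (by
      intro hle
      exact hcon fun a ha => hle ⟨a, ha, rfl⟩)
    omega
  obtain ⟨A, B, hA, hB, hWA, hWB, cA, cB, eA, eB, hAB⟩ := h.ab
  have hinn : ∀ x ∈ U, ρ' x ∈ I' := by
    intro x hx
    obtain ⟨a, ha, b, hb, rfl⟩ := hAB x hx
    rw [map_mul]
    exact mul_mem (key A hA hWA cA eA a ha) (key B hB hWB cB eB b hb)
  have hUV : U.map ρ' ≤ V.map ρ' := by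
    rintro _ ⟨x, hx, rfl⟩
    obtain ⟨y, hy, e⟩ := h'.inn x (hinn x hx)
    exact ⟨y, hy, e.symm⟩
  have cU := card_map U ρ'
  have cV := card_map V ρ'
  rw [hK, h.card_U] at cU
  rw [h'.card_U] at cV
  have h2 : 2 ≤ Nat.card (V ⊓ ρ'.ker : Subgroup S) :=
    two_le _ (a := v) ⟨h'.hu, h'.hru⟩ hv1
  have hVU : V.map ρ' ≤ U.map ρ' := by
    have h3 : Nat.card (V.map ρ') ≤ Nat.card (U.map ρ') := by
      by_contra h4
      push Not at h4
      have h5 : Nat.card (U.map ρ') = 64 := by omega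
      have h6 : 65 * 2 ≤ Nat.card (V.map ρ') * Nat.card (V ⊓ ρ'.ker : Subgroup S) :=
        Nat.mul_le_mul (by omega) h2
      omega
    exact (Subgroup.eq_of_le_of_card_ge hUV h3).ge
  -- an element `x`
  obtain ⟨x, hx, ⟨y1, hy1, e1⟩, hxu⟩ := h.small w hwW hw1 hwu
  have hxW : x ∉ W := by
    intro h1
    apply hw1
    rw [← e1, commutatorElement_eq_one_iff_mul_comm]
    exact ((h.mem_W x).mp h1).2 y1 hy1
  obtain ⟨y, hy, ey⟩ : ∃ y ∈ V, ρ' y = ρ' x := hUV ⟨x, hx, rfl⟩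
  by_cases hyW : y ∈ W'
  · -- `[x, U] ≤ {1, w}`
    have h1 : ∀ x' ∈ U, ⁅x, x'⁆ = 1 ∨ ⁅x, x'⁆ = w := by
      intro x' hx'
      apply hall
      refine Subgroup.mem_inf.mpr ⟨h.W_le (h.comm x hx x' hx'), ?_⟩
      obtain ⟨y', hy', ey'⟩ : ∃ y' ∈ V, ρ' y' = ρ' x' := hUV ⟨x', hx', rfl⟩
      rw [MonoidHom.mem_ker, map_commutatorElement, ← ey, ← ey', ← map_commutatorElement]
      have h2 : ⁅y, y'⁆ = 1 := by
        rw [commutatorElement_eq_one_iff_mul_comm]
        exact ((h'.mem_W y).mp hyW).2 y' hy'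
      rw [h2, map_one]
    obtain ⟨w', hw', n1, n2, n3, n4⟩ := exists_notin W h.card_W 1 w u (w * u)
    obtain ⟨x', hx', e⟩ := h.surj x hx hxW w' hw'
    rcases e with e | e
    · rcases h1 x' hx' with h2 | h2
      · exact n1 (e.symm.trans h2)
      · exact n2 (e.symm.trans h2)
    · have h3 : w' = ⁅x, x'⁆ * u := by rw [e, mul_assoc, h.uu, mul_one]
      rcases h1 x' hx' with h2 | h2
      · exact n3 (by rw [h3, h2, one_mul])
      · exact n4 (by rw [h3, h2])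
  · -- `[x, U]` as a subgroup
    let T : Subgroup S :=
      { carrier := {g | ∃ y ∈ U, ⁅x, y⁆ = g}
        one_mem' := ⟨1, one_mem _, by simp⟩
        mul_mem' := by
          rintro _ _ ⟨a, ha, rfl⟩ ⟨b, hb, rfl⟩
          exact ⟨a * b, mul_mem ha hb, h.comm_mul hx ha hb⟩
        inv_mem' := by
          rintro _ ⟨a, ha, rfl⟩
          refine ⟨a, ha, ?_⟩
          exact eq_inv_of_mul_eq_one_left (h.sq_W _ (h.comm x hx a ha)) }
    have hTW : T ≤ W := by
      rintro _ ⟨a, ha, rfl⟩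
      exact h.comm x hx a ha
    have huT : u ∉ T := by
      rintro ⟨a, ha, e⟩
      exact hxu a ha e
    have hTc : Nat.card T ∣ 8 := by
      rw [← h.card_W]
      exact Subgroup.card_dvd_of_le hTW
    have hTne : Nat.card T ≠ 8 := by
      intro h8
      have : T = W := Subgroup.eq_of_le_of_card_ge hTW (by rw [h8, h.card_W])
      exact huT (this ▸ h.u_W)
    obtain ⟨w1, hw1', a1, a2, _, _⟩ := exists_notin W' h'.card_W 1 v 1 1
    obtain ⟨w2, hw2', b1, b2, b3, b4⟩ := exists_notin W' h'.card_W 1 v w1 (w1 * v)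
    -- a preimage
    have hr : ∀ w' ∈ W', ∃ r ∈ T, ρ' r = ρ' w' := by
      intro w' hw'
      obtain ⟨y', hy', e⟩ := h'.surj y hy hyW w' hw'
      obtain ⟨x', hx', ex'⟩ : ∃ x' ∈ U, ρ' x' = ρ' y' := hVU ⟨y', hy', rfl⟩
      refine ⟨⁅x, x'⁆, ⟨x', hx', rfl⟩, ?_⟩
      rw [map_commutatorElement, ← ey, ex', ← map_commutatorElement]
      rcases e with e | e
      · rw [e]
      · rw [e, map_mul, h'.hru, mul_one]
    obtain ⟨r1, hr1, er1⟩ := hr w1 hw1'
    obtain ⟨r2, hr2, er2⟩ := hr w2 hw2'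
    have hkV : ∀ x ∈ W', ρ' x = 1 → x = 1 ∨ x = v := fun x hx => h'.ker x (h'.W_le hx)
    have c1 : ρ' r1 ≠ 1 := by
      rw [er1]; intro h1
      rcases hkV w1 hw1' h1 with h2 | h2
      · exact a1 h2
      · exact a2 h2
    have c2 : ρ' r2 ≠ 1 := by
      rw [er2]; intro h1
      rcases hkV w2 hw2' h1 with h2 | h2
      · exact b1 h2
      · exact b2 h2
    have c3 : ρ' r1 ≠ ρ' r2 := by
      rw [er1, er2]; intro h1
      have h2 : ρ' (w1⁻¹ * w2) = 1 := by rw [map_mul, map_inv, h1, inv_mul_cancel]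
      rcases hkV _ (mul_mem (inv_mem hw1') hw2') h2 with h3 | h3
      · exact b3 (inv_mul_eq_one.mp h3).symm
      · exact b4 (inv_mul_eq_iff_eq_mul.mp h3)
    have cT := card_map T ρ'
    have d1 : 3 ≤ Nat.card (T.map ρ') :=
      three_le _ ⟨r1, hr1, rfl⟩ ⟨r2, hr2, rfl⟩ c1 c2 c3
    have d2 : 2 ≤ Nat.card (T ⊓ ρ'.ker : Subgroup S) :=
      two_le _ (a := w) ⟨⟨y1, hy1, e1⟩, hwk⟩ hw1
    have d3 : 3 * 2 ≤ Nat.card (T.map ρ') * Nat.card (T ⊓ ρ'.ker : Subgroup S) :=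
      Nat.mul_le_mul d1 d2
    rw [← cT] at d3
    have d4 : Nat.card T ≤ 8 := Nat.le_of_dvd (by norm_num) hTc
    interval_cases Nat.card T <;> omega

/-- (F) -/
theorem HS.mem_or [Finite S] [Finite H'] (h : HS u v U W I ρ) (h' : HS v u V W' I' ρ') {w : S} (hw : w ∈ W) :
    w ∈ U ⊓ ρ'.ker ∨ w * u ∈ U ⊓ ρ'.ker := by
  have := h.normal
  have hn : (U ⊓ ρ'.ker).Normal := inferInstance
  have huK : u ∉ U ⊓ ρ'.ker := fun hu => h'.hrv hu.2
  by_cases hle : U ⊓ ρ'.ker ≤ W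
  · have h1 : Nat.card (U ⊓ ρ'.ker : Subgroup S) ∣ 8 := by
      rw [← h.card_W]
      exact Subgroup.card_dvd_of_le hle
    have h2 := h.card_ne_two h'
    have h3 : Nat.card (U ⊓ ρ'.ker : Subgroup S) ≠ 1 := by
      intro h3
      exact h.ne_bot h' (Subgroup.card_eq_one.mp h3)
    have h4 : Nat.card (U ⊓ ρ'.ker : Subgroup S) ≠ 8 := by
      intro h4
      have : U ⊓ ρ'.ker = W := Subgroup.eq_of_le_of_card_ge hle (by rw [h4, h.card_W])
      exact huK (this ▸ h.u_W)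
    have h5 : Nat.card (U ⊓ ρ'.ker : Subgroup S) = 4 := by
      have : Nat.card (U ⊓ ρ'.ker : Subgroup S) ≤ 8 := Nat.le_of_dvd (by norm_num) h1
      interval_cases Nat.card (U ⊓ ρ'.ker : Subgroup S) <;> omega
    have h6 : ((U ⊓ ρ'.ker).subgroupOf W).index = 2 := by
      have h7 := Subgroup.index_mul_card ((U ⊓ ρ'.ker).subgroupOf W)
      rw [Nat.card_congr (Subgroup.subgroupOfEquivOfLe hle).toEquiv, h5, h.card_W] at h7
      omega
    have h7 := Subgroup.mul_mem_iff_of_index_two h6 (a := ⟨w, hw⟩) (b := ⟨u, h.u_W⟩)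
    simp only [mem_subgroupOf, MulMemClass.mk_mul_mk] at h7
    by_cases h8 : w ∈ U ⊓ ρ'.ker
    · exact Or.inl h8
    · exact Or.inr (h7.mpr ⟨fun h9 => absurd h9 h8, fun h9 => absurd h9 huK⟩)
  · obtain ⟨x, hx, hxW⟩ := SetLike.not_le_iff_exists.mp hle
    obtain ⟨y, hy, e⟩ := h.surj x hx.1 hxW w hw
    have h1 : ⁅x, y⁆ ∈ U ⊓ ρ'.ker := by
      rw [commutatorElement_def, mul_assoc, mul_assoc]
      refine mul_mem hx ?_
      rw [← mul_assoc]
      exact hn.conj_mem _ (inv_mem hx) y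
    rcases e with e | e
    · exact Or.inl (e ▸ h1)
    · exact Or.inr (e ▸ h1)

theorem HS.key [Finite S] [Finite H'] (h : HS u v U W I ρ) (h' : HS v u V W' I' ρ') : u ∉ V ∧ v ∈ U := by
  have := h.normal
  have := h'.normal
  -- (f)
  have hf : ¬ W ≤ V := by
    intro hle
    have h1 : ∀ w ∈ W, w ∈ U ⊓ ρ'.ker → w = 1 ∨ w = v := fun w hw hK => h'.ker w (hle hw) hK.2
    obtain ⟨w, hw, n1, n2, n3, n4⟩ := exists_notin W h.card_W 1 v u (v * u)
    rcases h.mem_or h' hw with h2 | h2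
    · rcases h1 w hw h2 with h3 | h3
      · exact n1 h3
      · exact n2 h3
    · have h4 : w = w * u * u := by rw [mul_assoc, h.uu, mul_one]
      rcases h1 _ (mul_mem hw h.u_W) h2 with h3 | h3
      · exact n3 (by rw [h4, h3, one_mul])
      · exact n4 (by rw [h4, h3])
  -- (g)
  have hg : ∀ y ∈ V, ∀ w ∈ W, y * w * y⁻¹ = w := by
    intro y hy
    have h1 : ∀ w ∈ U ⊓ ρ'.ker, y * w * y⁻¹ = w := by
      intro w hw
      have h2 := h'.cen hw.2 hy
      rw [mul_inv_eq_iff_eq_mul] at h2 ⊢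
      exact h2.symm
    intro w hw
    rcases h.mem_or h' hw with h2 | h2
    · exact h1 w h2
    · have h3 := h1 _ h2
      have h4 : y * (w * u) * y⁻¹ = y * w * y⁻¹ * u := by
        rw [mul_assoc, mul_assoc w u, ← h.ucen y⁻¹]
        group
      rw [h4] at h3
      exact mul_right_cancel h3
  -- (h)
  have hh : ∀ y ∈ V, ρ y ∈ I := by
    intro y hy
    by_contra hcon
    have h1 := h.out y hcon (hg y hy) (U ⊓ V) inferInstance inf_le_left (by
      intro x hx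
      refine Subgroup.mem_inf.mpr ⟨mul_mem (h.normal.conj_mem x hx y) (inv_mem hx), ?_⟩
      have : y * x * y⁻¹ * x⁻¹ = y * (x * y⁻¹ * x⁻¹) := by group
      rw [this]
      exact mul_mem hy (h'.normal.conj_mem _ (inv_mem hy) x))
    exact hf (h1.trans inf_le_right)
  -- (i)
  obtain ⟨y, hy, x, hx, e, hxW⟩ : ∃ y ∈ V, ∃ x ∈ U, ρ y = ρ x ∧ x ∉ W := by
    by_contra hcon
    push Not at hcon
    have h1 : ⁅V, V⁆ ≤ ρ.ker := by
      rw [Subgroup.commutator_le]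
      intro y1 hy1 y2 hy2
      obtain ⟨x1, hx1, e1⟩ := h.inn y1 (hh y1 hy1)
      obtain ⟨x2, hx2, e2⟩ := h.inn y2 (hh y2 hy2)
      have h2 := hcon y1 hy1 x1 hx1 e1
      have h3 : ⁅x1, x2⁆ = 1 := by
        rw [commutatorElement_eq_one_iff_mul_comm]
        exact ((h.mem_W x1).mp h2).2 x2 hx2
      rw [MonoidHom.mem_ker, map_commutatorElement, e1, e2, ← map_commutatorElement, h3, map_one]
    exact h.hrv (h1 h'.u_mem)
  have hV : ∀ w ∈ W, w ∈ V ∨ w * u ∈ V := by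
    intro w hw
    obtain ⟨x', hx', e'⟩ := h.surj x hx hxW w hw
    have h1 : ⁅x, x'⁆ ∈ V := by
      have h2 := h.act y x e x' hx'
      rw [commutatorElement_def, ← h2]
      have : y * x' * y⁻¹ * x'⁻¹ = y * (x' * y⁻¹ * x'⁻¹) := by group
      rw [this]
      exact mul_mem hy (h'.normal.conj_mem _ (inv_mem hy) x')
    rcases e' with e' | e'
    · exact Or.inl (e' ▸ h1)
    · exact Or.inr (e' ▸ h1)
  have huV : u ∉ V := by
    intro huV
    apply hf
    intro w hw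
    rcases hV w hw with h1 | h1
    · exact h1
    · exact (Subgroup.mul_mem_cancel_right V huV).mp h1
  refine ⟨huV, ?_⟩
  obtain ⟨w1, hw1, hK1, n1⟩ : ∃ w1 ∈ W, w1 ∈ U ⊓ ρ'.ker ∧ w1 ≠ 1 := by
    obtain ⟨w, hw, n1, n2, _, _⟩ := exists_notin W h.card_W 1 u 1 1
    rcases h.mem_or h' hw with h1 | h1
    · exact ⟨w, hw, h1, n1⟩
    · refine ⟨w * u, mul_mem hw h.u_W, h1, fun h2 => n2 ?_⟩
      have : w = w * u * u := by rw [mul_assoc, h.uu, mul_one]
      rw [this, h2, one_mul]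
  obtain ⟨w2, hw2, hK2, m1, m2⟩ : ∃ w2 ∈ W, w2 ∈ U ⊓ ρ'.ker ∧ w2 ≠ 1 ∧ w2 ≠ w1 := by
    obtain ⟨w, hw, n1, n2, n3, n4⟩ := exists_notin W h.card_W 1 u w1 (w1 * u)
    rcases h.mem_or h' hw with h1 | h1
    · exact ⟨w, hw, h1, n1, n3⟩
    · have h3 : w = w * u * u := by rw [mul_assoc, h.uu, mul_one]
      refine ⟨w * u, mul_mem hw h.u_W, h1, fun h2 => n2 ?_, fun h2 => n4 ?_⟩
      · rw [h3, h2, one_mul]
      · rw [h3, h2]
  have hend : ∀ w ∈ U ⊓ ρ'.ker, w ≠ 1 → w ∈ V → v ∈ U := by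
    intro w hw hw1 hwV
    rcases h'.ker w hwV hw.2 with h1 | h1
    · exact absurd h1 hw1
    · exact h1 ▸ hw.1
  by_cases h1 : w1 ∈ V
  · exact hend w1 hK1 n1 h1
  by_cases h2 : w2 ∈ V
  · exact hend w2 hK2 m1 h2
  have h3 := (hV w1 hw1).resolve_left h1
  have h4 := (hV w2 hw2).resolve_left h2
  refine hend (w1 * w2) (mul_mem hK1 hK2) ?_ ?_
  · intro h5
    apply m2
    have h6 : w1 * w1 = 1 := h.sq_W w1 hw1
    exact mul_left_cancel (h5.trans h6.symm)
  · have h5 : w1 * w2 = w1 * u * (w2 * u) := by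
      calc w1 * w2 = w1 * w2 * (u * u) := by rw [h.uu, mul_one]
        _ = w1 * (w2 * u) * u := by group
        _ = w1 * (u * w2) * u := by rw [h.ucen w2]
        _ = w1 * u * (w2 * u) := by group
    rw [h5]
    exact mul_mem h3 h4

theorem HS.false [Finite S] [Finite H] [Finite H'] (h : HS u v U W I ρ) (h' : HS v u V W' I' ρ') : False :=
  (h'.key h).1 (h.key h').2

end key

section transfer

variable {S : Type*} [Group S] {U : Subgroup S} {K : Type*} [Group K]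

/-- preimage of a subgroup of `K`, as a subgroup of `S` -/
def pull (ι : ↥U →* K) (A : Subgroup K) : Subgroup S := (A.comap ι).map U.subtype

theorem mem_pull {ι : ↥U →* K} {A : Subgroup K} {x : S} :
    x ∈ pull ι A ↔ ∃ hx : x ∈ U, ι ⟨x, hx⟩ ∈ A := by
  constructor
  · rintro ⟨y, hy, rfl⟩
    exact ⟨y.2, hy⟩
  · rintro ⟨hx, h⟩
    exact ⟨⟨x, hx⟩, h, rfl⟩

theorem pull_le (ι : ↥U →* K) (A : Subgroup K) : pull ι A ≤ U := fun _ hx => (mem_pull.mp hx).1

theorem pull_mono (ι : ↥U →* K) {A B : Subgroup K} (h : A ≤ B) : pull ι A ≤ pull ι B := by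
  intro x hx
  obtain ⟨h1, h2⟩ := mem_pull.mp hx
  exact mem_pull.mpr ⟨h1, h h2⟩

theorem card_pull {ι : ↥U →* K} (hι : Function.Injective ι) {A : Subgroup K}
    (hA : A ≤ ι.range) : Nat.card (pull ι A) = Nat.card A := by
  have h1 : (A.comap ι).map ι = A := Subgroup.map_comap_eq_self hA
  rw [pull, ← Nat.card_congr ((A.comap ι).equivMapOfInjective U.subtype
    U.subtype_injective).toEquiv, Nat.card_congr ((A.comap ι).equivMapOfInjective ι hι).toEquiv, h1]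

end transfer

section toHS

variable {S : Type*} [Group S] {u v : S} {U : Subgroup S} {K : Type*} [Group K] {z t : K}
  {P Z : Subgroup K} {ρ : S →* MulAut K} {ι : ↥U →* K}

theorem toHS (hS : IsPGroup 2 S) (h : Half u v U z t P Z ρ ι) :
    HS u v U (pull ι Z) (Inn K) ρ := by
  obtain ⟨hu, ez⟩ := h.hu
  have hrange := h.range
  have hinj := h.inj
  have hP : ∀ x : U, ι x ∈ P := fun x => hrange ▸ ⟨x, rfl⟩
  have hP' : ∀ x ∈ P, ∃ x0 : U, ι x0 = x := fun x hx => by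
    rw [← hrange] at hx; exact hx
  have hzc : z ∈ center K := (h.kf.mem_center z).mpr (Or.inr rfl)
  have hconj1 : ∀ k : K, (MulAut.conj k : MulAut K) = 1 ↔ k ∈ center K := by
    intro k
    constructor
    · intro h1
      rw [mem_center_iff]
      intro g
      have h2 : (MulAut.conj k : MulAut K) g = g := by rw [h1]; rfl
      rw [MulAut.conj_apply, mul_inv_eq_iff_eq_mul] at h2
      exact h2.symm
    · intro h1
      ext g
      rw [MulAut.conj_apply, MulAut.one_apply, mul_inv_eq_iff_eq_mul]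
      exact ((mem_center_iff.mp h1) g).symm
  have hZP : Z ≤ P := fun x hx => ((h.loc.mem_Z x).mp hx).1
  have hcomm : ∀ x y : U, ι ⁅x, y⁆ = ⁅ι x, ι y⁆ := fun x y => map_commutatorElement ι x y
  have hact : ∀ s s', ρ s = ρ s' → ∀ x ∈ U, s * x * s⁻¹ = s' * x * s'⁻¹ := by
    intro s s' e x hx
    have h1 := h.equi s ⟨x, hx⟩ (h.normal.conj_mem x hx s)
    have h2 := h.equi s' ⟨x, hx⟩ (h.normal.conj_mem x hx s')
    rw [e, ← h2] at h1
    exact congrArg Subtype.val (hinj h1)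
  refine
    { normal := h.normal
      ucen := h.ucen
      hu := hu
      uu := ?_
      hru := ?_
      hrv := ?_
      mem_W := ?_
      card_U := ?_
      card_W := ?_
      sq_W := ?_
      comm := ?_
      surj := ?_
      u_mem := ?_
      small := ?_
      ab := ?_
      out := ?_
      ker := ?_
      act := hact
      inn := ?_
      rank := h.kf.rank
      rank_inn := h.kf.rank_inn }
  · -- uu
    have h1 : (⟨u, hu⟩ : U) * ⟨u, hu⟩ = 1 := by
      apply hinj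
      rw [map_mul, ez, h.kf.z_sq, map_one]
    exact congrArg Subtype.val h1
  · -- hru
    have h1 := h.conj ⟨u, hu⟩
    rw [ez] at h1
    exact h1.trans ((hconj1 z).mpr hzc)
  · -- hrv
    rw [h.hv]
    intro h1
    exact h.nc ((hconj1 t).mp h1)
  · -- mem_W
    intro x
    rw [mem_pull]
    constructor
    · rintro ⟨hx, h1⟩
      refine ⟨hx, fun y hy => ?_⟩
      have h2 := ((h.loc.mem_Z _).mp h1).2 (ι ⟨y, hy⟩) (hP _)
      rw [← map_mul, ← map_mul] at h2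
      exact congrArg Subtype.val (hinj h2)
    · rintro ⟨hx, h1⟩
      refine ⟨hx, (h.loc.mem_Z _).mpr ⟨hP _, fun k hk => ?_⟩⟩
      obtain ⟨y, rfl⟩ := hP' k hk
      rw [← map_mul, ← map_mul]
      congr 1
      exact Subtype.ext (h1 y y.2)
  · -- card_U
    rw [← h.loc.card_P, ← hrange]
    exact Nat.card_congr (MonoidHom.ofInjective hinj).toEquiv
  · -- card_W
    rw [card_pull hinj (hrange ▸ hZP), h.loc.card_Z]
  · -- sq_W
    intro x hx
    obtain ⟨hx, h1⟩ := mem_pull.mp hx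
    have h2 : (⟨x, hx⟩ : U) * ⟨x, hx⟩ = 1 := by
      apply hinj
      rw [map_mul, h.loc.sq_Z _ h1, map_one]
    exact congrArg Subtype.val h2
  · -- comm
    intro x hx y hy
    refine mem_pull.mpr ⟨(⁅(⟨x, hx⟩ : U), (⟨y, hy⟩ : U)⁆).2, ?_⟩
    have h1 := hcomm ⟨x, hx⟩ ⟨y, hy⟩
    have h2 := h.loc.comm _ (hP ⟨x, hx⟩) _ (hP ⟨y, hy⟩)
    rw [← h1] at h2
    exact h2
  · -- surj
    intro x hx hxW w hw
    obtain ⟨hwU, hwZ⟩ := mem_pull.mp hw
    have hxZ : ι ⟨x, hx⟩ ∉ Z := fun h1 => hxW (mem_pull.mpr ⟨hx, h1⟩)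
    obtain ⟨k, hk, e⟩ := h.loc.surj _ (hP ⟨x, hx⟩) hxZ _ hwZ
    obtain ⟨y, rfl⟩ := hP' k hk
    refine ⟨y, y.2, ?_⟩
    rw [← hcomm, ← ez, ← map_mul] at e
    rcases e with e | e
    · exact Or.inl (congrArg Subtype.val (hinj e))
    · exact Or.inr (congrArg Subtype.val (hinj e))
  · -- u_mem
    have h1 : (⟨u, hu⟩ : U) ∈ ⁅(⊤ : Subgroup U), (⊤ : Subgroup U)⁆ := by
      have h2 : z ∈ ⁅P, P⁆ := h.loc.z_mem
      have h3 : ⁅P, P⁆ = (⁅(⊤ : Subgroup U), (⊤ : Subgroup U)⁆).map ι := by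
        rw [Subgroup.map_commutator, ← MonoidHom.range_eq_map, hrange]
      rw [h3, ← ez] at h2
      obtain ⟨y, hy, e⟩ := h2
      exact hinj e ▸ hy
    have h2 : (⁅(⊤ : Subgroup U), (⊤ : Subgroup U)⁆).map U.subtype = ⁅U, U⁆ := by
      rw [Subgroup.map_commutator, ← MonoidHom.range_eq_map, Subgroup.range_subtype]
    rw [← h2]
    exact ⟨_, h1, rfl⟩
  · -- small
    intro w hw hw1 hwu
    obtain ⟨hwU, hwZ⟩ := mem_pull.mp hw
    obtain ⟨k, hk, ⟨k', hk', e⟩, hall⟩ := h.loc.small _ hwZ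
      (fun h1 => hw1 (congrArg Subtype.val (hinj (h1.trans (map_one ι).symm))))
      (fun h1 => hwu (congrArg Subtype.val (hinj (h1.trans ez.symm))))
    obtain ⟨x, rfl⟩ := hP' k hk
    obtain ⟨y, rfl⟩ := hP' k' hk'
    refine ⟨x, x.2, ⟨y, y.2, ?_⟩, ?_⟩
    · rw [← hcomm] at e
      exact congrArg Subtype.val (hinj e)
    · intro y' hy' e'
      apply hall _ (hP ⟨y', hy'⟩)
      rw [← hcomm, ← ez]
      congr 1
      exact Subtype.ext e'
  · -- ab
    obtain ⟨A, B, hA, hB, hZA, hZB, cA, cB, eA, eB, hAB⟩ := h.loc.ab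
    refine ⟨pull ι A, pull ι B, pull_le _ _, pull_le _ _, pull_mono _ hZA, pull_mono _ hZB,
      ?_, ?_, ?_, ?_, ?_⟩
    · rw [card_pull hinj (hrange ▸ hA), cA]
    · rw [card_pull hinj (hrange ▸ hB), cB]
    · intro x hx
      obtain ⟨hx, h1⟩ := mem_pull.mp hx
      have h2 : (⟨x, hx⟩ : U) * ⟨x, hx⟩ = 1 := by
        apply hinj
        rw [map_mul, eA _ h1, map_one]
      exact congrArg Subtype.val h2
    · intro x hx
      obtain ⟨hx, h1⟩ := mem_pull.mp hx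
      have h2 : (⟨x, hx⟩ : U) * ⟨x, hx⟩ = 1 := by
        apply hinj
        rw [map_mul, eB _ h1, map_one]
      exact congrArg Subtype.val h2
    · intro x hx
      obtain ⟨a, ha, b, hb, e⟩ := hAB _ (hP ⟨x, hx⟩)
      obtain ⟨a0, rfl⟩ := hP' a (hA ha)
      obtain ⟨b0, rfl⟩ := hP' b (hB hb)
      refine ⟨a0, mem_pull.mpr ⟨a0.2, ha⟩, b0, mem_pull.mpr ⟨b0.2, hb⟩, ?_⟩
      rw [← map_mul] at e
      exact congrArg Subtype.val (hinj e)
  · -- out
    intro y hy hfix N hN hNU hyN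
    have h1 := h.loc.out (ρ y) hy (by
      obtain ⟨n, hn⟩ := hS y
      exact ⟨n, by rw [← map_pow, hn, map_one]⟩) (by
      intro k hk
      obtain ⟨x, rfl⟩ := hP' k hk
      rw [← h.equi y x (h.normal.conj_mem x x.2 y)]
      exact hP _) (by
      intro k hk
      obtain ⟨x, rfl⟩ := hP' k (hZP hk)
      left
      rw [← h.equi y x (h.normal.conj_mem x x.2 y)]
      congr 1
      exact Subtype.ext (hfix x (mem_pull.mpr ⟨x.2, hk⟩))) ((N.subgroupOf U).map ι) (by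
      rintro _ ⟨x, _, rfl⟩
      exact hP x) (by
      rintro k hk _ ⟨n, hn, rfl⟩
      obtain ⟨x, rfl⟩ := hP' k hk
      exact ⟨x * n * x⁻¹, hN.conj_mem _ hn _, by simp only [map_mul, map_inv]⟩) (by
      intro k hk
      obtain ⟨x, rfl⟩ := hP' k hk
      rw [← h.equi y x (h.normal.conj_mem x x.2 y), ← map_inv, ← map_mul]
      exact ⟨_, hyN x x.2, rfl⟩)
    intro w hw
    obtain ⟨hwU, hwZ⟩ := mem_pull.mp hw
    obtain ⟨n, hn, e⟩ := h1 hwZ
    have h2 := hinj e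
    have h3 : (n : S) ∈ N := hn
    rw [h2] at h3
    exact h3
  · -- ker
    intro x hx h1
    have h2 := h.conj ⟨x, hx⟩
    have h3 : (MulAut.conj (ι ⟨x, hx⟩) : MulAut K) = 1 := h2.symm.trans h1
    rw [hconj1, h.kf.mem_center] at h3
    rcases h3 with h3 | h3
    · exact Or.inl (congrArg Subtype.val (hinj (h3.trans (map_one ι).symm)))
    · exact Or.inr (congrArg Subtype.val (hinj (h3.trans ez.symm)))
  · -- inn
    rintro s ⟨b, hb⟩
    have h1 : ρ s * ρ v = ρ v * ρ s := by rw [← map_mul, ← map_mul, h.vcen]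
    rw [← hb, h.hv] at h1
    have h2 : (MulAut.conj ((b * t) * (t * b)⁻¹) : MulAut K) = 1 := by
      rw [map_mul, map_inv, map_mul, map_mul, mul_inv_eq_one]
      exact h1
    rw [hconj1, h.kf.mem_center] at h2
    have h3 : b ∈ P := by
      rw [h.loc.mem_P]
      rcases h2 with h2 | h2
      · exact mul_inv_eq_one.mp h2
      · exfalso
        apply h.loc.nconj b
        rw [mul_inv_eq_iff_eq_mul] at h2
        rw [mul_inv_eq_iff_eq_mul, h2, (mem_center_iff.mp hzc t), mul_assoc]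
    obtain ⟨x, rfl⟩ := hP' b h3
    exact ⟨x, x.2, by rw [h.conj x, ← hb]⟩

end toHS

end HalfEnd

open HalfEnd in
/-- the abstract end of Step 2; the hypothesis on the kernels is not needed -/
theorem Half.false' {S : Type*} [Group S] [Finite S] (hS : IsPGroup 2 S) {u v : S}
    {U V : Subgroup S} {K K' : Type*} [Group K] [Group K'] [Finite K] [Finite K'] {z t : K}
    {z' t' : K'} {P Z : Subgroup K} {P' Z' : Subgroup K'} {ρ : S →* MulAut K}
    {ρ' : S →* MulAut K'} {ι : ↥U →* K} {ι' : ↥V →* K'} (h : Half u v U z t P Z ρ ι)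
    (h' : Half v u V z' t' P' Z' ρ' ι') : False :=
  (toHS hS h).false (toHS hS h')

theorem Half.false {S : Type*} [Group S] [Finite S] (hS : IsPGroup 2 S) {u v : S}
    {U V : Subgroup S} {K K' : Type*} [Group K] [Group K'] [Finite K] [Finite K'] {z t : K}
    {z' t' : K'} {P Z : Subgroup K} {P' Z' : Subgroup K'} {ρ : S →* MulAut K}
    {ρ' : S →* MulAut K'} {ι : ↥U →* K} {ι' : ↥V →* K'} (h : Half u v U z t P Z ρ ι)
    (h' : Half v u V z' t' P' Z' ρ' ι') (_hker : ρ.ker ⊓ ρ'.ker = ⊥) : False :=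
  Half.false' hS h h'

end Cfsg.Agent.UGT.I34.Two
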