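import Cfsg.Agent.UGT.I34.Two.Basic
import Cfsg.Agent.UGT.I34.FixLift

/-!
# [B], Steps 3 and 4: types `f`, `g`, `c` do not occur

`After G`: the results of Steps 1 and 2 and (#).
`After.fixes`, `Env.fixes_of`: all commuting pairs are of type (0).
-/

set_option autoImplicit false

open Cfsg Subgroup
open Cfsg.Agent.SignalizersComponents Cfsg.Agent.Lib
open Cfsg.Agent.SignalizersComponents.IntrinsicBasic
open Cfsg.Agent.Intrinsic
open Cfsg.Agent.Intrinsic.Basic hiding IsPair PQS Target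
open Cfsg.Agent.Intrinsic.Cen hiding pair_comm pair_mem_cen exists_pump pump_unique

open Cfsg.Agent.McLLyComp.Act
open Cfsg.Agent.UGT.I34.Pair
open Cfsg.Agent.UGT.I34.KAut (IsInn IsOut isInn_or_isOut isInn_iff fixed mem_fixed)
open Cfsg.Agent.UGT.I34.FixLift (exists_lift_two)
open scoped commutatorElement

namespace Cfsg.Agent.UGT.I34.Two

universe u

section general

variable {K : Type*} [Group K]

/-- if all squares lie in a subgroup then all commutators lie in it -/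
theorem commutator_mem_of_sq {N : Subgroup K} (h : ∀ x : K, x * x ∈ N) (a b : K) : ⁅a, b⁆ ∈ N := by
  have e : ⁅a, b⁆ = (a * b) * (a * b) * ((b⁻¹ * a⁻¹ * b) * (b⁻¹ * a⁻¹ * b)) * (b⁻¹ * b⁻¹) := by
    rw [commutatorElement_def]; group
  rw [e]
  exact mul_mem (mul_mem (h _) (h _)) (h _)

/-- if all squares lie in `N` and `x` has odd order then `x ∈ N` -/
theorem mem_of_odd_of_sq {N : Subgroup K} (h : ∀ x : K, x * x ∈ N) {x : K} {n : ℕ} (hn : Odd n)
    (hx : x ^ n = 1) : x ∈ N := by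
  obtain ⟨m, rfl⟩ := hn
  have h1 : x⁻¹ = (x * x) ^ m := by
    rw [← pow_two, ← pow_mul]
    exact inv_eq_of_mul_eq_one_left (by rw [← pow_succ, hx])
  rw [← inv_mem_iff, h1]
  exact pow_mem (h x) m

end general

section

variable {G : Type*} [Group G] {X : Subgroup G}

theorem act_sq {v : G} (hv : v ∈ normalizer (X : Set G)) (hvv : v * v = 1) :
    act X ⟨v, hv⟩ * act X ⟨v, hv⟩ = 1 := by
  rw [← map_mul]
  have : (⟨v, hv⟩ : ↥(normalizer (X : Set G))) * ⟨v, hv⟩ = 1 := Subtype.ext hvv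
  rw [this, map_one]

/-- `s ∈ X` fixes `X` iff its image is central -/
theorem fixes_iff_center {s : G} (hs : s ∈ X) :
    Fixes s X ↔ (QuotientGroup.mk ⟨s, hs⟩ : ↥X ⧸ oddCore ↥X) ∈ center (↥X ⧸ oddCore ↥X) := by
  rw [← act_eq_one_iff (le_normalizer hs), act_of_mem hs, mem_center_iff]
  constructor
  · intro h g
    have h1 := DFunLike.congr_fun h g
    rw [MulAut.conj_apply, MulAut.one_apply, mul_inv_eq_iff_eq_mul] at h1
    exact h1.symm
  · intro h
    apply MulEquiv.ext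
    intro g
    rw [MulAut.conj_apply, MulAut.one_apply, mul_inv_eq_iff_eq_mul]
    exact (h g).symm

variable [Finite G]

/-- an involution `s v` with `s ≡ k v k⁻¹ v⁻¹` is conjugate to `v` -/
theorem exists_twist {v s : G} (hv : v ∈ normalizer (X : Set G)) (hvv : v * v = 1) (hs : s ∈ X)
    (hss : s * s = 1) (hsv : s * v = v * s) {k : ↥X ⧸ oddCore ↥X}
    (hk : (QuotientGroup.mk ⟨s, hs⟩ : ↥X ⧸ oddCore ↥X) = k * (act X ⟨v, hv⟩ k)⁻¹) :
    ∃ g ∈ X, g * v * g⁻¹ = s * v := by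
  obtain ⟨⟨y, hy⟩, rfl⟩ := QuotientGroup.mk_surjective k
  have hvi : v⁻¹ = v := inv_eq_of_mul_eq_one_left hvv
  rw [act_mk hv hy, ← QuotientGroup.mk_inv, ← QuotientGroup.mk_mul] at hk
  have h1 := (mk_eq_iff hs (mul_mem hy (inv_mem (conj_mem hv hy)))).mp hk
  have hN := normalizer_le_normalizer_core X
  have hyN : y ∈ normalizer (X : Set G) := le_normalizer hy
  have hv' : y * v * y⁻¹ ∈ normalizer (core X : Set G) :=
    hN (mul_mem (mul_mem hyN hv) (inv_mem hyN))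
  have e1 : (y * v * y⁻¹) ^ 2 ^ 1 = 1 := by
    rw [pow_one, pow_two]
    calc y * v * y⁻¹ * (y * v * y⁻¹) = y * (v * v) * y⁻¹ := by group
      _ = 1 := by rw [hvv]; group
  have e2 : (s * v) ^ 2 ^ 1 = 1 := by
    rw [pow_one, pow_two]
    calc s * v * (s * v) = s * (v * s) * v := by group
      _ = (s * s) * (v * v) := by rw [← hsv]; group
      _ = 1 := by rw [hss, hvv, one_mul]
  have e3 : (y * v * y⁻¹)⁻¹ * (s * v) ∈ core X := by
    have h2 : (y * v * y⁻¹)⁻¹ * (s * v) =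
        v⁻¹ * (s⁻¹ * (y * (v * y * v⁻¹)⁻¹))⁻¹ * v⁻¹⁻¹ := by
      simp only [mul_inv_rev, inv_inv, hvi]
      calc y * (v * y⁻¹) * (s * v) = 1 * (y * (v * y⁻¹) * (s * v)) := by rw [one_mul]
        _ = v * v * (y * (v * y⁻¹) * (s * v)) := by rw [hvv]
        _ = _ := by simp only [mul_assoc]
    rw [h2]
    exact conj_mem_core (inv_mem hv) (inv_mem h1)
  obtain ⟨o, ho, h3⟩ := Lifting.exists_conj_eq (odd_card_core X) e1 e2 hv' e3
  refine ⟨o * y, mul_mem (core_le X ho) hy, ?_⟩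
  rw [← h3]; group

end

/-- the results of Steps 1 and 2 and (#) -/
structure After (G : Type u) [Group G] : Prop where
  kf : ∀ {u : G} {X : Subgroup G}, IsPair two u X → ∃ c, KF (↥X ⧸ oddCore ↥X) c
  /-- Step 1 -/
  move : ∀ {u v : G} {X X' : Subgroup G}, IsPair two u X → IsPair two v X' → u * v = v * u →
    v ∈ normalizer (X : Set G)
  /-- Step 2 -/
  inn : ∀ {u v : G} {X X' : Subgroup G}, IsPair two u X → IsPair two v X' → u * v = v * u →
    IsInn v X → Fixes v X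
  /-- (#) -/
  sharp : ∀ {u v : G} {X X' : Subgroup G} {s : G}, IsPair two u X → IsPair two v X' →
    u * v = v * u → IsOut v X → s ∈ X → s * v = v * s → s * s = 1 → ¬ Fixes s X → ¬ Fixes s X'

namespace After

variable {G : Type u} [Group G] {u v : G} {X X' : Subgroup G} [Finite G]

/-- the twisted involution is again a conjugate of `v` and normalises `X'` -/
theorem twist (h : After G) (hX' : IsPair two v X')
    (hv : v ∈ normalizer (X : Set G)) {s : G} (hs : s ∈ X)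
    (hss : s * s = 1) (hsv : s * v = v * s) {k : ↥X ⧸ oddCore ↥X}
    (hk : (QuotientGroup.mk ⟨s, hs⟩ : ↥X ⧸ oddCore ↥X) = k * (act X ⟨v, hv⟩ k)⁻¹) :
    (∃ Y, IsPair two (s * v) Y) ∧ s * v ∈ normalizer (X' : Set G) ∧ s ∈ normalizer (X' : Set G) := by
  obtain ⟨g, hg, hgv⟩ := exists_twist hv hX'.sq hs hss hsv hk
  have h1 : IsPair two (s * v) (cj g X') := by rw [← hgv]; exact hX'.cj g
  have h2 : v * (s * v) = s * v * v := by rw [← mul_assoc, ← hsv]
  have h3 := h.move hX' h1 h2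
  refine ⟨⟨_, h1⟩, h3, ?_⟩
  have h4 := mul_mem h3 (inv_mem (le_normalizer hX'.mem))
  rwa [mul_inv_cancel_right] at h4

/-- **Step 3** -/
theorem not_fg (h : After G) (hX : IsPair two u X) (hX' : IsPair two v X') (huv : u * v = v * u)
    (ho : IsOut v X) : ¬ FG (act X ⟨v, ho.1⟩) := by
  rintro ⟨S, hS, hperf, s₀, hs₀, hs₀c⟩
  have hvv := hX'.sq
  obtain ⟨c', F'⟩ := h.kf hX'
  obtain ⟨T, hT⟩ : ∃ T : Set G, T = {s | ∃ hs : s ∈ X, s * v = v * s ∧ s * s = 1 ∧
    (QuotientGroup.mk ⟨s, hs⟩ : ↥X ⧸ oddCore ↥X) ∈ S} := ⟨_, rfl⟩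
  have hTX : T ⊆ (X : Set G) := by
    rw [hT]; rintro s ⟨hs, -⟩; exact hs
  obtain ⟨J, hJ⟩ : ∃ J, J = closure T := ⟨_, rfl⟩
  have hJX : J ≤ X := by rw [hJ]; exact (closure_le _).mpr hTX
  have hTn : ∀ s ∈ T, (∃ Y, IsPair two (s * v) Y) ∧ s * v ∈ normalizer (X' : Set G) ∧
      s ∈ normalizer (X' : Set G) := by
    intro s hs
    rw [hT] at hs
    obtain ⟨hsX, hsv, hss, hsS⟩ := hs
    obtain ⟨-, -, k, hk⟩ := hS _ hsS
    exact h.twist hX' ho.1 hsX hss hsv hk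
  have hJn : J ≤ normalizer (X' : Set G) := by
    rw [hJ]; exact (closure_le _).mpr fun s hs => (hTn s hs).2.2
  -- every element of `S` lifts
  have hlift : ∀ x ∈ S, ∃ s ∈ T, ∃ hs : s ∈ X, (QuotientGroup.mk ⟨s, hs⟩ : ↥X ⧸ oddCore ↥X) = x := by
    intro x hx
    obtain ⟨hxx, hxa, -⟩ := hS x hx
    obtain ⟨s, hs, hsv, hs2, rfl⟩ := exists_lift_two ho.1 (n := 1) (by rw [pow_one, pow_two, hvv])
      (x := x) hxa (m := 1) (by rw [pow_one, pow_two, hxx])
    refine ⟨s, ?_, hs, rfl⟩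
    rw [hT]
    exact ⟨hs, hsv, by rwa [pow_one, pow_two] at hs2, hx⟩
  -- the image of `J`
  have hmap : (J.subgroupOf X).map (QuotientGroup.mk' (oddCore ↥X)) = closure S := by
    apply le_antisymm
    · rintro _ ⟨⟨j, hjX⟩, hj, rfl⟩
      have hj' : j ∈ J := hj
      have key : ∀ j ∈ J, ∀ hjX : j ∈ X, (QuotientGroup.mk ⟨j, hjX⟩ : ↥X ⧸ oddCore ↥X) ∈ closure S := by
        intro j hj
        rw [hJ] at hj
        refine closure_induction (p := fun j _ => ∀ hjX : j ∈ X,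
          (QuotientGroup.mk ⟨j, hjX⟩ : ↥X ⧸ oddCore ↥X) ∈ closure S) ?_ ?_ ?_ ?_ hj
        · intro x hx hxX
          rw [hT] at hx
          exact subset_closure hx.2.2.2
        · intro _; exact one_mem _
        · intro x y hx hy ihx ihy _
          have hxX : x ∈ X := hJX (by rw [hJ]; exact hx)
          have hyX : y ∈ X := hJX (by rw [hJ]; exact hy)
          exact mul_mem (ihx hxX) (ihy hyX)
        · intro x hx ihx _
          have hxX : x ∈ X := hJX (by rw [hJ]; exact hx)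
          exact inv_mem (ihx hxX)
      exact key j hj' hjX
    · rw [closure_le]
      intro x hx
      obtain ⟨s, hsT, hsX, rfl⟩ := hlift x hx
      exact ⟨⟨s, hsX⟩, by rw [SetLike.mem_coe, mem_subgroupOf, hJ]; exact subset_closure hsT, rfl⟩
  -- the action of `J` on `X'` is inner
  have hsq : ∀ α : MulAut (↥X' ⧸ oddCore ↥X'), α * α ∈ Inn (↥X' ⧸ oddCore ↥X') := F'.out_sq
  have hinn : ∀ j (hj : j ∈ J), act X' ⟨j, hJn hj⟩ ∈ Inn (↥X' ⧸ oddCore ↥X') := by
    intro j hj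
    have hjX := hJX hj
    have h1 : (QuotientGroup.mk ⟨j, hjX⟩ : ↥X ⧸ oddCore ↥X) ∈ closure S := by
      rw [← hmap]; exact ⟨⟨j, hjX⟩, hj, rfl⟩
    rw [← hperf, ← hmap, ← map_commutator] at h1
    obtain ⟨⟨c, hcX⟩, hc, hcj⟩ := h1
    have hc' : c ∈ ⁅J, J⁆ := by
      have h2 : (⁅J.subgroupOf X, J.subgroupOf X⁆).map X.subtype = ⁅J, J⁆ := by
        rw [map_commutator, subgroupOf_map_subtype, inf_of_le_left hJX]
      rw [← h2]
      exact ⟨⟨c, hcX⟩, hc, rfl⟩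
    have hcJ : c ∈ J := by
      have h2 : ⁅J, J⁆ ≤ J := commutator_le_self J
      exact h2 hc'
    have ho' : c⁻¹ * j ∈ core X := (mk_eq_iff hcX hjX).mp hcj
    have hoJ : c⁻¹ * j ∈ J := mul_mem (inv_mem hcJ) hj
    -- the commutator part
    have h3 : act X' ⟨c, hJn hcJ⟩ ∈ Inn (↥X' ⧸ oddCore ↥X') := by
      have h4 : ⁅J, J⁆ ≤ ((Inn (↥X' ⧸ oddCore ↥X')).comap (act X')).map
          (normalizer (X' : Set G)).subtype := by
        rw [commutator_le]
        intro a ha b hb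
        refine ⟨⁅(⟨a, hJn ha⟩ : ↥(normalizer (X' : Set G))), ⟨b, hJn hb⟩⁆, ?_, rfl⟩
        rw [SetLike.mem_coe, mem_comap, map_commutatorElement]
        exact commutator_mem_of_sq hsq _ _
      obtain ⟨n, hn, hnc⟩ := h4 hc'
      have h5 : n = ⟨c, hJn hcJ⟩ := Subtype.ext hnc
      rw [← h5]
      exact hn
    have h4 : act X' ⟨c⁻¹ * j, hJn hoJ⟩ ∈ Inn (↥X' ⧸ oddCore ↥X') := by
      refine mem_of_odd_of_sq hsq (odd_card_core X) ?_
      rw [← map_pow]
      have h5 : (c⁻¹ * j) ^ Nat.card (core X) = 1 := by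
        have := pow_card_eq_one' (x := (⟨c⁻¹ * j, ho'⟩ : ↥(core X)))
        exact congrArg Subtype.val this
      have h6 : (⟨c⁻¹ * j, hJn hoJ⟩ : ↥(normalizer (X' : Set G))) ^ Nat.card (core X) = 1 :=
        Subtype.ext h5
      rw [h6, map_one]
    have h5 : act X' ⟨j, hJn hj⟩ = act X' ⟨c, hJn hcJ⟩ * act X' ⟨c⁻¹ * j, hJn hoJ⟩ := by
      rw [← map_mul]
      congr 1
      apply Subtype.ext
      change j = c * (c⁻¹ * j)
      group
    rw [h5]
    exact mul_mem h3 h4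
  -- the end
  obtain ⟨s, hsT, hsX, hs₀'⟩ := hlift s₀ hs₀
  have hsJ : s ∈ J := by rw [hJ]; exact subset_closure hsT
  obtain ⟨⟨Y, hY⟩, -, hsn⟩ := hTn s hsT
  have hsT' := hsT
  rw [hT] at hsT'
  obtain ⟨-, hsv, hss, -⟩ := hsT'
  have hfv : Fixes v X' := fixes_self hX'
  have h1 : IsInn (s * v) X' := by
    refine ⟨mul_mem hsn hfv.1, ?_⟩
    rw [act_mul hsn hfv.1, (act_eq_one_iff hfv.1).mpr hfv, mul_one]
    exact hinn s hsJ
  have h2 : Fixes (s * v) X' :=
    h.inn hX' hY (by rw [← mul_assoc, ← hsv]) h1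
  have h3 : Fixes s X' := (fixes_mul_iff_left hfv).mp h2
  refine h.sharp hX hX' huv ho hsX hsv hss (fun hf => hs₀c ?_) h3
  rw [← hs₀']
  exact (fixes_iff_center hsX).mp hf

/-- **Steps 3 and 4**: all commuting pairs are of type (0) -/
theorem fixes (h : After G) (hX : IsPair two u X) (hX' : IsPair two v X') (huv : u * v = v * u) :
    Fixes v X := by
  have hv := h.move hX hX' huv
  rcases isInn_or_isOut hv with hi | ho
  · exact h.inn hX hX' huv hi
  exfalso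
  have hvv := hX'.sq
  obtain ⟨c, F⟩ := h.kf hX
  obtain ⟨c', F'⟩ := h.kf hX'
  -- `c` is the image of `u`
  have hcu : (QuotientGroup.mk ⟨u, hX.mem⟩ : ↥X ⧸ oddCore ↥X) = c := by
    have h1 : (QuotientGroup.mk ⟨u, hX.mem⟩ : ↥X ⧸ oddCore ↥X) ∈ center (↥X ⧸ oddCore ↥X) :=
      (fixes_iff_center hX.mem).mp (fixes_self hX)
    rcases (F.mem_center _).mp h1 with h2 | h2
    · exact absurd (eq_one_of_mem_core_sq ((mk_eq_one_iff hX.mem).mp h2) hX.sq) hX.ne_one
    · exact h2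
  obtain ⟨C, hC1, hC2, hC3, hC4⟩ := F.types
  obtain ⟨C', hC1', hC2', hC3', hC4'⟩ := F'.types
  have hα := act_sq ho.1 hvv
  by_cases hαC : act X ⟨v, ho.1⟩ ∈ C
  swap
  · exact h.not_fg hX hX' huv ho (hC3 _ hα ho.2 hαC)
  obtain ⟨b, hbb, hbc, hbα, ⟨k₁, hk₁⟩, ⟨k₂, hk₂⟩, k₃, hk₃⟩ := hC4 _ hαC hα
  obtain ⟨b, hbX, hbv, hb2, rfl⟩ := exists_lift_two ho.1 (n := 1) (by rw [pow_one, pow_two, hvv])
      (x := b) hbα (m := 1) (by rw [pow_one, pow_two, hbb])
  rw [pow_one, pow_two] at hb2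
  have hbu : b * u = u * b := pair_comm hX hbX
  have hfv : Fixes v X' := fixes_self hX'
  -- the claim for the three involutions
  have key : ∀ w (hwX : w ∈ X), w * w = 1 → w * v = v * w → ¬ Fixes w X' →
      (∃ k, (QuotientGroup.mk ⟨w, hwX⟩ : ↥X ⧸ oddCore ↥X) = k * (act X ⟨v, ho.1⟩ k)⁻¹) →
      ∃ hw : w ∈ normalizer (X' : Set G), act X' ⟨w, hw⟩ ∈ C' := by
    rintro w hwX hww hwv hnf ⟨k, hk⟩
    obtain ⟨⟨Y, hY⟩, hwvn, hwn⟩ := h.twist hX' ho.1 hwX hww hwv hk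
    refine ⟨hwn, ?_⟩
    have hcomm : v * (w * v) = w * v * v := by rw [← mul_assoc, ← hwv]
    have hout : IsOut (w * v) X' := by
      rcases isInn_or_isOut hwvn with h1 | h1
      · exact absurd ((fixes_mul_iff_left hfv).mp (h.inn hX' hY hcomm h1)) hnf
      · exact h1
    have heq : act X' ⟨w * v, hout.1⟩ = act X' ⟨w, hwn⟩ := by
      have h1 : act X' ⟨w * v, mul_mem hwn hfv.1⟩ = act X' ⟨w, hwn⟩ := by
        rw [act_mul hwn hfv.1, (act_eq_one_iff hfv.1).mpr hfv, mul_one]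
      exact h1
    have h2 := h.not_fg hX' hY hcomm hout
    have h3 := hout.2
    have h4 := act_sq hwn hww
    rw [heq] at h2 h3
    by_contra h5
    exact h2 (hC3' _ h4 h3 h5)
  have hnu : ¬ Fixes u X' := fun hf =>
    ho.not_fixes (typeZero_symm' hX' hX huv.symm hf)
  have hnb : ¬ Fixes b X' :=
    h.sharp hX hX' huv ho hbX hbv hb2 fun hf => hbc ((fixes_iff_center hbX).mp hf)
  have hbuX : b * u ∈ X := mul_mem hbX hX.mem
  have hbu2 : b * u * (b * u) = 1 := by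
    calc b * u * (b * u) = b * (u * b) * u := by group
      _ = (b * b) * (u * u) := by rw [← hbu]; group
      _ = 1 := by rw [hb2, hX.sq, one_mul]
  have hbuv : b * u * v = v * (b * u) := by
    rw [mul_assoc, huv, ← mul_assoc, hbv, mul_assoc]
  have hnbu : ¬ Fixes (b * u) X' := by
    refine h.sharp hX hX' huv ho hbuX hbuv hbu2 fun hf => hbc ?_
    exact (fixes_iff_center hbX).mp ((fixes_mul_iff_left (fixes_self hX)).mp hf)
  obtain ⟨n1, m1⟩ := key u hX.mem hX.sq huv hnu ⟨k₃, by rw [hcu]; exact hk₃⟩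
  obtain ⟨n2, m2⟩ := key b hbX hb2 hbv hnb ⟨k₁, hk₁⟩
  obtain ⟨n3, m3⟩ := key (b * u) hbuX hbu2 hbuv hnbu ⟨k₂, by
    rw [← hk₂, ← hcu]; rfl⟩
  have h6 := hC2' _ m2 _ m1
  have h7 : act X' ⟨b, n2⟩ * act X' ⟨u, n1⟩ = act X' ⟨b * u, n3⟩ := by
    rw [← map_mul]; rfl
  rw [h7] at h6
  exact hC1' _ m3 h6

end After

/-- **[B], Steps 3 and 4.** -/
theorem Env.fixes_of {G : Type u} [Group G] [Finite G] (E : Env G)
    (hmove : ∀ (u v : G) (X Y : Subgroup G), IsPair two u X → IsPair two v Y → u * v = v * u →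
      v ∈ normalizer (X : Set G))
    (hinn : ∀ (u v : G) (X Y : Subgroup G), IsPair two u X → IsPair two v Y → u * v = v * u →
      ∀ hv : v ∈ normalizer (X : Set G), act X ⟨v, hv⟩ ∈ Inn (Bar X) → Fixes v X)
    (u v : G) (X Y : Subgroup G) (hX : IsPair two u X) (hY : IsPair two v Y) (huv : u * v = v * u) :
    Fixes v X := by
  have h : After G :=
    { kf := fun hX => ⟨_, E.kf_pair hX⟩
      move := fun hX hY huv => hmove _ _ _ _ hX hY huv
      inn := fun hX hY huv hi => hinn _ _ _ _ hX hY huv hi.1 hi.2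
      sharp := fun hX hY _ ho hs hsv hss hf => E.sharp hX hY ho.1 ho.2 hs hss hsv hf }
  exact h.fixes hX hY huv

end Cfsg.Agent.UGT.I34.Two
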