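import Cfsg.Agent.UGT.I34.Two.StepOneB
import Cfsg.Agent.UGT.I34.Two.Outer

/-!
# [B], Step 2, part A: `v` acts on `X / O(X)` as a noncentral inner involution

* `Env.inn_cover` : every element of `C(t)` lifts to an element of `X ∩ C(v) ∩ N(Y)`.
* `Env.inn_symm` : `u` acts on `Y / O(Y)` as an inner automorphism.
* `Env.unique_of_inn` : `X` is the only pair of `u`.
-/

set_option autoImplicit false

open Cfsg Subgroup
open Cfsg.Agent.SignalizersComponents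
open Cfsg.Agent.SignalizersComponents.IntrinsicBasic
open Cfsg.Agent.Intrinsic
open Cfsg.Agent.Intrinsic.Basic hiding IsPair PQS Target
open Cfsg.Agent.Intrinsic.Cen hiding pair_comm pair_mem_cen exists_pump pump_unique
open Cfsg.Agent.Intrinsic.Quot hiding Big isPair_quot small_or_big
open Cfsg.Agent.UGT.I34 Cfsg.Agent.UGT.I34.Pair
open Cfsg.Agent.McLLyComp.Act
open scoped commutatorElement

namespace Cfsg.Agent.UGT.I34.Two

universe u

variable {G : Type u} [Group G] [Finite G] {u v : G} {X Y : Subgroup G}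

/-- the products `t t^x` lift to `X ∩ C(v) ∩ N(Y)` -/
theorem Env.inn_gen (_ : Env G)
    (hmove : ∀ (u v : G) (X Y : Subgroup G), IsPair two u X → IsPair two v Y → u * v = v * u →
      v ∈ normalizer (X : Set G))
    (hY : IsPair two v Y) (hv : v ∈ normalizer (X : Set G)) (t : Bar X)
    (ht : act X ⟨v, hv⟩ = MulAut.conj t) (htt : t * t = 1) (x : Bar X)
    (hx : (x * t * x⁻¹) * t = t * (x * t * x⁻¹)) :
    ∃ q, ∃ hq : q ∈ X, q * v = v * q ∧ q ∈ normalizer (Y : Set G) ∧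
      (QuotientGroup.mk ⟨q, hq⟩ : Bar X) = t * (x * t * x⁻¹) := by
  have hvv := hY.sq
  have hvi : v⁻¹ = v := inv_eq_of_mul_eq_one_left hvv
  -- lift `t`
  obtain ⟨t0, ht0X, ht0v, ht02, ht0t⟩ := FixLift.exists_lift_two hv (n := 1)
    (by rw [pow_one, pow_two, hvv]) (x := t)
    (by rw [KAut.mem_fixed, ht, MulAut.conj_apply, mul_inv_cancel_right]) (m := 1)
    (by rw [pow_one, pow_two, htt])
  rw [pow_one, pow_two] at ht02
  -- `k = t₀ v` fixes `X`
  obtain ⟨k, hk⟩ : ∃ k, k = t0 * v := ⟨_, rfl⟩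
  have hkk : k * k = 1 := by
    rw [hk]
    calc t0 * v * (t0 * v) = t0 * (v * t0) * v := by group
      _ = (t0 * t0) * (v * v) := by rw [← ht0v]; group
      _ = 1 := by rw [ht02, hvv, one_mul]
  have hkX : k ∈ normalizer (X : Set G) := by rw [hk]; exact mul_mem (le_normalizer ht0X) hv
  have hactk : act X ⟨k, hkX⟩ = 1 := by
    have h1 := act_mul (le_normalizer ht0X) hv
    rw [act_of_mem ht0X, ht0t, ht, ← map_mul, htt, map_one] at h1
    rw [← h1]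
    exact act_congr hkX hk
  have hkv : k * v = v * k := by rw [hk, mul_assoc, hvv, ← mul_assoc, ← ht0v, mul_assoc, hvv]
  have hkt0 : k * t0 = t0 * k := by rw [hk, mul_assoc, ← ht0v]
  have hvk : v = t0 * k := by rw [hk, ← mul_assoc, ht02, one_mul]
  -- lift `x`
  obtain ⟨x0, hx0X, hx0k, hx0x⟩ := lift_comm hkk hkX x (by rw [hactk, MulAut.one_apply])
  obtain ⟨t1, ht1⟩ : ∃ t1, t1 = x0 * t0 * x0⁻¹ := ⟨_, rfl⟩
  have ht1X : t1 ∈ X := by rw [ht1]; exact mul_mem (mul_mem hx0X ht0X) (inv_mem hx0X)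
  have ht1b : (QuotientGroup.mk ⟨t1, ht1X⟩ : Bar X) = x * t * x⁻¹ := by
    rw [← hx0x, ← ht0t]
    have : (⟨t1, ht1X⟩ : ↥X) = ⟨x0, hx0X⟩ * ⟨t0, ht0X⟩ * ⟨x0, hx0X⟩⁻¹ := Subtype.ext ht1
    rw [this]
    rfl
  have hkt1 : k * t1 = t1 * k := by
    have hi : k * x0⁻¹ = x0⁻¹ * k := by
      calc k * x0⁻¹ = x0⁻¹ * (x0 * k) * x0⁻¹ := by group
        _ = x0⁻¹ * k := by rw [hx0k]; group
    rw [ht1]
    calc k * (x0 * t0 * x0⁻¹) = (k * x0) * t0 * x0⁻¹ := by group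
      _ = x0 * (k * t0) * x0⁻¹ := by rw [← hx0k]; group
      _ = x0 * t0 * (k * x0⁻¹) := by rw [hkt0]; group
      _ = x0 * t0 * x0⁻¹ * k := by rw [hi]; group
  -- the conjugate of `v`
  obtain ⟨y, hy⟩ : ∃ y, y = x0 * v * x0⁻¹ := ⟨_, rfl⟩
  have hyt : y = t1 * k := by
    have hi : k * x0⁻¹ = x0⁻¹ * k := by
      calc k * x0⁻¹ = x0⁻¹ * (x0 * k) * x0⁻¹ := by group
        _ = x0⁻¹ * k := by rw [hx0k]; group
    rw [hy, ht1, hvk]
    calc x0 * (t0 * k) * x0⁻¹ = x0 * t0 * (k * x0⁻¹) := by group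
      _ = x0 * t0 * x0⁻¹ * k := by rw [hi]; group
  have hyy : y * y = 1 := by
    rw [hy]
    calc x0 * v * x0⁻¹ * (x0 * v * x0⁻¹) = x0 * (v * v) * x0⁻¹ := by group
      _ = 1 := by rw [hvv]; group
  have hyX : y ∈ normalizer (X : Set G) := by
    rw [hyt]; exact mul_mem (le_normalizer ht1X) hkX
  have hyN := normalizer_le_normalizer_core X hyX
  have hct1 : t1⁻¹ * (v * t1 * v⁻¹) ∈ core X := by
    have h1 : act X ⟨v, hv⟩ (QuotientGroup.mk ⟨t1, ht1X⟩) = QuotientGroup.mk ⟨t1, ht1X⟩ := by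
      rw [ht, ht1b, MulAut.conj_apply, ← hx, mul_inv_cancel_right]
    rw [act_mk hv ht1X] at h1
    exact (Cfsg.Agent.McLLyComp.Act.mk_eq_iff ht1X (conj_mem hv ht1X)).mp h1.symm
  have hcy : y⁻¹ * (v * y * v⁻¹) ∈ core X := by
    have e : y⁻¹ * (v * y * v⁻¹) = k⁻¹ * (t1⁻¹ * (v * t1 * v⁻¹)) * k⁻¹⁻¹ := by
      have h1 : v * k * v⁻¹ = k := by rw [← hkv, mul_inv_cancel_right]
      rw [hyt, mul_inv_rev]
      calc k⁻¹ * t1⁻¹ * (v * (t1 * k) * v⁻¹) = k⁻¹ * (t1⁻¹ * (v * t1 * v⁻¹)) * (v * k * v⁻¹) := by group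
        _ = _ := by rw [h1, inv_inv]
    rw [e]
    exact conj_mem_core (inv_mem hkX) hct1
  obtain ⟨o, ho, hoo, hov⟩ := Lifting.exists_involution (odd_card_core X) (n := 1)
    (by rw [pow_one, pow_two, hvv]) (normalizer_le_normalizer_core X hv) hyN
    (by rw [hyy]; exact one_mem _) hcy
  obtain ⟨o', ho', ho'y⟩ := Lifting.exists_conj_eq (odd_card_core X) (v := y) (v' := y * o) (n := 1)
    (m := 1) (by rw [pow_one, pow_two, hyy]) (by rw [pow_one, pow_two, hoo]) hyN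
    (by rw [inv_mul_cancel_left]; exact ho)
  have hv1 : IsPair two (y * o) (cj (o' * x0) Y) := by
    have h1 := hY.cj (o' * x0)
    have e : o' * x0 * v * (o' * x0)⁻¹ = y * o := by
      rw [← ho'y, hy]; group
    rwa [e] at h1
  have h3 : y * o ∈ normalizer (Y : Set G) := hmove _ _ _ _ hY hv1 hov
  have e4 : v * (y * o) = t0 * t1 * o := by
    calc v * (y * o) = t0 * k * (t1 * k * o) := by rw [hyt, hvk]
      _ = t0 * (k * t1) * k * o := by group
      _ = t0 * t1 * (k * k) * o := by rw [hkt1]; group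
      _ = t0 * t1 * o := by rw [hkk, mul_one]
  have hqX : t0 * t1 * o ∈ X := mul_mem (mul_mem ht0X ht1X) (core_le X ho)
  refine ⟨t0 * t1 * o, hqX, ?_, ?_, ?_⟩
  · rw [← e4]
    calc v * (y * o) * v = v * (y * o * v) := by group
      _ = v * (v * (y * o)) := by rw [hov]
  · rw [← e4]
    exact mul_mem (le_normalizer hY.mem) h3
  · have h5 : (⟨t0 * t1 * o, hqX⟩ : ↥X) = ⟨t0, ht0X⟩ * ⟨t1, ht1X⟩ * ⟨o, core_le X ho⟩ := rfl
    have h6 : (QuotientGroup.mk ⟨o, core_le X ho⟩ : Bar X) = 1 := (Quot.mk_eq_one_iff _).mpr ho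
    rw [h5, QuotientGroup.mk_mul, QuotientGroup.mk_mul, h6, mul_one, ht1b, ht0t]

/-- the subgroup `X ∩ C(v) ∩ N(Y)` -/
def LL (v : G) (X Y : Subgroup G) : Subgroup G :=
  X ⊓ (centralizer ({v} : Set G) ⊓ normalizer (Y : Set G))

omit [Finite G] in
theorem mem_LL {x : G} : x ∈ LL v X Y ↔ x ∈ X ∧ x * v = v * x ∧ x ∈ normalizer (Y : Set G) := by
  rw [LL, mem_inf, mem_inf, mem_centralizer_singleton_iff]

/-- `P` is contained in the image of `X ∩ C(v) ∩ N(Y)` -/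
theorem Env.le_qs (E : Env G)
    (hmove : ∀ (u v : G) (X Y : Subgroup G), IsPair two u X → IsPair two v Y → u * v = v * u →
      v ∈ normalizer (X : Set G))
    (hY : IsPair two v Y) (hv : v ∈ normalizer (X : Set G)) (t : Bar X)
    (ht : act X ⟨v, hv⟩ = MulAut.conj t) (htt : t * t = 1) {z : Bar X} {P Z : Subgroup (Bar X)}
    (hL : Loc (Bar X) z t P Z) : P ≤ qs X (LL v X Y) := by
  apply hL.gen
  intro x hx
  obtain ⟨q, hq, h1, h2, h3⟩ := E.inn_gen hmove hY hv t ht htt x ((hL.mem_P _).mp hx)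
  rw [← h3, mem_qs hq]
  exact ⟨q, ⟨mem_LL.mpr ⟨hq, h1, h2⟩, hq⟩, by rw [inv_mul_cancel]; exact one_mem _⟩

/-- **(A1)** -/
theorem Env.inn_cover (E : Env G)
    (hmove : ∀ (u v : G) (X Y : Subgroup G), IsPair two u X → IsPair two v Y → u * v = v * u →
      v ∈ normalizer (X : Set G))
    (hX : IsPair two u X) (hY : IsPair two v Y) (_huv : u * v = v * u)
    (hv : v ∈ normalizer (X : Set G)) (t : Bar X) (ht : act X ⟨v, hv⟩ = MulAut.conj t)
    (htt : t * t = 1) (htc : t ∉ center (Bar X)) :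
    ∀ p : Bar X, p * t = t * p → ∃ q, ∃ hq : q ∈ X, q * v = v * q ∧ q ∈ normalizer (Y : Set G) ∧
      (QuotientGroup.mk ⟨q, hq⟩ : Bar X) = p := by
  intro p hp
  obtain ⟨P, Z, hL⟩ := (E.kf_pair hX).loc t htt htc
  obtain ⟨⟨q, hqX⟩, hq, hqp⟩ := E.le_qs hmove hY hv t ht htt hL ((hL.mem_P p).mpr hp)
  obtain ⟨h1, h2, h3⟩ := mem_LL.mp (mem_subgroupOf.mp hq)
  exact ⟨q, hqX, h2, h3, hqp⟩

/-- **(A2)** -/
theorem Env.inn_symm (E : Env G)
    (hmove : ∀ (u v : G) (X Y : Subgroup G), IsPair two u X → IsPair two v Y → u * v = v * u →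
      v ∈ normalizer (X : Set G))
    (hX : IsPair two u X) (hY : IsPair two v Y) (_huv : u * v = v * u)
    (hv : v ∈ normalizer (X : Set G)) (t : Bar X) (ht : act X ⟨v, hv⟩ = MulAut.conj t)
    (htt : t * t = 1) (htc : t ∉ center (Bar X)) (hu : u ∈ normalizer (Y : Set G)) :
    act Y ⟨u, hu⟩ ∈ Inn (Bar Y) := by
  obtain ⟨P, Z, hL⟩ := (E.kf_pair hX).loc t htt htc
  have hPL := E.le_qs hmove hY hv t ht htt hL
  obtain ⟨L, hLd⟩ : ∃ L, L = LL v X Y := ⟨_, rfl⟩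
  rw [← hLd] at hPL
  have hLX : L ≤ X := by rw [hLd]; exact inf_le_left
  have hLY : L ≤ normalizer (Y : Set G) := by
    intro x hx
    rw [hLd] at hx
    exact (mem_LL.mp hx).2.2
  have hsq : ∀ α : MulAut (Bar Y), α * α ∈ Inn (Bar Y) := (E.kf_pair hY).out_sq
  -- `u ≡ c`, `c ∈ [L, L]`
  have h1 : (QuotientGroup.mk ⟨u, hX.mem⟩ : Bar X) ∈ ⁅qs X L, qs X L⁆ :=
    commutator_mono hPL hPL hL.z_mem
  have h1' : (QuotientGroup.mk ⟨u, hX.mem⟩ : Bar X) ∈
      (⁅L.subgroupOf X, L.subgroupOf X⁆).map (QuotientGroup.mk' (oddCore ↥X)) := by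
    rw [map_commutator]
    exact h1
  obtain ⟨⟨c, hcX⟩, hc, hcu⟩ := h1'
  have hc' : c ∈ ⁅L, L⁆ := by
    have h2 : (⁅L.subgroupOf X, L.subgroupOf X⁆).map X.subtype = ⁅L, L⁆ := by
      rw [map_commutator, subgroupOf_map_subtype, inf_of_le_left hLX]
    rw [← h2]
    exact ⟨⟨c, hcX⟩, hc, rfl⟩
  have hcL : c ∈ L := by
    have h2 : ⁅L, L⁆ ≤ L := commutator_le_self L
    exact h2 hc'
  have ho : c⁻¹ * u ∈ core X := (Cfsg.Agent.McLLyComp.Act.mk_eq_iff hcX hX.mem).mp hcu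
  have hoY : c⁻¹ * u ∈ normalizer (Y : Set G) := mul_mem (inv_mem (hLY hcL)) hu
  have h3 : act Y ⟨c, hLY hcL⟩ ∈ Inn (Bar Y) := by
    have h4 : ⁅L, L⁆ ≤ ((Inn (Bar Y)).comap (act Y)).map (normalizer (Y : Set G)).subtype := by
      rw [commutator_le]
      intro a ha b hb
      refine ⟨⁅(⟨a, hLY ha⟩ : ↥(normalizer (Y : Set G))), ⟨b, hLY hb⟩⁆, ?_, rfl⟩
      rw [SetLike.mem_coe, mem_comap, map_commutatorElement]
      exact commutator_mem_of_sq hsq _ _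
    obtain ⟨n, hn, hnc⟩ := h4 hc'
    have h5 : n = ⟨c, hLY hcL⟩ := Subtype.ext hnc
    rw [← h5]
    exact hn
  have h4 : act Y ⟨c⁻¹ * u, hoY⟩ ∈ Inn (Bar Y) := by
    refine mem_of_odd_of_sq hsq (odd_card_core X) ?_
    rw [← map_pow]
    have h5 : (c⁻¹ * u) ^ Nat.card (core X) = 1 := by
      have := pow_card_eq_one' (x := (⟨c⁻¹ * u, ho⟩ : ↥(core X)))
      exact congrArg Subtype.val this
    have h6 : (⟨c⁻¹ * u, hoY⟩ : ↥(normalizer (Y : Set G))) ^ Nat.card (core X) = 1 :=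
      Subtype.ext h5
    rw [h6, map_one]
  have h5 : act Y ⟨u, hu⟩ = act Y ⟨c, hLY hcL⟩ * act Y ⟨c⁻¹ * u, hoY⟩ := by
    rw [← map_mul]
    congr 1
    apply Subtype.ext
    change u = c * (c⁻¹ * u)
    group
  rw [h5]
  exact mul_mem h3 h4

/-- **(A3)** -/
theorem Env.unique_of_inn (E : Env G)
    (hmove : ∀ (u v : G) (X Y : Subgroup G), IsPair two u X → IsPair two v Y → u * v = v * u →
      v ∈ normalizer (X : Set G))
    (hX : IsPair two u X) (hY : IsPair two v Y) (huv : u * v = v * u)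
    (hv : v ∈ normalizer (X : Set G)) (t : Bar X) (ht : act X ⟨v, hv⟩ = MulAut.conj t)
    (htt : t * t = 1) (htc : t ∉ center (Bar X)) {X' : Subgroup G} (hX' : IsPair two u X') :
    X' = X := by
  by_contra hne
  obtain ⟨P, Z, hL⟩ := (E.kf_pair hX).loc t htt htc
  have hPL := E.le_qs hmove hY hv t ht htt hL
  obtain ⟨L, hLd⟩ : ∃ L, L = LL v X Y := ⟨_, rfl⟩
  have memL : ∀ x, x ∈ L ↔ x ∈ X ∧ x * v = v * x ∧ x ∈ normalizer (Y : Set G) := by
    intro x; rw [hLd]; exact mem_LL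
  rw [← hLd] at hPL
  obtain ⟨S, hSL, hS2, hS⟩ := exists_syl L
  have hSX : S ≤ X := fun x hx => ((memL x).mp (hSL hx)).1
  have hSY : S ≤ normalizer (Y : Set G) := fun x hx => ((memL x).mp (hSL hx)).2.2
  have hnf : ¬ Fixes v X' := by
    intro hf
    have h1 := (typeZero_indep hX hX' hY huv).mpr hf
    rw [← act_eq_one_iff hv, ht, conj_eq_one_iff] at h1
    exact htc h1
  have hpow : ∀ x ∈ S, ∃ k : ℕ, x ^ 2 ^ k = 1 := by
    intro x hx
    obtain ⟨k, hk⟩ := hS2 ⟨x, hx⟩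
    exact ⟨k, congrArg Subtype.val hk⟩
  -- `S` covers `P`
  have hcov : ∀ n ∈ L, ∃ s ∈ S ⊓ L, s⁻¹ * n ∈ L ⊓ core X ∧ n * s⁻¹ ∈ L ⊓ core X := by
    refine sylow_cover hS2 hS le_rfl (fun l hl n hn => L.mul_mem (L.mul_mem hl hn) (L.inv_mem hl)) ?_ ?_
    · intro l hl n hn
      exact ⟨L.mul_mem (L.mul_mem hl hn.1) (L.inv_mem hl),
        conj_mem_core (le_normalizer ((memL l).mp hl).1) hn.2⟩
    · intro n hn
      obtain ⟨m1, m2, -⟩ := (memL n).mp hn
      refine ⟨7, pow_mem hn _, ?_⟩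
      have h1 := pow_of_comm (E.kf_pair hX) htt htc ((hL.mem_P _).mp (mem_P_of_comm hL hv ht m1 m2))
      exact (Quot.mk_eq_one_iff (pow_mem m1 _)).mp h1
  -- the two representations
  let ι : ↥S →* Bar X :=
    { toFun := fun x => QuotientGroup.mk ⟨(x : G), hSX x.2⟩
      map_one' := rfl
      map_mul' := fun _ _ => rfl }
  have hι : ∀ x : ↥S, ι x = QuotientGroup.mk ⟨(x : G), hSX x.2⟩ := fun _ => rfl
  have hιinj : Function.Injective ι := by
    rw [injective_iff_map_eq_one]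
    intro x hx
    rw [hι, Quot.mk_eq_one_iff] at hx
    obtain ⟨k, hk⟩ := hpow _ x.2
    exact Subtype.ext (eq_one_of_mem_core hx hk)
  have hPι : P ≤ ι.range := by
    intro p hp
    obtain ⟨⟨n, hnX⟩, hn, rfl⟩ := hPL hp
    obtain ⟨s, hs, hsn, -⟩ := hcov n (mem_subgroupOf.mp hn)
    refine ⟨⟨s, hs.1⟩, ?_⟩
    rw [hι]
    exact (Quot.mk_eq_mk_iff' (hSX hs.1) hnX).mpr hsn.2
  let ρ : ↥S →* MulAut (Bar Y) := (act Y).comp (inclusion hSY)
  have hρinj : Function.Injective ρ := by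
    rw [injective_iff_map_eq_one]
    intro x hx
    by_contra hx1
    have hx1' : (x : G) ≠ 1 := fun h => hx1 (Subtype.ext h)
    have hf : Fixes (x : G) Y := (act_eq_one_iff (hSY x.2)).mp hx
    obtain ⟨k, hk⟩ := hpow _ x.2
    obtain ⟨m, hm1, hm2⟩ := exists_inv_pow hk hx1'
    have hfp : Fixes ((x : G) ^ m) Y := by
      have : (x : G) ^ m ∈ WZero.fixSub Y := pow_mem (WZero.mem_fixSub.mpr hf) m
      exact this
    obtain ⟨g1, g2, -⟩ := (memL _).mp (hSL (pow_mem x.2 m))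
    exact E.not_both hX' hY huv hnf hm1 hm2 (pair_comm hX g1) g2
      (hX'.comp.fixes_of_mem hX.comp hne g1) hfp
  -- the elementary abelian subgroup
  obtain ⟨A, -, hAP, -, -, -, h32, -, hsq, -⟩ := hL.ab
  have hcard : Nat.card ↥((A.comap ι).map ρ) = 32 := by
    have e1 : Nat.card ↥((A.comap ι).map ρ) = Nat.card ↥(A.comap ι) :=
      (Nat.card_congr ((A.comap ι).equivMapOfInjective _ hρinj).toEquiv).symm
    have e2 : Nat.card ↥(A.comap ι) = Nat.card ↥((A.comap ι).map ι) :=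
      Nat.card_congr ((A.comap ι).equivMapOfInjective _ hιinj).toEquiv
    rw [e1, e2, map_comap_eq, inf_eq_right.mpr (hAP.trans hPι), h32]
  have hle := (E.kf_pair hY).rank ((A.comap ι).map ρ) (by
    rintro _ ⟨a, ha, rfl⟩
    have h1 : ι (a * a) = ι 1 := by rw [map_mul, map_one]; exact hsq _ ha
    rw [← map_mul, hιinj h1, map_one])
  rw [hcard] at hle
  omega

end Cfsg.Agent.UGT.I34.Two
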