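import Cfsg.Agent.UGT.I34.Two.KAutCode

/-!
# `2.L3(4)`: fact (b4) (helper161)

A 2-group `R` of automorphisms with `|R| ≥ 64` has `|Z(R)| ≤ 4`.
-/

set_option autoImplicit false
set_option linter.constructorNameAsVariable false
set_option linter.unusedVariables false

namespace Cfsg.Agent.UGT.I34.Two.KS

open Subgroup
open Cfsg.Agent.SporadicA.FieldFour
open Cfsg.Agent.ONType.Psl (kap)
open Cfsg.Agent.StdL34 (trF fr Ty imgx)
open Cfsg.Agent.OddHalf.D9.L34
open scoped commutatorElement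

theorem big_bx (x : AC) (h : big x = true) : ∃ s c, x = bx s c := by
  obtain ⟨a, b, c, e, f⟩ := x
  have key : ∀ (a b : F4) (e f : Bool), ((!e) && (!f) && decide ((a = 0 ∧ b = 0) ∨ (a = 1 ∧ b = 1))) = true →
      e = false ∧ f = false ∧ ((a = 0 ∧ b = 0) ∨ (a = 1 ∧ b = 1)) := by decide
  have h3 := key a b e f h
  clear h
  obtain ⟨h1, h2, h4⟩ := h3
  subst h1 h2
  rcases h4 with ⟨h1, h2⟩ | ⟨h1, h2⟩ <;> subst h1 h2
  · exact ⟨false, c, rfl⟩
  · exact ⟨true, c, rfl⟩

theorem sum_allF (g : F4 → ℕ) : (allF.map g).sum = ∑ a, g a := by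
  have h : (Finset.univ : Finset F4) = {0, 1, F4.w, F4.v} := by decide
  rw [h, Finset.sum_insert (by decide), Finset.sum_insert (by decide), Finset.sum_insert (by decide),
    Finset.sum_singleton]
  simp only [allF, List.map_cons, List.map_nil, List.sum_cons, List.sum_nil, add_zero]

theorem cnt_eq (x : AC) : Nat.card {y : AC // am x y = am y x} = cnt x := by
  classical
  rw [Nat.card_eq_fintype_card, Fintype.card_subtype, Finset.card_filter]
  rw [← Equiv.sum_comp acEquiv.symm]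
  rw [Fintype.sum_prod_type]
  unfold cnt
  rw [sum_allF]
  apply Finset.sum_congr rfl
  intro a _
  rw [Fintype.sum_prod_type, sum_allF]
  apply Finset.sum_congr rfl
  intro b _
  rw [Fintype.sum_prod_type, sum_allF]
  apply Finset.sum_congr rfl
  intro c _
  rw [Fintype.sum_prod_type]
  simp only [Fintype.univ_bool, Finset.mem_singleton, Bool.true_eq_false, not_false_eq_true,
    Finset.sum_insert, Finset.sum_singleton]
  have e1 : ∀ q, acEquiv.symm q = ⟨q.1, q.2.1, q.2.2.1, q.2.2.2.1, q.2.2.2.2⟩ := fun q => rfl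
  simp only [e1]
  unfold cmb
  simp only [decide_eq_true_eq]
  ring

theorem code_inj : ∀ (c0 c1 c2 : F4) (s : Bool),
    decide (c1 = if s then c0 else 0) = decide (c2 = if s then c0 else 0) →
    (c1 = (if s then c0 else 0) ∨ c1 = (if s then c0 + 1 else 1)) →
    (c2 = (if s then c0 else 0) ∨ c2 = (if s then c0 + 1 else 1)) → c1 = c2 := by decide +kernel

/-! ### the automorphism group -/

section Aut

variable {L : Type*} [Group L] (A : Cov L)

/-- `α` has code `x` -/
def HC (α : MulAut L) (x : AC) : Prop := A.Cd α ⟨x.a, x.b, x.c, false⟩ (x.e, x.f)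

variable {A}

theorem exists_hc {α : MulAut L} (h : α ∈ A.MT) : ∃ x, HC A α x := by
  obtain ⟨p, τ, h⟩ := h
  exact ⟨⟨p.a, p.b, p.c, τ.1, τ.2⟩, h.nk⟩

theorem HC.mul {α β : MulAut L} {x y : AC} (h : HC A α x) (h' : HC A β y) : HC A (α * β) (am x y) := by
  have h1 := (Cov.Cd.mul h h').nk
  exact h1

theorem HC.ext {α β : MulAut L} {x : AC} (h : HC A α x) (h' : HC A β x) : α = β :=
  mul_left_cancel (Cov.IsTau.ext h h')

theorem nk_cancel_ab : ∀ (τ : Ty) (a b a' b' : F4),
    (cmul (ctau τ ⟨a', b', 0, false⟩) (cinv (ctau τ ⟨a, b, 0, false⟩))).a = 0 →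
    (cmul (ctau τ ⟨a', b', 0, false⟩) (cinv (ctau τ ⟨a, b, 0, false⟩))).b = 0 → a' = a ∧ b' = b := by
  decide +kernel

theorem nk_cancel_c : ∀ (τ : Ty) (a b c c' : F4),
    (cmul (ctau τ ⟨a, b, c', false⟩) (cinv (ctau τ ⟨a, b, c, false⟩))).c = 0 → c' = c := by
  decide +kernel

theorem ctau_ab (τ : Ty) (a b c : F4) : (ctau τ ⟨a, b, c, false⟩).a = (ctau τ ⟨a, b, 0, false⟩).a ∧
    (ctau τ ⟨a, b, c, false⟩).b = (ctau τ ⟨a, b, 0, false⟩).b := by
  revert τ a b c; decide

theorem HC.unique {α : MulAut L} {x y : AC} (h : HC A α x) (h' : HC A α y) : x = y := by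
  have h1 := Cov.Cd.mul (Cov.Cd.inv h) h'
  rw [inv_mul_cancel] at h1
  obtain ⟨h2, h3⟩ := h1.one
  obtain ⟨a, b, c, e, f⟩ := x
  obtain ⟨a', b', c', e', f'⟩ := y
  simp only at h2 h3
  have key : ∀ e f e' f' : Bool, Ty.mul (e, f) (e', f') = (false, false) → e = e' ∧ f = f' := by decide
  obtain ⟨rfl, rfl⟩ := key e f e' f' h2
  have ha := congrArg Code.a h3
  have hb := congrArg Code.b h3
  have hc := congrArg Code.c h3
  have ha' : (cmul (ctau (e, f) ⟨a', b', 0, false⟩) (cinv (ctau (e, f) ⟨a, b, 0, false⟩))).a = 0 := by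
    have e1 := (ctau_ab (e, f) a' b' c').1
    have e2 := (ctau_ab (e, f) a b c).1
    show _ + _ = _
    rw [← e1]
    have e3 : (cinv (ctau (e, f) ⟨a, b, 0, false⟩)).a = (cinv (ctau (e, f) ⟨a, b, c, false⟩)).a := e2.symm
    rw [e3]
    exact ha
  have hb' : (cmul (ctau (e, f) ⟨a', b', 0, false⟩) (cinv (ctau (e, f) ⟨a, b, 0, false⟩))).b = 0 := by
    have e1 := (ctau_ab (e, f) a' b' c').2
    have e2 := (ctau_ab (e, f) a b c).2
    show _ + _ = _
    rw [← e1]
    have e3 : (cinv (ctau (e, f) ⟨a, b, 0, false⟩)).b = (cinv (ctau (e, f) ⟨a, b, c, false⟩)).b := e2.symm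
    rw [e3]
    exact hb
  obtain ⟨rfl, rfl⟩ := nk_cancel_ab (e, f) a b a' b' ha' hb'
  rw [nk_cancel_c (e, f) a' b' c c' hc]

/-- **(b4)** -/
theorem card_center_le (A : Cov L) (R : Subgroup (MulAut L)) (hR : IsPGroup 2 R) (h64 : 64 ≤ Nat.card R) :
    Nat.card (center R) ≤ 4 := by
  have hfin : Finite R := Nat.finite_of_card_ne_zero (by omega)
  obtain ⟨l, hl⟩ := A.exists_conj_MT R hR
  have hl' : ∀ α : R, ∃ x, HC A (MulAut.conj l * (α : MulAut L) * (MulAut.conj l)⁻¹) x := fun α =>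
    exists_hc (hl α.1 α.2)
  choose x hx using hl'
  have hmul : ∀ α β : R, x (α * β) = am (x α) (x β) := by
    intro α β
    have h1 := (hx α).mul (hx β)
    have h2 : MulAut.conj l * (α : MulAut L) * (MulAut.conj l)⁻¹ * (MulAut.conj l * (β : MulAut L) *
        (MulAut.conj l)⁻¹) = MulAut.conj l * ((α * β : R) : MulAut L) * (MulAut.conj l)⁻¹ := by
      rw [Subgroup.coe_mul]; group
    rw [h2] at h1
    exact (hx (α * β)).unique h1
  have hinj : Function.Injective x := by
    intro α β h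
    have h1 := hx α
    rw [h] at h1
    have h2 := h1.ext (hx β)
    exact Subtype.ext (mul_left_cancel (mul_right_cancel h2))
  have hcomm : ∀ ζ ∈ center R, ∀ α : R, am (x ζ) (x α) = am (x α) (x ζ) := by
    intro ζ hζ α
    rw [← hmul, ← hmul, mem_center_iff.mp hζ α]
  have hcnt : ∀ ζ ∈ center R, Nat.card R ≤ cnt (x ζ) := by
    intro ζ hζ
    rw [← cnt_eq]
    exact Nat.card_le_card_of_injective (fun α : R => (⟨x α, hcomm ζ hζ α⟩ : {y : AC // am (x ζ) y = am y (x ζ)}))
      (fun α β h => hinj (congrArg Subtype.val h))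
  have hbig : ∀ ζ ∈ center R, ∃ s c, x ζ = bx s c := by
    intro ζ hζ
    apply big_bx
    by_contra hb
    have h1 := cnt_small (x ζ) (by simpa using hb)
    have h2 := hcnt ζ hζ
    omega
  by_cases hcase : ∃ ζ0 ∈ center R, ∃ c, x ζ0 = bx true c
  · obtain ⟨ζ0, hζ0, c0, hc0⟩ := hcase
    -- the codes of `R` are exactly the codes commuting with `x ζ0`
    have hsurj : ∀ y : AC, am (x ζ0) y = am y (x ζ0) → ∃ α : R, x α = y := by
      have h1 : Function.Bijective (fun α : R => (⟨x α, hcomm ζ0 hζ0 α⟩ :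
          {y : AC // am (x ζ0) y = am y (x ζ0)})) := by
        rw [Nat.bijective_iff_injective_and_card]
        refine ⟨fun α β h => hinj (congrArg Subtype.val h), ?_⟩
        apply le_antisymm
        · exact (hcnt ζ0 hζ0).trans (le_of_eq (cnt_eq _).symm)
        · rw [cnt_eq, hc0]
          exact (cnt_one c0).trans h64
      intro y hy
      obtain ⟨α, hα⟩ := h1.2 ⟨y, hy⟩
      exact ⟨α, congrArg Subtype.val hα⟩
    have hval : ∀ ζ : center R, ∃ s c, x ζ = bx s c ∧ (c = (if s then c0 else 0) ∨ c = (if s then c0 + 1 else 1)) := by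
      rintro ⟨ζ, hζ⟩
      obtain ⟨s, c, h⟩ := hbig ζ hζ
      refine ⟨s, c, h, ?_⟩
      apply bx_comm
      intro a b d h1
      rw [cmb, decide_eq_true_eq] at h1 ⊢
      rw [← hc0] at h1
      obtain ⟨α, hα⟩ := hsurj _ h1
      rw [← hα, ← h]
      exact hcomm ζ hζ α
    choose s c hs hc using hval
    have h1 := Nat.card_le_card_of_injective (fun ζ : center R => (s ζ, decide (c ζ = if s ζ then c0 else 0)))
      (by
        intro ζ ζ' h
        simp only [Prod.mk.injEq] at h
        obtain ⟨h1, h2⟩ := h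
        apply Subtype.ext
        apply hinj
        have h3 := hc ζ
        have h4 := hc ζ'
        rw [hs ζ, hs ζ', h1]
        rw [h1] at h2 h3
        congr 1
        exact code_inj c0 (c ζ) (c ζ') (s ζ') h2 h3 h4)
    rw [Nat.card_prod, Nat.card_eq_fintype_card (α := Bool), Fintype.card_bool] at h1
    exact h1
  · push Not at hcase
    have hval : ∀ ζ : center R, ∃ c, x ζ = bx false c := by
      rintro ⟨ζ, hζ⟩
      obtain ⟨s, c, h⟩ := hbig ζ hζ
      cases s
      · exact ⟨c, h⟩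
      · exact absurd h (hcase ζ hζ c)
    choose c hc using hval
    have h1 := Nat.card_le_card_of_injective c (by
      intro ζ ζ' h
      apply Subtype.ext
      apply hinj
      rw [hc ζ, hc ζ', h])
    rw [Nat.card_eq_fintype_card (α := F4), F4.card_eq] at h1
    exact h1

end Aut

end Cfsg.Agent.UGT.I34.Two.KS
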