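import Cfsg.Agent.UGT.I34.Two.KLoc
import Cfsg.Agent.UGT.I34.Two.KAut

/-!
# `2.L3(4)`: the K-facts of THEOREM I34, `Z = 2` (helper161)

`kfacts : KFacts`; `center_le_four` : fact (b4).
-/

set_option autoImplicit false
set_option linter.constructorNameAsVariable false
set_option linter.unusedVariables false

namespace Cfsg.Agent.UGT.I34.Two

open Subgroup
open Cfsg.Agent.SporadicA.FieldFour
open Cfsg.Agent.OddHalf.D9.L34
open Cfsg.Agent.UGT.I34.KAut (Out)
open scoped commutatorElement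

universe u

variable {K : Type*} [Group K]

theorem IsTwo.exists_cover [Finite K] (h : IsTwo K) : Nonempty (Cov K) := by
  obtain ⟨h1, h2, ⟨e⟩⟩ := h
  obtain ⟨A, -, -, -⟩ := Cfsg.Agent.OddHalf.D9.L34.exists_cov h2 (Group.isPerfect_def.1 h1) F4.card_eq e
  exact ⟨A⟩

theorem FG.of_lData {φ : MulAut K} {J : Subgroup K} (h : LData φ J) : FG φ := by
  refine ⟨{s | s ∈ J ∧ s * s = 1 ∧ s ∉ center K ∧ ∃ k, φ k * k⁻¹ = s}, ?_, ?_, ?_⟩
  · rintro s ⟨hs, hs2, hsc, k, hk⟩
    refine ⟨hs2, h.le hs, k, ?_⟩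
    have h1 : s⁻¹ = s := inv_eq_of_mul_eq_one_left hs2
    rw [← h1, ← hk]; group
  · rw [← h.gen]; exact h.perf
  · by_contra hcon
    push Not at hcon
    apply h.ne
    rw [h.gen]
    have : {s | s ∈ J ∧ s * s = 1 ∧ s ∉ center K ∧ ∃ k, φ k * k⁻¹ = s} = (∅ : Set K) := by
      ext s
      simp only [Set.mem_ofPred_eq, Set.mem_empty_iff_false, iff_false]
      intro hs
      exact hs.2.2.1 (hcon s hs)
    rw [this, Subgroup.closure_empty]

theorem CC.of_cData {z : K} (hz : z ∈ center K) (hzz : z * z = 1) {φ : MulAut K} (h : CData φ) : CC z φ := by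
  obtain ⟨b, hb2, hbc, hb, hk⟩ := h.fus
  have hzb : b * z = z * b := mem_center_iff.mp hz b
  refine ⟨b, hb2, hbc, hb, ?_, ?_, ?_⟩
  · obtain ⟨k, hk⟩ := hk 1 (one_mem _)
    refine ⟨k, ?_⟩
    have h1 : (b * 1)⁻¹ = b := by rw [mul_one]; exact inv_eq_of_mul_eq_one_left hb2
    calc b = (b * 1)⁻¹ := h1.symm
      _ = (φ k * k⁻¹)⁻¹ := by rw [hk]
      _ = _ := by group
  · obtain ⟨k, hk⟩ := hk z hz
    refine ⟨k, ?_⟩
    have h1 : (b * z)⁻¹ = b * z := by
      apply inv_eq_of_mul_eq_one_left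
      calc b * z * (b * z) = b * (z * b) * z := by group
        _ = b * (b * z) * z := by rw [hzb]
        _ = (b * b) * (z * z) := by group
        _ = 1 := by rw [hb2, hzz, one_mul]
    rw [← h1, ← hk]; group
  · obtain ⟨k, hk⟩ := h.cen z hz
    refine ⟨k, ?_⟩
    have h1 : z⁻¹ = z := inv_eq_of_mul_eq_one_left hzz
    rw [← h1, ← hk]; group

/-- **(b4)** a 2-group of automorphisms of order at least 64 has centre of order at most 4 -/
theorem IsTwo.card_center_le [Finite K] (h : IsTwo K) (R : Subgroup (MulAut K)) (hR : IsPGroup 2 R)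
    (h64 : 64 ≤ Nat.card R) : Nat.card (center R) ≤ 4 := by
  obtain ⟨A⟩ := h.exists_cover
  exact KS.card_center_le A R hR h64


/-- **The K-facts of `2.L3(4)`.** -/
theorem kfacts : KFacts.{u} := by
  intro K _ _ h
  obtain ⟨A⟩ := h.exists_cover
  obtain ⟨h1, h2, ⟨e⟩⟩ := h
  have hperf : _root_.commutator K = ⊤ := Group.isPerfect_def.1 h1
  have hzc : A.z ∈ center K := (KS.mem_center_iff' A).2 (Or.inr rfl)
  obtain ⟨D⟩ := Cfsg.Agent.LThreeFour.exists_dat F4.card_eq e
  obtain ⟨e'⟩ := nonempty_psl_equiv (n := Fin 3) F4 F4.card_eq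
  refine ⟨A.z, ?_⟩
  exact
  { z_ne := A.z_ne_one
    z_sq := A.z_sq
    mem_center := fun x => KS.mem_center_iff' A
    lift := by
      intro t ht _
      rcases (KS.mem_center_iff' A).1 ht with h | h
      · exact h
      · exact absurd h (A.no_sqrt t)
    loc := fun t ht htc => KS.loc A t ht htc
    out_sq := by
      intro α
      obtain ⟨l, hl⟩ := A.sq_inner α
      exact ⟨l, hl.symm⟩
    rank := fun E hE => elab_card hperf (e.trans e'.symm) E hE
    rank_inn := by
      intro E hE hni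
      by_contra hcon
      apply hni
      intro α hα
      obtain ⟨l, hl⟩ := elab_inner hperf D E hE (by omega) α hα
      exact ⟨l, hl.symm⟩
    sharp := by
      intro α hα ho t ht htc hfix
      obtain ⟨p, hp, h4⟩ := b5 hperf h2 F4.card_eq e (φ := α) ⟨hα, ho⟩ ht htc hfix
      refine ⟨p, hp, fun h => ?_⟩
      have h5 : orderOf (α p * p⁻¹) ∣ 2 := orderOf_dvd_of_pow_eq_one (by rw [pow_two]; exact h)
      have := h4.trans h5
      omega
    types := by
      obtain ⟨C, hC1, hC2, hC3⟩ := b6 hperf h2 F4.card_eq e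
      refine ⟨{α | (α * α = 1 ∧ α ∉ Inn K) ∧ C α}, fun α h => h.1.2, fun α h β h' => hC3 α β h.2 h'.2, ?_, ?_⟩
      · intro α hα ho hnC
        rcases hC1 α ⟨hα, ho⟩ with ⟨J, hJ⟩ | h
        · exact FG.of_lData hJ
        · exact absurd ⟨⟨hα, ho⟩, h⟩ hnC
      · intro α hα _
        exact CC.of_cData hzc A.z_sq (hC2 α hα.2) }

end Cfsg.Agent.UGT.I34.Two
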