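import Cfsg.Agent.UGT.I34.Two.StepOneB
import Cfsg.Agent.UGT.I34.Two.KEnd

/-!
# THEOREM I34 for `Z = 2`: the world `W0`
-/

set_option autoImplicit false

open Cfsg Subgroup
open Cfsg.Agent.SignalizersComponents
open Cfsg.Agent.SignalizersComponents.IntrinsicBasic
open Cfsg.Agent.Intrinsic
open Cfsg.Agent.Intrinsic.Basic hiding IsPair PQS Target
open Cfsg.Agent.Intrinsic.Cen hiding pair_comm pair_mem_cen exists_pump pump_unique
open Cfsg.Agent.Intrinsic.Quot hiding Big isPair_quot small_or_big
open Cfsg.Agent.UGT.I34 Cfsg.Agent.UGT.I34.Pair Cfsg.Agent.UGT.I34.Red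
open Cfsg.Agent.McLLyComp.Act
open scoped commutatorElement

namespace Cfsg.Agent.UGT.I34.Two

universe u

variable {G : Type u} [Group G] [Finite G]

omit [Finite G] in
theorem orderOf_two {x : G} (h2 : x * x = 1) (h1 : x ≠ 1) : orderOf x = 2 :=
  orderOf_eq_prime (by rw [pow_two]; exact h2) h1

/-- If all commuting pairs are of type (0) we are in the world `W0`. -/
theorem Env.world (E : Env G) {u : G} {X : Subgroup G} (hX : IsPair two u X)
    (h0 : ∀ (u v : G) (X Y : Subgroup G), IsPair two u X → IsPair two v Y → u * v = v * u →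
      Fixes v X) : Zero.World (fun (u : G) (X : Subgroup G) => IsPair two u X) where
  ex := ⟨u, X, hX⟩
  inv _ _ h := h.sq
  ne _ _ h := h.ne_one
  mem _ _ h := h.mem
  comp _ _ h := h.comp
  conj _ _ g h := h.cj g
  type0 u X v Y h h' hc := h0 u v X Y h h' hc.symm
  pump u X x h hx hx1 hxu hf := by
    obtain ⟨M, hM, hle, huM, -, hfM, hMt⟩ := E.pump h hx hx1 hxu hf
    refine ⟨M, hM, hle, huM, hfM, fun hxM => ⟨orderOf_two hx hx1, hxM, hM, hMt⟩, ?_⟩
    intro a haM ha ha1 hfa
    have h1 := E.congr_of_fixes hMt huM haM h.sq ha h.ne_one ha1 hfM hfa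
    obtain ⟨o, -, ho⟩ := Lifting.exists_conj_eq (odd_card_core M) (v := u) (v' := a) (n := 1)
      (m := 1) (by rw [pow_one, pow_two, h.sq]) (by rw [pow_one, pow_two, ha])
      (le_normalizer_core M huM) h1
    exact ⟨_, ho ▸ h.cj o⟩

/-- the induction setting for a simple group -/
theorem env_of_simple [IsSimpleGroup G] (hP : PQS two.{u} (Nat.card G)) {u : G} {X : Subgroup G}
    (hX : IsPair two u X) : Env G where
  ih := hP
  kf := kfacts
  cent := by
    intro x _ hx1 htop
    have hxc : x ∈ center G := by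
      rw [mem_center_iff]
      intro g
      have : g ∈ centralizer ({x} : Set G) := by rw [htop]; trivial
      exact comm_c this
    rcases (inferInstance : (center G).Normal).eq_bot_or_eq_top with h | h
    · rw [h, mem_bot] at hxc
      exact hx1 hxc
    · apply hX.comp.ne_bot
      rw [← hX.comp.perfect, eq_bot_iff, commutator_le]
      intro a _ b _
      rw [mem_bot, commutatorElement_eq_one_iff_mul_comm]
      have hb : b ∈ center G := by rw [h]; trivial
      exact mem_center_iff.mp hb a

/-- The simple case, if all commuting pairs are of type (0). -/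
theorem simpleCase_of
    (h1173 : ∀ (G : Type u) [Group G] [Finite G], Cfsg.oddCore G = ⊥ →
      ∀ (S : Sylow 2 G) (T : Subgroup G), IsStronglyClosed T (S : Subgroup G) →
        ((⨅ n : ℕ, derivedSeries ↥(centralizer (T : Set G)) n).map
          (centralizer (T : Set G)).subtype).Normal)
    (h0 : ∀ (G : Type u) [Group G] [Finite G], Env G → ∀ (u v : G) (X Y : Subgroup G),
      IsPair two u X → IsPair two v Y → u * v = v * u → Fixes v X) : SimpleCase.{u} two := by
  intro G _ _ _ hP z L hp
  have E := env_of_simple hP hp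
  have hO : Cfsg.oddCore G = ⊥ := by
    have hn : (Cfsg.oddCore G).Normal := Lib.Cores.pPrimeCore_normal 2
    refine hn.eq_bot_or_eq_top.resolve_right fun h => ?_
    have h1 : Odd (Nat.card (Cfsg.oddCore G)) :=
      Nat.coprime_two_right.mp (Lib.Cores.pPrimeCore_coprime 2)
    exact hp.comp.not_odd h1 (by rw [h]; exact le_top)
  exact (E.world hp (h0 G E)).false_of (h1173 G hO)

end Cfsg.Agent.UGT.I34.Two
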