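import Cfsg.Agent.UGT.I34.Two.StepTwoB
import Cfsg.Agent.UGT.I34.Two.HalfFalse
import Cfsg.Agent.UGT.I34.Two.StepTwoA
import Cfsg.Agent.UGT.I34.Two.Outer
import Cfsg.Agent.UGT.I34.Two.World

/-!
# THEOREM I34 for `Z = 2`
-/

set_option autoImplicit false

open Cfsg Subgroup
open Cfsg.Agent.SignalizersComponents
open Cfsg.Agent.SignalizersComponents.IntrinsicBasic
open Cfsg.Agent.Intrinsic
open Cfsg.Agent.Intrinsic.Basic hiding IsPair PQS Target
open Cfsg.Agent.Intrinsic.Quot hiding Big isPair_quot small_or_big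
open Cfsg.Agent.Intrinsic.WZero (fixes_of_comm fixSub mem_fixSub mem_cent inv_eq)
open Cfsg.Agent.UGT.I34 Cfsg.Agent.UGT.I34.Pair Cfsg.Agent.UGT.I34.Red
open Cfsg.Agent.McLLyComp.Act

namespace Cfsg.Agent.UGT.I34.Two

universe u

variable {G : Type u} [Group G] [Finite G]

/-- **Step 2**: type I does not occur. -/
theorem Env.fixes_of_inn (E : Env G) {u v : G} {X Y : Subgroup G} (hX : IsPair two u X)
    (hY : IsPair two v Y) (huv : u * v = v * u) (hv : v ∈ normalizer (X : Set G))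
    (hinn : act X ⟨v, hv⟩ ∈ Inn (Bar X)) : Fixes v X := by
  by_contra hnf
  have hmove : ∀ (u v : G) (X Y : Subgroup G), IsPair two u X → IsPair two v Y →
      u * v = v * u → v ∈ normalizer (X : Set G) := fun u v X Y h1 h2 h3 => E.no_move h1 h2 h3
  obtain ⟨t, ht, htt, htc⟩ := E.inn_data hX hY.sq hv hinn hnf
  have hu : u ∈ normalizer (Y : Set G) := E.no_move hY hX huv.symm
  have hinn' := E.inn_symm hmove hX hY huv hv t ht htt htc hu
  have hnf' : ¬ Fixes u Y := fun h => hnf (typeZero_symm' hY hX huv.symm h)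
  obtain ⟨t', ht', htt', htc'⟩ := E.inn_data hY hX.sq hu hinn' hnf'
  have hnX : centralizer ({u} : Set G) ≤ normalizer (X : Set G) := by
    intro c hc
    have h1 : IsPair two u (cj c X) := by
      have := hX.cj c
      rwa [comm_c hc, mul_inv_cancel_right] at this
    exact mem_normalizer_iff_cj.mpr (E.unique_of_inn hmove hX hY huv hv t ht htt htc h1)
  have hnY : centralizer ({v} : Set G) ≤ normalizer (Y : Set G) := by
    intro c hc
    have h1 : IsPair two v (cj c Y) := by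
      have := hY.cj c
      rwa [comm_c hc, mul_inv_cancel_right] at this
    exact mem_normalizer_iff_cj.mpr (E.unique_of_inn hmove hY hX huv.symm hu t' ht' htt' htc' h1)
  obtain ⟨S, hSL, hS2, hS⟩ := exists_syl (centralizer ({u} : Set G) ⊓ centralizer ({v} : Set G))
  have huS : u ∈ S := mem_syl hS2 hS ⟨mem_c rfl, mem_c huv⟩ hX.sq fun l hl => comm_c hl.1
  have hvS : v ∈ S := mem_syl hS2 hS ⟨mem_c huv.symm, mem_c rfl⟩ hY.sq fun l hl => comm_c hl.2
  obtain ⟨z, P, Zc, ρ, ι, hH, hρ⟩ := E.half hX hY huv hv ht htt htc hnX hSL hS2 hS huS hvS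
  obtain ⟨z', P', Zc', ρ', ι', hH', hρ'⟩ := E.half hY hX huv.symm hu ht' htt' htc' hnY
    (by rwa [inf_comm]) hS2 (by rwa [inf_comm]) hvS huS
  have hker : ρ.ker ⊓ ρ'.ker = ⊥ := by
    rw [eq_bot_iff]
    rintro x ⟨h1, h2⟩
    have f1 := hρ x (MonoidHom.mem_ker.mp h1)
    have f2 := hρ' x (MonoidHom.mem_ker.mp h2)
    by_contra hx1
    have hx1' : (x : G) ≠ 1 := fun h => hx1 (Subgroup.mem_bot.mpr (Subtype.ext h))
    obtain ⟨k, hk⟩ := hS2 x
    have hk' : (x : G) ^ 2 ^ k = 1 := congrArg Subtype.val hk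
    obtain ⟨m, hm1, hm2⟩ := exists_inv_pow hk' hx1'
    have hf1 : (x : G) ^ m ∈ fixSub X := pow_mem (mem_fixSub.mpr f1) m
    have hf2 : (x : G) ^ m ∈ fixSub Y := pow_mem (mem_fixSub.mpr f2) m
    have hxm := hSL (pow_mem x.2 m)
    exact E.not_both hX hY huv hnf hm1 hm2 (comm_c hxm.1) (comm_c hxm.2) hf1 hf2
  exact Half.false hS2 hH hH' hker

/-- All commuting pairs are of type (0). -/
theorem Env.type_zero (E : Env G) (u v : G) (X Y : Subgroup G) (hX : IsPair two u X)
    (hY : IsPair two v Y) (huv : u * v = v * u) : Fixes v X :=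
  E.fixes_of (fun _ _ _ _ h1 h2 h3 => E.no_move h1 h2 h3)
    (fun _ _ _ _ h1 h2 h3 hv hi => E.fixes_of_inn h1 h2 h3 hv hi) u v X Y hX hY huv

/-- **THEOREM I34 for `Z = 2`**, `h1173` = statement S1173. -/
theorem simpleCase
    (h1173 : ∀ (G : Type u) [Group G] [Finite G], Cfsg.oddCore G = ⊥ →
      ∀ (S : Sylow 2 G) (T : Subgroup G), IsStronglyClosed T (S : Subgroup G) →
        ((⨅ n : ℕ, derivedSeries ↥(centralizer (T : Set G)) n).map
          (centralizer (T : Set G)).subtype).Normal) : SimpleCase.{u} two :=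
  simpleCase_of h1173 fun _ _ _ E => E.type_zero

end Cfsg.Agent.UGT.I34.Two
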