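import Cfsg.Agent.UGT.I34.Two.Defs
import Cfsg.Agent.UGT.I34.Zero
import Cfsg.Agent.UGT.I34.Lam
import Cfsg.Agent.McLLyComp.PumpT
import Cfsg.Agent.Intrinsic.TypeGOne

/-!
# THEOREM I34 for `Z = 2`: the group level, basic facts

* `Env G` : the induction setting.
* `Env.pump`, `Env.back` : the small pump-up of a pair.
* `Env.not_both` : (**) no involution commuting with `u`, `v` fixes both `X` and `Y` if `v` does not fix `X`.
* `Env.key` : `s` fixes `Y ∈ Ω_v`, `q` commutes with `s`: the square of `v v^q` has odd order.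
* `Env.sharp` : (#).
-/

set_option autoImplicit false

open Cfsg Subgroup
open Cfsg.Agent.SignalizersComponents
open Cfsg.Agent.SignalizersComponents.IntrinsicBasic
open Cfsg.Agent.Intrinsic
open Cfsg.Agent.Intrinsic.Basic hiding IsPair PQS Target
open Cfsg.Agent.Intrinsic.Cen hiding pair_comm pair_mem_cen exists_pump pump_unique
open Cfsg.Agent.Intrinsic.Quot hiding Big isPair_quot small_or_big
open Cfsg.Agent.Intrinsic.Diag
open Cfsg.Agent.Intrinsic.WZero (fixes_of_comm fixSub mem_fixSub mem_cent inv_eq)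
open Cfsg.Agent.UGT.I34 Cfsg.Agent.UGT.I34.Pair
open Cfsg.Agent.McLLyComp.Act
open scoped commutatorElement

namespace Cfsg.Agent.UGT.I34.Two

universe u

/-- the induction setting -/
structure Env (G : Type u) [Group G] [Finite G] : Prop where
  ih : PQS two.{u} (Nat.card G)
  cent : ∀ x : G, x * x = 1 → x ≠ 1 → centralizer ({x} : Set G) ≠ ⊤
  kf : KFacts.{u}

/-! ### arithmetic -/

section arith

variable {G : Type*} [Group G]

/-- an element of odd order lies in a subgroup as soon as some `2 ^ k`-th power does -/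
theorem mem_of_pow {x : G} {N H : Subgroup G} (hN : Odd (Nat.card N)) (hx : x ∈ N) {k : ℕ}
    (h : x ^ 2 ^ k ∈ H) : x ∈ H := by
  have h1 : Odd (orderOf x) := Odd.of_dvd_nat hN (Subgroup.orderOf_dvd_natCard N hx)
  have h2 : (2 ^ k).Coprime (orderOf x) := Nat.Coprime.pow_left k h1.coprime_two_left
  obtain ⟨m, hm⟩ := exists_pow_eq_self_of_coprime h2
  rw [← hm]
  exact H.pow_mem h m

/-- commuting with the same involution -/
theorem sq_comm {a b : G} (ha : a * a = 1) (hb : b * b = 1) : (a * b) * (a * b) = ⁅a, b⁆ := by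
  rw [commutatorElement_def, inv_eq_of_mul_eq_one_left ha, inv_eq_of_mul_eq_one_left hb]
  group

end arith

section

variable {G : Type u} [Group G] {u v : G} {X Y : Subgroup G}

theorem fixes_self (h : IsPair two u X) : Fixes u X :=
  fixes_of_comm fun _ hy => (pair_comm h hy).symm

theorem mem_c {x y : G} (h : y * x = x * y) : y ∈ centralizer ({x} : Set G) :=
  mem_centralizer_singleton_iff.mpr h

theorem comm_c {x y : G} (h : y ∈ centralizer ({x} : Set G)) : y * x = x * y :=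
  mem_centralizer_singleton_iff.mp h

variable [Finite G]

theorem mk_ne_one {M : Subgroup G} {x : G} (hx : x ∈ M) (h2 : x * x = 1) (h1 : x ≠ 1) :
    (QuotientGroup.mk ⟨x, hx⟩ : Bar M) ≠ 1 := by
  rw [Ne, Quot.mk_eq_one_iff]
  exact fun h => h1 (eq_one_of_mem_core_sq h h2)

/-- the K-facts for `X / O(X)`, the central involution is the image of `u` -/
theorem Env.kf_pair (E : Env G) (h : IsPair two u X) :
    KF (Bar X) (QuotientGroup.mk ⟨u, h.mem⟩) := by
  obtain ⟨z, hz⟩ := E.kf (Bar X) h.kind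
  have h1 : (QuotientGroup.mk ⟨u, h.mem⟩ : Bar X) ∈ center (Bar X) :=
    (mk_mem_center_iff h.mem).mpr (fixes_self h)
  rcases (hz.mem_center _).mp h1 with h2 | h2
  · exact absurd h2 (mk_ne_one h.mem h.sq h.ne_one)
  · rw [h2]; exact hz

/-- involutions of `M` fixing `M` are congruent if `M / O(M)` is `2.L3(4)` -/
theorem Env.congr_of_fixes (E : Env G) {M : Subgroup G} (hM : IsTwo (Bar M)) {a b : G} (ha : a ∈ M)
    (hb : b ∈ M) (ha2 : a * a = 1) (hb2 : b * b = 1) (ha1 : a ≠ 1) (hb1 : b ≠ 1) (hfa : Fixes a M)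
    (hfb : Fixes b M) : a⁻¹ * b ∈ core M := by
  obtain ⟨z, hz⟩ := E.kf (Bar M) hM
  rw [← Quot.mk_eq_mk_iff' ha hb]
  have h1 := (hz.mem_center _).mp ((mk_mem_center_iff ha).mpr hfa)
  have h2 := (hz.mem_center _).mp ((mk_mem_center_iff hb).mpr hfb)
  rw [h1.resolve_left (mk_ne_one ha ha2 ha1), h2.resolve_left (mk_ne_one hb hb2 hb1)]

theorem Env.card_lt (E : Env G) {x : G} (hx : x * x = 1) (hx1 : x ≠ 1) {R : Subgroup G}
    (hR : R ≤ centralizer ({x} : Set G)) : Nat.card R < Nat.card G :=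
  TypeGOne.card_lt_of_comp (E.cent x hx hx1) hR

/-- The pump-up of a pair is small. -/
theorem Env.pump (E : Env G) (h : IsPair two u X) {s : G} (hs : s * s = 1) (hs1 : s ≠ 1)
    (hsu : s * u = u * s) (hf : Fixes s X) :
    ∃ M, IsComp (centralizer ({s} : Set G)) M ∧ cen X s ≤ M ∧ u ∈ M ∧ Small (cen X s) M ∧
      Fixes u M ∧ IsTwo (Bar M) := by
  obtain ⟨M, hM, hle, huM⟩ := Pair.exists_pump h hs hsu hf
  have hsC : s ∈ centralizer ({u} : Set G) := mem_c hsu
  have h1 := (isComp_cen h.comp hsC hs hf).1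
  rw [inf_comm] at h1
  have hk : two.P (Bar (cen X s)) := (kind_cen h.comp hsC hs hf).mpr h.kind
  rcases Pair.small_or_big E.ih h.inv (pair_mem_cen h hsu) h1 hk hM hle
    (E.card_lt hs hs1 hM.le) with h2 | ⟨_, h2⟩
  · exact ⟨M, hM, hle, huM, h2, h2.fixes (pair_mem_cen h hsu) fun x hx =>
      mem_c (pair_comm h (cen_le X s hx)), kind_of_small h2 hk⟩
  · exact h2.elim

/-- An element of `C(u) ∩ C(s)` fixing the pump-up in `C(s)` fixes `X`. -/
theorem Env.back (_ : Env G) (h : IsPair two u X) {s : G} (hs : s * s = 1)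
    (hsu : s * u = u * s) (hf : Fixes s X) {M : Subgroup G} (hle : cen X s ≤ M)
    (hsm : Small (cen X s) M) {a : G} (hau : a * u = u * a) (has : a * s = s * a)
    (haM : Fixes a M) : Fixes a X := by
  have hsC : s ∈ centralizer ({u} : Set G) := mem_c hsu
  obtain ⟨hJ, hJX⟩ := isComp_cen h.comp hsC hs hf
  obtain ⟨J, hJd⟩ : ∃ J, J = cen X s := ⟨_, rfl⟩
  rw [← hJd] at hJ hJX hle hsm
  have haC : a ∈ centralizer ({u} : Set G) ⊓ centralizer ({s} : Set G) := ⟨mem_c hau, mem_c has⟩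
  have hJ' := isComp_cj_of_mem hJ haC
  have hcore : core J ≤ core M := core_le_of_sup hsm
  -- `a` normalizes `J`
  have haJ : cj a J = J := by
    by_contra hne
    have h1 : ⁅J, J⁆ ≤ core M := by
      rw [commutator_le]
      intro x hx y hy
      have h2 : ⁅x, a * y * a⁻¹⁆ ∈ core M :=
        hcore (hJ.comm_le_core hJ' (Ne.symm hne)
          (commutator_mem_commutator hx (conj_mem_cj hy))).1
      have h3 : ⁅a, y⁆ ∈ core M := haM.2 y (hle hy)
      have hxM : x ∈ normalizer (core M : Set G) := le_normalizer_core M (hle hx)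
      have e1 : a * y * a⁻¹ = ⁅a, y⁆ * y := by rw [commutatorElement_def]; group
      have e2 : ⁅x, y⁆ = (x * ⁅a, y⁆⁻¹ * x⁻¹) * (⁅x, a * y * a⁻¹⁆ * ⁅a, y⁆) := by
        rw [e1, commutatorElement_def x, commutatorElement_def x]; group
      rw [e2]
      exact mul_mem ((mem_normalizer_iff.mp hxM _).mp (inv_mem h3)) (mul_mem h2 h3)
    rw [hJ.perfect] at h1
    exact hJ.not_odd (odd_card_core M) h1
  have hJX' : J ≤ X := hJd ▸ cen_le X s
  -- `a` normalizes `X`
  have haX : cj a X = X := by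
    have h1 : IsComp (centralizer ({u} : Set G)) (cj a X) := isComp_cj_of_mem h.comp haC.1
    refine hJ.unique h1 h.comp ?_ hJX'
    rw [← haJ]
    exact cj_mono hJX'
  have h1 : Fixes a J := (fixes_iff_of_sup hsm (mem_normalizer_iff_cj.mpr haJ) haM.1).mpr haM
  exact (fixes_iff_of_sup hJX (mem_normalizer_iff_cj.mpr haJ) (mem_normalizer_iff_cj.mpr haX)).mp h1

/-- **(\*\*)** -/
theorem Env.not_both (E : Env G) (hX : IsPair two u X) (hY : IsPair two v Y) (huv : u * v = v * u)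
    (hvX : ¬ Fixes v X) {s : G} (hs : s * s = 1) (hs1 : s ≠ 1) (hsu : s * u = u * s)
    (hsv : s * v = v * s) (hsX : Fixes s X) (hsY : Fixes s Y) : False := by
  obtain ⟨M, hM, hle, -, hsm, -, -⟩ := E.pump hX hs hs1 hsu hsX
  obtain ⟨N, hN, -, hvN, -, hfN, -⟩ := E.pump hY hs hs1 hsv hsY
  apply hvX
  apply E.back hX hs hsu hsX hle hsm huv.symm hsv.symm
  by_cases hMN : M = N
  · rw [hMN]; exact hfN
  · exact hM.fixes_of_mem hN hMN hvN

/-- `s` fixes `Y ∈ Ω_v`, `q` commutes with `s`: the square of `v v^q` has odd order. -/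
theorem Env.key (E : Env G) (hY : IsPair two v Y) {s : G} (hs : s * s = 1) (hs1 : s ≠ 1)
    (hsv : s * v = v * s) (hsY : Fixes s Y) {q : G} (hq : q * s = s * q) :
    ∃ M : Subgroup G, (v * (q * v * q⁻¹)) * (v * (q * v * q⁻¹)) ∈ core M := by
  obtain ⟨M, hM, -, hvM, -, hfM, hMt⟩ := E.pump hY hs hs1 hsv hsY
  have hqM : IsComp (centralizer ({s} : Set G)) (cj q M) := isComp_cj_of_mem hM (mem_c hq)
  have hv2 := hY.sq
  have hv2' : q * v * q⁻¹ * (q * v * q⁻¹) = 1 := by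
    calc q * v * q⁻¹ * (q * v * q⁻¹) = q * (v * v) * q⁻¹ := by group
      _ = 1 := by rw [hv2]; group
  have hv1' : q * v * q⁻¹ ≠ 1 := by
    intro h
    apply hY.ne_one
    calc v = q⁻¹ * (q * v * q⁻¹) * q := by group
      _ = 1 := by rw [h]; group
  have hvi : v⁻¹ = v := inv_eq_of_mul_eq_one_left hv2
  refine ⟨M, ?_⟩
  by_cases h : cj q M = M
  · have h1 : q * v * q⁻¹ ∈ M := by rw [← h]; exact conj_mem_cj hvM
    have h2 : Fixes (q * v * q⁻¹) M := by
      have := hfM.cj q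
      rwa [h] at this
    have h3 := E.congr_of_fixes hMt hvM h1 hv2 hv2' hY.ne_one hv1' hfM h2
    rw [hvi] at h3
    exact mul_mem h3 h3
  · have h1 : q * v * q⁻¹ ∈ cj q M := conj_mem_cj hvM
    rw [sq_comm hv2 hv2']
    exact (hM.comm_le_core hqM (Ne.symm h) (commutator_mem_commutator hvM h1)).1

/-- lifting an element commuting with `s` modulo `O(X)` -/
theorem lift_comm {s : G} (hs : s * s = 1) (hsX : s ∈ normalizer (X : Set G)) (p : Bar X)
    (hp : act X ⟨s, hsX⟩ p = p) :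
    ∃ q, ∃ hq : q ∈ X, q * s = s * q ∧ (QuotientGroup.mk ⟨q, hq⟩ : Bar X) = p := by
  obtain ⟨⟨p, hpX⟩, rfl⟩ := QuotientGroup.mk_surjective p
  rw [act_mk hsX hpX, Cfsg.Agent.McLLyComp.Act.mk_eq_iff] at hp
  have hp' : p⁻¹ * (s * p * s⁻¹) ∈ core X := by
    have := inv_mem hp
    convert this using 1
    group
  obtain ⟨o, ho, hc⟩ := Lifting.exists_commute (odd_card_core X) (n := 1)
    (by rw [pow_one, pow_two, hs]) (normalizer_le_normalizer_core X hsX) hp'
  refine ⟨p * o, mul_mem hpX (core_le X ho), hc.symm, ?_⟩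
  rw [Cfsg.Agent.McLLyComp.Act.mk_eq_iff]
  have : (p * o)⁻¹ * p = o⁻¹ := by group
  rw [this]
  exact inv_mem ho

/-- elements of `C_K(t)` have 2-power order -/
theorem pow_of_comm {K : Type*} [Group K] {z t : K} (hz : KF K z) (ht : t * t = 1)
    (htc : t ∉ center K) {p : K} (hp : p * t = t * p) : p ^ 2 ^ 7 = 1 := by
  obtain ⟨P, Z, hL⟩ := hz.loc t ht htc
  have h1 := pow_card_eq_one' (x := (⟨p, (hL.mem_P p).mpr hp⟩ : P))
  rw [hL.card_P] at h1
  exact congrArg Subtype.val h1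

/-- **(#)** -/
theorem Env.sharp (E : Env G) (hX : IsPair two u X) (hY : IsPair two v Y)
    (hvX : v ∈ normalizer (X : Set G)) (hout : act X ⟨v, hvX⟩ ∉ Inn (Bar X)) {s : G} (hsX : s ∈ X)
    (hs : s * s = 1) (hsv : s * v = v * s) (hfs : ¬ Fixes s X) : ¬ Fixes s Y := by
  intro hsY
  have hz := E.kf_pair hX
  have hs1 : s ≠ 1 := by
    rintro rfl
    exact hfs (fixes_one X)
  obtain ⟨t, ht⟩ : ∃ t, t = (QuotientGroup.mk ⟨s, hsX⟩ : Bar X) := ⟨_, rfl⟩
  obtain ⟨α, hα⟩ : ∃ α, α = act X ⟨v, hvX⟩ := ⟨_, rfl⟩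
  have hv2 := hY.sq
  have hvi : v⁻¹ = v := inv_eq_of_mul_eq_one_left hv2
  have htt : t * t = 1 := by
    rw [ht]
    change (QuotientGroup.mk (⟨s, hsX⟩ * ⟨s, hsX⟩) : Bar X) = 1
    rw [show (⟨s, hsX⟩ * ⟨s, hsX⟩ : ↥X) = 1 from Subtype.ext hs]
    rfl
  have htc : t ∉ center (Bar X) := by
    rw [ht, mk_mem_center_iff]
    exact hfs
  have hαα : α * α = 1 := by
    rw [hα, ← act_mul hvX hvX, act_eq_one_iff]
    rw [hv2]
    exact fixes_one X
  have hαt : α t = t := by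
    rw [hα, ht, act_mk hvX hsX, Cfsg.Agent.McLLyComp.Act.mk_eq_iff]
    rw [← hsv, mul_inv_cancel_right, inv_mul_cancel]
    exact one_mem _
  obtain ⟨p, hpt, hp⟩ := hz.sharp α hαα (hα ▸ hout) t htt htc hαt
  obtain ⟨q, hqX, hqs, hqp⟩ := lift_comm hs (le_normalizer hsX) p (by
    rw [act_of_mem hsX, ← ht, MulAut.conj_apply, ← hpt, mul_inv_cancel_right])
  obtain ⟨M, hM⟩ := E.key hY hs hs1 hsv hsY hqs
  obtain ⟨w, hw⟩ : ∃ w, w = v * (q * v * q⁻¹) := ⟨_, rfl⟩
  rw [← hw] at hM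
  have hvq : v * q * v⁻¹ ∈ X := (mem_normalizer_iff.mp hvX q).mp hqX
  have hw' : w = (v * q * v⁻¹) * q⁻¹ := by rw [hw, hvi]; group
  have hwX : w ∈ X := by
    rw [hw']
    exact mul_mem hvq (inv_mem hqX)
  have hmk : (QuotientGroup.mk ⟨w, hwX⟩ : Bar X) = α p * p⁻¹ := by
    have h1 : (⟨w, hwX⟩ : ↥X) = ⟨v * q * v⁻¹, hvq⟩ * ⟨q, hqX⟩⁻¹ := Subtype.ext hw'
    rw [h1, hα, ← hqp, act_mk hvX hqX]
    rfl
  have hc : (α p * p⁻¹) * t = t * (α p * p⁻¹) := by
    have e1 : α p * t = t * α p := by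
      calc α p * t = α (p * t) := by rw [map_mul, hαt]
        _ = t * α p := by rw [hpt, map_mul, hαt]
    have e2 : p⁻¹ * t = t * p⁻¹ := by
      calc p⁻¹ * t = p⁻¹ * (t * p) * p⁻¹ := by group
        _ = t * p⁻¹ := by rw [← hpt]; group
    rw [mul_assoc, e2, ← mul_assoc, e1, mul_assoc]
  have h1 := pow_of_comm hz htt htc hc
  have h2 : w ^ 2 ^ 7 ∈ core X := by
    have h3 : (QuotientGroup.mk ⟨w ^ 2 ^ 7, pow_mem hwX _⟩ : Bar X) = 1 := by
      rw [← h1, ← hmk]
      rfl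
    exact (Quot.mk_eq_one_iff _).mp h3
  have h3 : w * w ∈ core X := by
    apply mem_of_pow (odd_card_core M) hM (k := 6)
    rw [← pow_two, ← pow_mul, show 2 * 2 ^ 6 = 2 ^ 7 by norm_num]
    exact h2
  apply hp
  rw [← hmk]
  exact (Quot.mk_eq_one_iff (mul_mem hwX hwX)).mpr h3

end

end Cfsg.Agent.UGT.I34.Two
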