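import Cfsg.Agent.UGT.I34.Two.Defs

/-!
# Step 2 of [B]: the abstract configuration

`S` is a Sylow 2-subgroup of `C(u, v)`, `U = S ∩ X`, `V = S ∩ Y`, `ρ` the action of `S` on `X / O(X)`,
`ι : U → X / O(X)`.
-/

set_option autoImplicit false

open Subgroup
open scoped commutatorElement

namespace Cfsg.Agent.UGT.I34.Two

/-- one half of the configuration of Step 2 -/
structure Half {S : Type*} [Group S] (u v : S) (U : Subgroup S) {K : Type*} [Group K] (z t : K)
    (P Z : Subgroup K) (ρ : S →* MulAut K) (ι : ↥U →* K) : Prop where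
  kf : KF K z
  loc : Loc K z t P Z
  tt : t * t = 1
  nc : t ∉ center K
  normal : U.Normal
  ucen : ∀ s, s * u = u * s
  vcen : ∀ s, s * v = v * s
  inj : Function.Injective ι
  range : ι.range = P
  conj : ∀ x : ↥U, ρ x = MulAut.conj (ι x)
  equi : ∀ (s : S) (x : ↥U) (h : s * x * s⁻¹ ∈ U), ι ⟨s * x * s⁻¹, h⟩ = ρ s (ι x)
  hu : ∃ h : u ∈ U, ι ⟨u, h⟩ = z
  hv : ρ v = MulAut.conj t

end Cfsg.Agent.UGT.I34.Two
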