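import Cfsg.Agent.UGT.I34.Two.Half

/-!
# Step 2 of [B]: the end of the abstract configuration

`Half.mem_of_hF`: (f)-(i). If every element of `Z(U)` or its product with `u` lies in the kernel of `ρ'`, then
`u ∉ V` and `v ∈ U`.
-/

set_option autoImplicit false

open Subgroup
open scoped commutatorElement

namespace Cfsg.Agent.UGT.I34.Two

namespace Half

variable {S : Type*} [Group S] {u v : S} {U V : Subgroup S} {K : Type*} [Group K] {K' : Type*} [Group K']
  {z t : K} {P Z : Subgroup K} {ρ : S →* MulAut K} {ι : ↥U →* K}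
  {z' t' : K'} {P' Z' : Subgroup K'} {ρ' : S →* MulAut K'} {ι' : ↥V →* K'}

theorem conj_eq_one_iff {x : K} : (MulAut.conj x : MulAut K) = 1 ↔ x ∈ center K := by
  rw [mem_center_iff]
  constructor
  · intro h g
    have h1 := DFunLike.congr_fun h g
    rw [MulAut.conj_apply, MulAut.one_apply, mul_inv_eq_iff_eq_mul] at h1
    exact h1.symm
  · intro h
    apply MulEquiv.ext
    intro g
    rw [MulAut.conj_apply, MulAut.one_apply, mul_inv_eq_iff_eq_mul]
    exact (h g).symm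

/-- `u ∈ U` is an involution -/
theorem usq (h : Half u v U z t P Z ρ ι) : u * u = 1 := by
  obtain ⟨hu, hz⟩ := h.hu
  have h1 : ι (⟨u, hu⟩ * ⟨u, hu⟩) = 1 := by rw [map_mul, hz, h.kf.z_sq]
  have h2 : (⟨u, hu⟩ : ↥U) * ⟨u, hu⟩ = 1 := h.inj (by rw [h1, map_one])
  exact congrArg Subtype.val h2

/-- the kernel of `ρ` on `U` -/
theorem eq_of_ker (h : Half u v U z t P Z ρ ι) {x : S} (hx : x ∈ U) (hr : ρ x = 1) : x = 1 ∨ x = u := by
  obtain ⟨hu, hz⟩ := h.hu
  have h1 := h.conj ⟨x, hx⟩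
  have h2 : ι ⟨x, hx⟩ ∈ center K := by
    rw [← conj_eq_one_iff, ← h1]; exact hr
  rcases (h.kf.mem_center _).mp h2 with h3 | h3
  · left
    have h4 : (⟨x, hx⟩ : ↥U) = 1 := h.inj (by rw [h3, map_one])
    exact congrArg Subtype.val h4
  · right
    have h4 : (⟨x, hx⟩ : ↥U) = ⟨u, hu⟩ := h.inj (by rw [h3, hz])
    exact congrArg Subtype.val h4

/-- the kernel of `ρ` centralises `U` -/
theorem comm_of_ker (h : Half u v U z t P Z ρ ι) {x y : S} (hx : ρ x = 1) (hy : y ∈ U) : x * y = y * x := by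
  have hn := h.normal.conj_mem y hy x
  have h1 := h.equi x ⟨y, hy⟩ hn
  rw [hx, MulAut.one_apply] at h1
  have h2 := congrArg Subtype.val (h.inj h1)
  exact mul_inv_eq_iff_eq_mul.mp h2

/-- the action of `s` on `U` in `K` -/
theorem equi' (h : Half u v U z t P Z ρ ι) (s : S) (x : ↥U) :
    ∃ y : ↥U, (y : S) = s * x * s⁻¹ ∧ ι y = ρ s (ι x) :=
  ⟨⟨s * x * s⁻¹, h.normal.conj_mem x x.2 s⟩, rfl, h.equi s x _⟩

/-- **(b)** an element of `S` acting as an inner automorphism acts as an element of `U` -/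
theorem exists_of_inn (h : Half u v U z t P Z ρ ι) {y : S} (hy : ρ y ∈ Inn K) :
    ∃ x : ↥U, ρ (x : S) = ρ y := by
  obtain ⟨b, hb⟩ := hy
  have h1 : y * v = v * y := h.vcen y
  have h2 : ρ y * ρ v = ρ v * ρ y := by rw [← map_mul, h1, map_mul]
  rw [← hb, h.hv] at h2
  have h3 : (MulAut.conj (b * t * b⁻¹ * t⁻¹) : MulAut K) = 1 := by
    rw [map_mul, map_mul, map_mul, map_inv, map_inv]
    change MulAut.conj b * MulAut.conj t = MulAut.conj t * MulAut.conj b at h2
    rw [h2, mul_inv_cancel_right, mul_inv_cancel]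
  rw [conj_eq_one_iff, h.kf.mem_center] at h3
  have h4 : b * t * b⁻¹ = t := by
    rcases h3 with h3 | h3
    · exact mul_inv_eq_one.mp h3
    · exfalso
      apply h.loc.nconj b
      have h5 : z ∈ center K := (h.kf.mem_center z).mpr (Or.inr rfl)
      have h6 : z * t = t * z := (mem_center_iff.mp h5 t).symm
      rw [mul_inv_eq_iff_eq_mul.mp h3, h6]
  have h5 : b ∈ P := (h.loc.mem_P b).mpr (mul_inv_eq_iff_eq_mul.mp h4)
  rw [← h.range] at h5
  obtain ⟨x, hx⟩ := h5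
  refine ⟨x, ?_⟩
  rw [h.conj, hx]
  exact hb

/-- **(f)-(i)** -/
theorem mem_of_hF [Finite S] (hS : IsPGroup 2 S) (h : Half u v U z t P Z ρ ι)
    (h' : Half v u V z' t' P' Z' ρ' ι')
    (hF : ∀ x : ↥U, ι x ∈ Z → ρ' (x : S) = 1 ∨ ρ' ((x : S) * u) = 1) : u ∉ V ∧ v ∈ U := by
  obtain ⟨huU, huz⟩ := h.hu
  obtain ⟨hvV, hvz⟩ := h'.hu
  have huu := h.usq
  have hZP : Z ≤ P := fun x hx => ((h.loc.mem_Z x).mp hx).1
  -- `Z(U)` and `Q = Z(U) ∩ ker ρ'`
  obtain ⟨ZU, hZU⟩ : ∃ ZU : Subgroup ↥U, ZU = Z.comap ι := ⟨_, rfl⟩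
  obtain ⟨Q, hQ⟩ : ∃ Q : Subgroup ↥U, Q = ZU ⊓ ρ'.ker.comap U.subtype := ⟨_, rfl⟩
  have hQmem : ∀ x : ↥U, x ∈ Q ↔ ι x ∈ Z ∧ ρ' (x : S) = 1 := by
    intro x
    rw [hQ, hZU, mem_inf, mem_comap, mem_comap, MonoidHom.mem_ker]
    rfl
  have hcZ : Nat.card ZU = 8 := by
    rw [← h.loc.card_Z, hZU]
    have h1 : (Z.comap ι).map ι = Z := by
      rw [map_comap_eq, h.range, inf_eq_right]
      exact hZP
    rw [← h1, Subgroup.card_map_of_injective h.inj, h1]
  have huZ : (⟨u, huU⟩ : ↥U) ∈ ZU := by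
    rw [hZU, mem_comap, huz, h.loc.mem_Z]
    have h5 : z ∈ center K := (h.kf.mem_center z).mpr (Or.inr rfl)
    exact ⟨(h.loc.mem_P z).mpr (mem_center_iff.mp h5 t).symm, fun y _ => (mem_center_iff.mp h5 y).symm⟩
  have hcQ : 4 ≤ Nat.card Q := by
    have h1 : (ZU : Set ↥U) ⊆ (Q : Set ↥U) ∪ (fun x => x * ⟨u, huU⟩) '' (Q : Set ↥U) := by
      intro x hx
      have hx' : ι x ∈ Z := by rw [hZU] at hx; exact hx
      rcases hF x hx' with h2 | h2
      · exact Or.inl ((hQmem x).mpr ⟨hx', h2⟩)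
      · right
        refine ⟨x * ⟨u, huU⟩, (hQmem _).mpr ⟨?_, h2⟩, ?_⟩
        · rw [map_mul]
          refine mul_mem hx' ?_
          rw [hZU] at huZ; exact huZ
        · change x * ⟨u, huU⟩ * ⟨u, huU⟩ = x
          rw [mul_assoc, show (⟨u, huU⟩ : ↥U) * ⟨u, huU⟩ = 1 from Subtype.ext huu, mul_one]
    have h2 := Set.ncard_le_ncard h1 (Set.toFinite _)
    have h3 := Set.ncard_union_le (Q : Set ↥U) ((fun x => x * ⟨u, huU⟩) '' (Q : Set ↥U))
    have h4 : ((fun x => x * ⟨u, huU⟩) '' (Q : Set ↥U)).ncard ≤ (Q : Set ↥U).ncard :=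
      Set.ncard_image_le (Set.toFinite _)
    have h5 : (ZU : Set ↥U).ncard = Nat.card ZU := rfl
    have h6 : (Q : Set ↥U).ncard = Nat.card Q := rfl
    omega
  -- elements of `V ∩ ker ρ'`
  have hker : ∀ x ∈ V, ρ' x = 1 → x = 1 ∨ x = v := fun x hx hr => h'.eq_of_ker hx hr
  -- (f)
  have hf : ¬ ∀ x : ↥U, ι x ∈ Z → (x : S) ∈ V := by
    intro hall
    have h1 : ∀ x ∈ Q, (x : S) = 1 ∨ (x : S) = v := by
      intro x hx
      obtain ⟨h2, h3⟩ := (hQmem x).mp hx
      exact hker x (hall x h2) h3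
    have h2 : Nat.card Q ≤ 2 := by
      have h3 : (Q : Set ↥U).ncard ≤ ({1, v} : Set S).ncard := by
        refine Set.ncard_le_ncard_of_injOn (fun x => (x : S)) ?_ ?_ (Set.toFinite _)
        · intro x hx
          exact h1 x hx
        · intro a _ b _ hab
          exact Subtype.ext hab
      exact h3.trans (Set.ncard_insert_le _ _ |>.trans (by rw [Set.ncard_singleton]))
    omega
  -- (g)
  have hg : ∀ y ∈ V, ∀ w ∈ Z, ρ y w = w := by
    intro y hy w hw
    have h1 : w ∈ ι.range := by rw [h.range]; exact hZP hw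
    obtain ⟨x, rfl⟩ := h1
    have h2 : (x : S) * y = y * x := by
      rcases hF x hw with h3 | h3
      · exact h'.comm_of_ker h3 hy
      · have h4 := h'.comm_of_ker h3 hy
        have h5 := h.ucen y
        have h6 : (x : S) * y * u = y * x * u := by
          calc (x : S) * y * u = x * (y * u) := by group
            _ = x * u * y := by rw [h5]; group
            _ = y * (x * u) := h4
            _ = y * x * u := by group
        exact mul_right_cancel h6
    obtain ⟨x', hx', he⟩ := h.equi' y x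
    have h3 : x' = x := Subtype.ext (by rw [hx', ← h2, mul_inv_cancel_right])
    rw [← he, h3]
  have hVn := h'.normal
  -- (h)
  have hinn : ∀ y ∈ V, ρ y ∈ Inn K := by
    intro y hy
    by_contra hout
    apply hf
    obtain ⟨n, hn⟩ := hS y
    obtain ⟨N, hN⟩ : ∃ N : Subgroup K, N = (V.subgroupOf U).map ι := ⟨_, rfl⟩
    have h1 := h.loc.out (ρ y) hout ⟨n, by rw [← map_pow, hn, map_one]⟩ (by
      intro x hx
      rw [← h.range] at hx ⊢
      obtain ⟨x, rfl⟩ := hx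
      obtain ⟨x', -, he⟩ := h.equi' y x
      exact ⟨x', he⟩) (fun w hw => Or.inl (hg y hy w hw)) N (by
      rw [hN, ← h.range]
      rintro _ ⟨x, -, rfl⟩
      exact ⟨x, rfl⟩) (by
      intro x hx n hn
      rw [← h.range] at hx
      rw [hN] at hn ⊢
      obtain ⟨x, rfl⟩ := hx
      obtain ⟨m, hm, rfl⟩ := hn
      refine ⟨x * m * x⁻¹, ?_, by rw [map_mul, map_mul, map_inv]⟩
      rw [SetLike.mem_coe, mem_subgroupOf] at hm ⊢
      exact hVn.conj_mem _ hm x) (by
      intro x hx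
      rw [← h.range] at hx
      rw [hN]
      obtain ⟨x, rfl⟩ := hx
      obtain ⟨x', hx', he⟩ := h.equi' y x
      refine ⟨x' * x⁻¹, ?_, by rw [map_mul, map_inv, he]⟩
      rw [SetLike.mem_coe, mem_subgroupOf]
      change (x' : S) * (x : S)⁻¹ ∈ V
      have h2 : (x' : S) * (x : S)⁻¹ = y * (x * y⁻¹ * (x : S)⁻¹) := by rw [hx']; group
      rw [h2]
      exact mul_mem hy (hVn.conj_mem _ (inv_mem hy) x))
    intro x hx
    have h2 : ι x ∈ N := h1 hx
    rw [hN] at h2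
    obtain ⟨x', hx', he⟩ := h2
    rw [← h.inj he]
    exact hx'
  -- (i)
  obtain ⟨y, hyV, x, hxy, hxZ⟩ : ∃ y ∈ V, ∃ x : ↥U, ρ (x : S) = ρ y ∧ ι x ∉ Z := by
    by_contra hcon
    push Not at hcon
    -- `ρ(V)` is abelian
    have h1 : ∀ a ∈ V, ∀ b ∈ V, ρ ⁅a, b⁆ = 1 := by
      intro a ha b hb
      obtain ⟨x, hx⟩ := h.exists_of_inn (hinn a ha)
      obtain ⟨x', hx'⟩ := h.exists_of_inn (hinn b hb)
      have h2 := hcon a ha x hx
      have h3 := hcon b hb x' hx'
      have h4 : ι x * ι x' = ι x' * ι x := ((h.loc.mem_Z _).mp h2).2 _ (hZP h3)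
      rw [map_commutatorElement, ← hx, ← hx', h.conj, h.conj, ← map_commutatorElement,
        commutatorElement_eq_one_iff_mul_comm.mpr h4, map_one]
    have h2 : v ∈ ⁅V, V⁆ := by
      have h3 := h'.loc.z_mem
      rw [← h'.range] at h3
      have h4 : ⁅ι'.range, ι'.range⁆ = (⁅V, V⁆.subgroupOf V).map ι' := by
        have h5 : ⁅V, V⁆.subgroupOf V = ⁅(⊤ : Subgroup ↥V), (⊤ : Subgroup ↥V)⁆ := by
          apply map_injective V.subtype_injective
          rw [subgroupOf_map_subtype, map_commutator, ← MonoidHom.range_eq_map, range_subtype]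
          exact inf_eq_left.mpr (commutator_le_self V)
        rw [h5, map_commutator, ← MonoidHom.range_eq_map]
      rw [h4] at h3
      obtain ⟨w, hw, hwz⟩ := h3
      have h5 : w = ⟨v, hvV⟩ := h'.inj (by rw [hwz, hvz])
      rw [h5] at hw
      exact hw
    have h3 : ⁅V, V⁆ ≤ ρ.ker := by
      rw [commutator_le]
      intro a ha b hb
      exact MonoidHom.mem_ker.mpr (h1 a ha b hb)
    have h4 : ρ v = 1 := MonoidHom.mem_ker.mp (h3 h2)
    rw [h.hv, conj_eq_one_iff] at h4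
    exact h.nc h4
  have hcomm : ∀ x' : ↥U, ((⁅x, x'⁆ : ↥U) : S) ∈ V := by
    intro x'
    obtain ⟨a, ha, hae⟩ := h.equi' y x'
    obtain ⟨b, hb, hbe⟩ := h.equi' x x'
    have h1 : a = b := h.inj (by rw [hae, hbe, hxy])
    have h2 : (x : S) * x' * (x : S)⁻¹ = y * x' * y⁻¹ := by rw [← ha, ← hb, h1]
    have h3 : ((⁅x, x'⁆ : ↥U) : S) = y * ((x' : S) * y⁻¹ * (x' : S)⁻¹) := by
      change (x : S) * x' * (x : S)⁻¹ * (x' : S)⁻¹ = _
      rw [h2]; group
    rw [h3]
    exact mul_mem hyV (hVn.conj_mem _ (inv_mem hyV) x')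
  have hxP : ι x ∈ P := by rw [← h.range]; exact ⟨x, rfl⟩
  have hor : ∀ w : ↥U, ι w ∈ Z → (w : S) ∈ V ∨ (w : S) * u ∈ V := by
    intro w hw
    obtain ⟨y', hy', h1⟩ := h.loc.surj (ι x) hxP hxZ (ι w) hw
    rw [← h.range] at hy'
    obtain ⟨x', rfl⟩ := hy'
    rw [← map_commutatorElement] at h1
    rcases h1 with h1 | h1
    · left
      rw [← h.inj h1]
      exact hcomm x'
    · right
      rw [← huz, ← map_mul] at h1
      have h2 := h.inj h1
      have h3 : (w : S) * u = ((w * ⟨u, huU⟩ : ↥U) : S) := rfl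
      rw [h3, ← h2]
      exact hcomm x'
  have hu : u ∉ V := by
    intro huV
    apply hf
    intro w hw
    rcases hor w hw with h1 | h1
    · exact h1
    · have h2 := mul_mem h1 huV
      rwa [mul_assoc, huu, mul_one] at h2
  refine ⟨hu, ?_⟩
  -- two elements of `Q`
  have h1 : ∃ w ∈ Q, w ≠ 1 ∧ (w : S) ∈ V := by
    by_contra hcon
    push Not at hcon
    obtain ⟨w₁, hw₁, hw1⟩ : ∃ w ∈ Q, w ≠ 1 := by
      by_contra hc
      push Not at hc
      have h2 : Q = ⊥ := (eq_bot_iff_forall _).mpr hc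
      rw [h2, card_bot] at hcQ
      omega
    obtain ⟨w₂, hw₂, hw2, hw12⟩ : ∃ w ∈ Q, w ≠ 1 ∧ w ≠ w₁ := by
      by_contra hc
      push Not at hc
      have h2 : (Q : Set ↥U) ⊆ {1, w₁} := by
        intro w hw
        by_cases h3 : w = 1
        · exact Or.inl h3
        · exact Or.inr (hc w hw h3)
      have h3 := Set.ncard_le_ncard h2 (Set.toFinite _)
      have h4 : ({1, w₁} : Set ↥U).ncard ≤ 2 := Set.ncard_insert_le _ _ |>.trans (by rw [Set.ncard_singleton])
      have h6 : (Q : Set ↥U).ncard = Nat.card Q := rfl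
      omega
    have e1 := (hor w₁ ((hQmem _).mp hw₁).1).resolve_left (hcon w₁ hw₁ hw1)
    have e2 := (hor w₂ ((hQmem _).mp hw₂).1).resolve_left (hcon w₂ hw₂ hw2)
    have hsq : ∀ w ∈ Q, w * w = 1 := by
      intro w hw
      have h5 := h.loc.sq_Z _ ((hQmem _).mp hw).1
      exact h.inj (by rw [map_mul, h5, map_one])
    refine hcon (w₁ * w₂) (mul_mem hw₁ hw₂) ?_ ?_
    · intro h3
      apply hw12
      have h4 : w₁ = w₂⁻¹ := eq_inv_of_mul_eq_one_left h3
      rw [h4, inv_eq_of_mul_eq_one_left (hsq w₂ hw₂)]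
    · have h3 := mul_mem e1 e2
      have h4 : (w₁ : S) * u * (w₂ * u) = ((w₁ * w₂ : ↥U) : S) := by
        change _ = (w₁ : S) * (w₂ : S)
        calc (w₁ : S) * u * (w₂ * u) = w₁ * (u * w₂) * u := by group
          _ = w₁ * w₂ * (u * u) := by rw [← h.ucen]; group
          _ = _ := by rw [huu, mul_one]
      rwa [h4] at h3
  obtain ⟨w, hw, hw1, hwV⟩ := h1
  rcases hker w hwV ((hQmem w).mp hw).2 with h2 | h2
  · exact absurd (Subtype.ext h2) hw1
  · rw [← h2]; exact w.2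

end Half

end Cfsg.Agent.UGT.I34.Two
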