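import Cfsg.Agent.OddHalf.D9.L34.Exists
import Cfsg.Agent.OddHalf.D9.L34.OutAut
import Cfsg.Agent.OddHalf.D9.L34.Inner
import Cfsg.Agent.UGT.I34.KAut

/-!
# THEOREM I34, part [B], K-facts (b5), (b6): involutory outer automorphisms of `K = 2.L₃(4)`

* `b5` : `s` a noncentral involution fixed by `φ`: some `p ∈ C_K(s)` with `[φ, p]` of order divisible by 4;
* `LData φ J` (types `f`, `g`) : `J ≤ C_K(φ)` perfect, generated by involutions `s` with `φ s ~ φ`;
* `CData φ` (type `c`) : `b ∈ C_K(φ)` with `φ ~ φ z ~ φ b ~ φ b z`;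
* `exists_data` : one of them; `TyC.mul` : the product of two automorphisms of type `c` is inner.
-/

set_option autoImplicit false
set_option linter.constructorNameAsVariable false
set_option linter.unusedVariables false
set_option linter.unusedSectionVars false

namespace Cfsg.Agent.UGT.I34.Two

open Subgroup
open Cfsg.Agent.SporadicA.FieldFour
open Cfsg.Agent.ONType.Psl (kap)
open Cfsg.Agent.ONType.OuterL (rv rv_ne rv_rv)
open Cfsg.Agent.StdL34 (trF fr Ty imgx)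
open Cfsg.Agent.OddHalf.D9.L34
open Cfsg.Agent.UGT.I34.KAut (fixed mem_fixed Inn Out)
open scoped commutatorElement

/-! ### finite computations -/

/-- `[τ, p]` -/
def dcm (τ : Ty) (p : Code) : Code := cmul (ctau τ p) (cinv p)

theorem code_four : ∀ p : Code, cmul (cmul p p) (cmul p p) = cone ∨
    cmul (cmul p p) (cmul p p) = ⟨0, 0, 0, true⟩ := by decide +kernel

/-- graph and unitary types -/
theorem chk_cg : ∀ e : Bool, ∀ q : Code, ctau (e, true) q = q → cmul q q = cone → q ≠ cone →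
    q ≠ ⟨0, 0, 0, true⟩ → cmul ⟨0, 1, 0, false⟩ q = cmul q ⟨0, 1, 0, false⟩ := by
  decide +kernel

theorem chk_cg' : ∀ e : Bool, cmul (dcm (e, true) ⟨0, 1, 0, false⟩) (dcm (e, true) ⟨0, 1, 0, false⟩) ≠ cone := by
  decide +kernel

/-- field type -/
theorem chk_f : ∀ q : Code, ctau (true, false) q = q → cmul q q = cone → q ≠ cone →
    q ≠ ⟨0, 0, 0, true⟩ → (q.a = 0 ∧ q.b = 0 ∧ q.c = 1) ∨
    (∃ r : Code, ctau (true, false) r = r ∧ ∃ k : Bool, cmul (cmul r q) (cinv r) = ⟨0, 1, 0, k⟩ ∨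
      cmul (cmul r q) (cinv r) = ⟨1, 0, 0, k⟩) := by
  intro q
  have h1 : ∀ q : Code, ctau (true, false) q = q → cmul q q = cone → q ≠ cone →
    q ≠ ⟨0, 0, 0, true⟩ → (q.a = 0 ∧ q.b = 0 ∧ q.c = 1) ∨
    (∃ a b : Bool, ∃ k : Bool, cmul (cmul ⟨if a then 1 else 0, if b then 1 else 0, 0, false⟩ q)
      (cinv ⟨if a then 1 else 0, if b then 1 else 0, 0, false⟩) = ⟨0, 1, 0, k⟩ ∨
      cmul (cmul ⟨if a then 1 else 0, if b then 1 else 0, 0, false⟩ q)
      (cinv ⟨if a then 1 else 0, if b then 1 else 0, 0, false⟩) = ⟨1, 0, 0, k⟩) := by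
    decide +kernel
  intro a1 a2 a3 a4
  rcases h1 q a1 a2 a3 a4 with h | ⟨a, b, k, h⟩
  · exact Or.inl h
  · right
    refine ⟨⟨if a then 1 else 0, if b then 1 else 0, 0, false⟩, ?_, k, h⟩
    clear h
    revert a b
    decide

theorem chk_f' : ∀ k : Bool, cmul ⟨F4.w, F4.w, 0, false⟩ ⟨0, 0, 1, k⟩ =
    cmul ⟨0, 0, 1, k⟩ ⟨F4.w, F4.w, 0, false⟩ := by decide

theorem chk_f'' : cmul (dcm (true, false) ⟨F4.w, F4.w, 0, false⟩) (dcm (true, false) ⟨F4.w, F4.w, 0, false⟩) ≠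
    cone := by decide

/-- type `c`: fusion -/
theorem chk_c : ∀ x : Bool × Bool, ∃ p : Code, dcm (true, true) p = ⟨0, 0, if x.1 then 1 else 0, x.2⟩ := by
  decide +kernel

variable {K : Type*} [Group K]

/-! ### general -/

theorem isPGroup_sup_of_comm {G : Type*} [Group G] {Q : Subgroup G} {α : G} (hQ : IsPGroup 2 Q)
    (hα : α * α = 1) (hc : ∀ q ∈ Q, q * α = α * q) : IsPGroup 2 (Q ⊔ zpowers α : Subgroup G) := by
  have hz : IsPGroup 2 (zpowers α) := by
    rintro ⟨x, hx⟩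
    obtain ⟨k, rfl⟩ := mem_zpowers_iff.mp hx
    refine ⟨1, Subtype.ext ?_⟩
    show (α ^ k) ^ (2 ^ 1) = 1
    rw [pow_one, ← zpow_natCast, ← zpow_mul, mul_comm, zpow_mul]
    have : α ^ ((2 : ℕ) : ℤ) = 1 := by rw [zpow_natCast, pow_two, hα]
    rw [this, one_zpow]
  have hnorm : Q ≤ normalizer (zpowers α : Set G) := by
    intro q hq
    rw [mem_normalizer_iff]
    intro x
    have e : ∀ n : ℤ, q * α ^ n * q⁻¹ = α ^ n := by
      intro n
      have h1 : Commute q α := hc q hq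
      rw [(h1.zpow_right n).eq, mul_inv_cancel_right]
    constructor
    · intro hx
      obtain ⟨n, rfl⟩ := mem_zpowers_iff.mp hx
      show q * α ^ n * q⁻¹ ∈ zpowers α
      rw [e]
      exact mem_zpowers_iff.mpr ⟨n, rfl⟩
    · intro hx
      obtain ⟨n, hn⟩ := mem_zpowers_iff.mp hx
      have : x = q⁻¹ * (q * x * q⁻¹) * q := by group
      rw [this, ← hn]
      have h2 : q⁻¹ * α ^ n * q = α ^ n := by
        have h1 : Commute q⁻¹ α := Commute.inv_left (hc q hq)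
        rw [(h1.zpow_right n).eq, inv_mul_cancel_right]
      rw [h2]
      exact mem_zpowers_iff.mpr ⟨n, rfl⟩
  exact IsPGroup.to_sup_of_normal_right' hQ hz hnorm

theorem conj_apply' (l : K) (φ : MulAut K) (m : K) :
    (MulAut.conj l * φ * (MulAut.conj l)⁻¹) m = l * φ (l⁻¹ * m * l) * l⁻¹ := by
  rw [MulAut.mul_apply, MulAut.mul_apply, ← map_inv, MulAut.conj_apply, MulAut.conj_apply, inv_inv]

theorem mem_center_conj {K : Type*} [Group K] (l : K) {z : K} : l * z * l⁻¹ ∈ center K ↔ z ∈ center K := by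
  constructor
  · intro h
    have := (inferInstance : (center K).Normal).conj_mem _ h l⁻¹
    have e : l⁻¹ * (l * z * l⁻¹) * l⁻¹⁻¹ = z := by group
    rwa [e] at this
  · intro h
    exact (inferInstance : (center K).Normal).conj_mem _ h l

theorem four_dvd {K : Type*} [Group K] {x : K} (h8 : x * x * (x * x) * (x * x * (x * x)) = 1) (h2 : x * x ≠ 1) :
    4 ∣ orderOf x := by
  have h1 : x ^ 8 = 1 := by
    rw [← h8]
    simp only [pow_succ, pow_zero, one_mul, mul_assoc]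
  have h3 : orderOf x ∣ 2 ^ 3 := orderOf_dvd_of_pow_eq_one h1
  obtain ⟨k, hk, hk2⟩ := (Nat.dvd_prime_pow Nat.prime_two).mp h3
  have h4 : 2 ≤ k := by
    by_contra hcon
    apply h2
    have h5 : orderOf x ∣ 2 := by
      rw [hk2]
      have : k ≤ 1 := by omega
      calc 2 ^ k ∣ 2 ^ 1 := pow_dvd_pow 2 this
        _ = 2 := by norm_num
    rw [← pow_two]
    exact orderOf_dvd_iff_pow_eq_one.mp h5
  rw [hk2]
  calc 4 = 2 ^ 2 := by norm_num
    _ ∣ 2 ^ k := pow_dvd_pow 2 h4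

/-! ### the data -/

/-- the conclusion of (b5) -/
def B5 (φ : MulAut K) (s : K) : Prop := ∃ p, p * s = s * p ∧ 4 ∣ orderOf (φ p * p⁻¹)

/-- types `f` and `g` -/
structure LData (φ : MulAut K) (J : Subgroup K) : Prop where
  le : J ≤ fixed φ
  perf : ⁅J, J⁆ = J
  ne : J ≠ ⊥
  gen : J = closure {s | s ∈ J ∧ s * s = 1 ∧ s ∉ center K ∧ ∃ k, φ k * k⁻¹ = s}

/-- type `c` -/
structure CData (φ : MulAut K) : Prop where
  cen : ∀ z ∈ center K, ∃ k, φ k * k⁻¹ = z
  fus : ∃ b : K, b * b = 1 ∧ b ∉ center K ∧ φ b = b ∧ ∀ z ∈ center K, ∃ k, φ k * k⁻¹ = b * z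

theorem B5.of_conj {φ : MulAut K} {s l : K}
    (h : B5 (MulAut.conj l * φ * (MulAut.conj l)⁻¹) (l * s * l⁻¹)) : B5 φ s := by
  obtain ⟨p, hp, h4⟩ := h
  refine ⟨l⁻¹ * p * l, ?_, ?_⟩
  · calc l⁻¹ * p * l * s = l⁻¹ * (p * (l * s * l⁻¹)) * l := by group
      _ = s * (l⁻¹ * p * l) := by rw [hp]; group
  · rw [conj_apply'] at h4
    have e : l * φ (l⁻¹ * p * l) * l⁻¹ * p⁻¹ = MulAut.conj l (φ (l⁻¹ * p * l) * (l⁻¹ * p * l)⁻¹) := by
      rw [MulAut.conj_apply]; group
    rw [e, MulEquiv.orderOf_eq] at h4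
    exact h4

/-- `B5` is invariant under conjugation by fixed elements -/
theorem B5.of_fix {φ : MulAut K} {s g : K} (hg : φ g = g) (h : B5 φ (g * s * g⁻¹)) : B5 φ s := by
  obtain ⟨p, hp, h4⟩ := h
  refine ⟨g⁻¹ * p * g, ?_, ?_⟩
  · calc g⁻¹ * p * g * s = g⁻¹ * (p * (g * s * g⁻¹)) * g := by group
      _ = s * (g⁻¹ * p * g) := by rw [hp]; group
  · have e : φ (g⁻¹ * p * g) * (g⁻¹ * p * g)⁻¹ = MulAut.conj g⁻¹ (φ p * p⁻¹) := by
      rw [map_mul, map_mul, map_inv, hg, MulAut.conj_apply]; group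
    rw [e, MulEquiv.orderOf_eq]
    exact h4

theorem LData.of_conj {φ : MulAut K} {l : K} {J : Subgroup K}
    (h : LData (MulAut.conj l * φ * (MulAut.conj l)⁻¹) J) :
    LData φ (J.map (MulAut.conj l⁻¹).toMonoidHom) := by
  have e1 : ∀ x, (MulAut.conj l⁻¹).toMonoidHom x = l⁻¹ * x * l := by
    intro x
    show MulAut.conj l⁻¹ x = _
    rw [MulAut.conj_apply, inv_inv]
  have hin : Function.Injective (MulAut.conj l⁻¹).toMonoidHom := (MulAut.conj l⁻¹).injective
  refine ⟨?_, ?_, ?_, ?_⟩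
  · rintro _ ⟨x, hx, rfl⟩
    have h1 : (MulAut.conj l * φ * (MulAut.conj l)⁻¹) x = x := h.le hx
    rw [conj_apply'] at h1
    rw [mem_fixed, e1]
    calc φ (l⁻¹ * x * l) = l⁻¹ * (l * φ (l⁻¹ * x * l) * l⁻¹) * l := by group
      _ = _ := by rw [h1]
  · rw [← Subgroup.map_commutator, h.perf]
  · intro h1
    apply h.ne
    rw [Subgroup.map_eq_bot_iff_of_injective _ hin] at h1
    exact h1
  · conv_lhs => rw [h.gen]
    rw [MonoidHom.map_closure]
    congr 1
    ext s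
    constructor
    · rintro ⟨x, ⟨hx1, hx2, hx3, k, hk⟩, rfl⟩
      refine ⟨⟨x, hx1, rfl⟩, ?_, ?_, l⁻¹ * k * l, ?_⟩
      · rw [← map_mul, hx2, map_one]
      · rw [e1]
        intro h2
        apply hx3
        rw [← mem_center_conj l⁻¹, inv_inv]
        exact h2
      · rw [conj_apply'] at hk
        rw [e1, ← hk]; group
    · rintro ⟨⟨x, hx, rfl⟩, h2, h3, k, hk⟩
      refine ⟨x, ⟨hx, ?_, ?_, l * k * l⁻¹, ?_⟩, rfl⟩
      · apply hin
        rw [map_mul, h2, map_one]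
      · intro h4
        apply h3
        rw [e1]
        have := (mem_center_conj l⁻¹).mpr h4
        rwa [inv_inv] at this
      · rw [conj_apply']
        rw [e1] at hk
        have e2 : l⁻¹ * (l * k * l⁻¹) * l = k := by group
        rw [e2]
        calc l * φ k * l⁻¹ * (l * k * l⁻¹)⁻¹ = l * (φ k * k⁻¹) * l⁻¹ := by group
          _ = x := by rw [hk]; group

theorem CData.of_conj {φ : MulAut K} {l : K} (h : CData (MulAut.conj l * φ * (MulAut.conj l)⁻¹)) :
    CData φ := by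
  have key : ∀ y, (∃ k, (MulAut.conj l * φ * (MulAut.conj l)⁻¹) k * k⁻¹ = y) →
      ∃ k, φ k * k⁻¹ = l⁻¹ * y * l := by
    rintro y ⟨k, hk⟩
    refine ⟨l⁻¹ * k * l, ?_⟩
    rw [conj_apply'] at hk
    rw [← hk]; group
  have hz : ∀ z ∈ center K, l⁻¹ * z * l = z := by
    intro z hz
    rw [mul_assoc, ← mem_center_iff.mp hz l, inv_mul_cancel_left]
  refine ⟨?_, ?_⟩
  · intro z h1
    obtain ⟨k, hk⟩ := key _ (h.cen z h1)
    exact ⟨k, by rw [hk, hz z h1]⟩
  · obtain ⟨b, hb, hb2, hb3, hb4⟩ := h.fus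
    refine ⟨l⁻¹ * b * l, ?_, ?_, ?_, ?_⟩
    · calc l⁻¹ * b * l * (l⁻¹ * b * l) = l⁻¹ * (b * b) * l := by group
        _ = 1 := by rw [hb]; group
    · intro h2
      apply hb2
      have := (mem_center_conj l).mpr h2
      have e : l * (l⁻¹ * b * l) * l⁻¹ = b := by group
      rwa [e] at this
    · rw [conj_apply'] at hb3
      calc φ (l⁻¹ * b * l) = l⁻¹ * (l * φ (l⁻¹ * b * l) * l⁻¹) * l := by group
        _ = _ := by rw [hb3]
    · intro z h1
      obtain ⟨k, hk⟩ := key _ (hb4 z h1)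
      refine ⟨k, ?_⟩
      rw [hk]
      calc l⁻¹ * (b * z) * l = l⁻¹ * b * l * (l⁻¹ * z * l) := by group
        _ = _ := by rw [hz z h1]

/-! ### coordinates -/

variable (A : Cov K)

/-- simultaneous coordinates for an outer involution and a fixed involution -/
theorem adapt {φ : MulAut K} (h2 : φ * φ = 1) (ho : ∀ l, φ ≠ MulAut.conj l) {s : K}
    (hs2 : s * s = 1) (hs : φ s = s) :
    ∃ l τ q, τ ≠ (false, false) ∧ A.IsTau τ (MulAut.conj l * φ * (MulAut.conj l)⁻¹) ∧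
      l * s * l⁻¹ = A.el q := by
  have hz : IsPGroup 2 (zpowers (MulAut.conj s)) :=
    Cov.isPGroup_zpowers (n := 1) (by rw [pow_one, pow_two, ← map_mul, hs2, map_one])
  have hcom : MulAut.conj s * φ = φ * MulAut.conj s := by
    have h1 := Cov.conj_map φ s
    rw [hs] at h1
    calc MulAut.conj s * φ = φ * MulAut.conj s * φ⁻¹ * φ := by rw [← h1]
      _ = _ := by group
  have hE := isPGroup_sup_of_comm hz h2 (by
    intro q hq
    obtain ⟨n, rfl⟩ := mem_zpowers_iff.mp hq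
    exact (Commute.zpow_left (show Commute (MulAut.conj s) φ from hcom) n).eq)
  obtain ⟨l, hl⟩ := A.exists_conj_MT _ hE
  have hφ := hl φ ((le_sup_right : zpowers φ ≤ _) (mem_zpowers φ))
  have hc := hl (MulAut.conj s) ((le_sup_left : zpowers (MulAut.conj s) ≤ _) (mem_zpowers _))
  obtain ⟨p, τ, hcd⟩ := hφ
  set v' := MulAut.conj l * φ * (MulAut.conj l)⁻¹ with hv'
  have h2' : v' * v' = 1 := by
    calc v' * v' = MulAut.conj l * (φ * φ) * (MulAut.conj l)⁻¹ := by rw [hv']; group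
      _ = 1 := by rw [h2]; group
  have hτ : τ ≠ (false, false) := by
    rintro rfl
    have h3 : MulAut.conj (A.el p) * v' = 1 := Cov.IsTau.ext hcd Cov.isTau_one
    apply ho (l⁻¹ * (A.el p)⁻¹ * l)
    have h4 : v' = (MulAut.conj (A.el p))⁻¹ := eq_inv_of_mul_eq_one_right h3
    rw [map_mul, map_mul, map_inv, map_inv, ← h4, hv']
    group
  have hcd' := hcd.nk
  have hsq := hcd'.mul hcd'
  rw [h2'] at hsq
  obtain ⟨-, h4⟩ := hsq.one
  obtain ⟨a', b', c', hq⟩ := inv_outer τ p.a p.b p.c hτ h4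
  have hc2 := hcd'.conj ⟨a', b', c', false⟩
  -- the element
  have hs' : ∃ q, l * s * l⁻¹ = A.el q := by
    obtain ⟨r, ρ, hr⟩ := hc
    have h5 : (MulAut.conj l * MulAut.conj s * (MulAut.conj l)⁻¹) (A.x 0 2 1) = A.x 0 2 1 := by
      have := hr.apply ⟨0, 0, 1, false⟩
      rwa [A.el_x02, cact_x02, A.el_x02] at this
    rw [← map_inv, ← map_mul, ← map_mul, MulAut.conj_apply] at h5
    exact A.cent (mul_inv_eq_iff_eq_mul.mp h5)
  obtain ⟨q, hq'⟩ := hs'
  refine ⟨A.el ⟨a', b', c', false⟩ * l, τ, cmul (cmul ⟨a', b', c', false⟩ q) (cinv ⟨a', b', c', false⟩), hτ,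
    ?_, ?_⟩
  · have := hc2.cone hq
    convert this using 1
    rw [hv', map_mul]; group
  · rw [← A.el_mul, ← A.el_mul, ← A.el_inv, ← hq']
    group

variable {A}

theorem el_eight (p : Code) : A.el p * A.el p * (A.el p * A.el p) *
    (A.el p * A.el p * (A.el p * A.el p)) = 1 := by
  rw [A.el_mul, A.el_mul, A.el_mul, ← A.el_one]
  congr 1
  rcases code_four p with h | h
  · rw [h]; decide
  · rw [h]; decide

theorem el_ne_one {p : Code} (h : p ≠ cone) : A.el p ≠ 1 := by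
  intro h1
  rw [← A.el_one] at h1
  exact h (A.inj h1)

/-- the test for `B5` in coordinates -/
theorem b5_code {τ : Ty} {φ : MulAut K} (h : A.IsTau τ φ) {p q : Code} (h1 : cmul p q = cmul q p)
    (h2 : cmul (dcm τ p) (dcm τ p) ≠ cone) : B5 φ (A.el q) := by
  refine ⟨A.el p, by rw [A.el_mul, A.el_mul, h1], ?_⟩
  have e : φ (A.el p) * (A.el p)⁻¹ = A.el (dcm τ p) := by
    rw [h.el, A.el_inv, A.el_mul]; rfl
  rw [e]
  apply four_dvd (el_eight _)
  rw [A.el_mul]
  exact el_ne_one h2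

theorem fix_n {φ : MulAut K} (h : A.IsTau (true, false) φ) (i j : Fin 3) (hij : i ≠ j) :
    φ (A.x i j 1 * A.x j i 1 * A.x i j 1) = A.x i j 1 * A.x j i 1 * A.x i j 1 := by
  have e : fr true (1 : F4) = 1 := by decide
  have h1 : ∀ i j, i ≠ j → φ (A.x i j 1) = A.x i j 1 := by
    intro i j hij
    rw [h i j hij]
    unfold imgx
    simp only [Bool.false_eq_true, if_false]
    rw [e]
  rw [map_mul, map_mul, h1 i j hij, h1 j i hij.symm]

theorem b5_pure {τ : Ty} (hτ : τ ≠ (false, false)) {φ : MulAut K} (h : A.IsTau τ φ) {q : Code}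
    (hq : ctau τ q = q) (hqq : cmul q q = cone) (hq1 : q ≠ cone) (hq2 : q ≠ ⟨0, 0, 0, true⟩) :
    B5 φ (A.el q) := by
  obtain ⟨e, f⟩ := τ
  cases f
  · cases e
    · exact absurd rfl hτ
    · have base : ∀ k : Bool, B5 φ (A.el ⟨0, 0, 1, k⟩) := fun k =>
        b5_code h (chk_f' k) chk_f''
      have hw : ∀ i j k l : Fin 3, i ≠ j → k ≠ l → Equiv.swap i j k = 0 → Equiv.swap i j l = 2 →
          ∀ m : Bool, B5 φ (A.x k l 1 * A.s m) := by
        intro i j k l hij hkl h1 h2 m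
        have h3 := A.x_wey i j k l hij hkl 1
        rw [h1, h2] at h3
        have hn := fix_n h i j hij
        set n := A.x i j 1 * A.x j i 1 * A.x i j 1 with hnd
        apply B5.of_fix (g := n⁻¹) (by rw [map_inv, hn])
        have e1 : n⁻¹ * (A.x k l 1 * A.s m) * n⁻¹⁻¹ = A.el ⟨0, 0, 1, m⟩ := by
          calc n⁻¹ * (A.x k l 1 * A.s m) * n⁻¹⁻¹ = n⁻¹ * A.x k l 1 * (A.s m * n) := by group
            _ = (n⁻¹ * A.x k l 1 * n) * A.s m := by rw [A.s_cen]; group
            _ = A.x 0 2 1 * A.s m := by rw [h3]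
            _ = A.el ⟨0, 0, 1, m⟩ := by
              rw [A.el_eq]
              simp only [A.x_zero 0 1 (by decide), A.x_zero 1 2 (by decide), one_mul]
        rw [e1]
        exact base m
      rcases chk_f q hq hqq hq1 hq2 with ⟨ha, hb, hc⟩ | ⟨r, hr, k, hk⟩
      · obtain ⟨a, b, c, k⟩ := q
        simp only at ha hb hc
        subst ha hb hc
        exact base k
      · apply B5.of_fix (g := A.el r) (by rw [h.el, hr])
        rw [A.el_inv, A.el_mul, A.el_mul]
        rcases hk with hk | hk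
        · rw [hk]
          have e1 : A.el ⟨0, 1, 0, k⟩ = A.x 1 2 1 * A.s k := by
            rw [A.el_eq]
            simp only [A.x_zero 0 1 (by decide), A.x_zero 0 2 (by decide), one_mul, mul_one]
          rw [e1]
          exact hw 0 1 1 2 (by decide) (by decide) (by decide) (by decide) k
        · rw [hk]
          have e1 : A.el ⟨1, 0, 0, k⟩ = A.x 0 1 1 * A.s k := by
            rw [A.el_eq]
            simp only [A.x_zero 1 2 (by decide), A.x_zero 0 2 (by decide), mul_one]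
          rw [e1]
          exact hw 1 2 0 1 (by decide) (by decide) (by decide) (by decide) k
  · exact b5_code h (chk_cg e q hq hqq hq1 hq2) (chk_cg' e)

theorem el_mem_center {q : Code} : A.el q ∈ center K ↔ q = cone ∨ q = ⟨0, 0, 0, true⟩ := by
  rw [mem_center_iff]
  have h1 : (∀ g, g * A.el q = A.el q * g) ↔ ∀ g, A.el q * g = g * A.el q :=
    ⟨fun h g => (h g).symm, fun h g => (h g).symm⟩
  rw [h1, A.center, ← A.el_one, ← A.el_z]
  exact ⟨fun h => h.imp A.inj A.inj, fun h => h.imp (fun h => by rw [h]) (fun h => by rw [h])⟩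

/-- **(b5)** in coordinates -/
theorem b5_cov (A : Cov K) {φ : MulAut K} (h2 : φ * φ = 1) (ho : ∀ l, φ ≠ MulAut.conj l) {s : K}
    (hs2 : s * s = 1) (hsc : s ∉ center K) (hs : φ s = s) : B5 φ s := by
  obtain ⟨l, τ, q, hτ, h, hq⟩ := adapt A h2 ho hs2 hs
  apply B5.of_conj (l := l)
  rw [hq]
  have h1 : A.el q ∉ center K := by
    rw [← hq, mem_center_conj]; exact hsc
  rw [el_mem_center, not_or] at h1
  apply b5_pure hτ h
  · apply A.inj
    rw [← h.el, ← hq, conj_apply']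
    have e : l⁻¹ * (l * s * l⁻¹) * l = s := by group
    rw [e, hs]
  · apply A.inj
    rw [← A.el_mul, A.el_one, ← hq]
    calc l * s * l⁻¹ * (l * s * l⁻¹) = l * (s * s) * l⁻¹ := by group
      _ = 1 := by rw [hs2]; group
  · exact h1.1
  · exact h1.2

/-! ### (b6) -/

/-- helper: `J = closure S` for a set `S` of good involutions -/
theorem lData_of {φ : MulAut K} {S : Set K} (h1 : ∀ s ∈ S, φ s = s) (h2 : ∀ s ∈ S, s * s = 1)
    (h3 : ∀ s ∈ S, s ≠ 1 → s ∉ center K ∧ ∃ k, φ k * k⁻¹ = s)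
    (h4 : ∀ s ∈ S, s ∈ ⁅closure S, closure S⁆) (h5 : ∃ s ∈ S, s ≠ 1) : LData φ (closure S) := by
  refine ⟨?_, ?_, ?_, ?_⟩
  · rw [closure_le]
    exact h1
  · apply le_antisymm (commutator_le_self _)
    rw [closure_le]
    exact h4
  · intro h
    obtain ⟨s, hs, hs1⟩ := h5
    have : s ∈ closure S := subset_closure hs
    rw [h, mem_bot] at this
    exact hs1 this
  · apply le_antisymm
    · rw [closure_le]
      intro s hs
      by_cases hs1 : s = 1
      · rw [hs1]; exact one_mem _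
      · obtain ⟨h6, h7⟩ := h3 s hs hs1
        exact subset_closure ⟨subset_closure hs, h2 s hs, h6, h7⟩
    · rw [closure_le]
      rintro s ⟨hs, -⟩
      exact hs

theorem x_not_center (A : Cov K) {i j : Fin 3} (hij : i ≠ j) {u : F4} (hu : u ≠ 0) :
    A.x i j u ∉ center K := by
  -- conjugate to `x₀₂(u)`
  have base : A.x 0 2 u ∉ center K := by
    rw [← A.el_x02, el_mem_center]
    rintro (h | h)
    · exact hu (congrArg Code.c h)
    · exact hu (congrArg Code.c h)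
  have key : ∀ k l i j : Fin 3, i ≠ j → k ≠ l → A.x (Equiv.swap i j k) (Equiv.swap i j l) u ∉ center K →
      A.x k l u ∉ center K := by
    intro k l i j hij hkl h h1
    apply h
    rw [← A.x_wey i j k l hij hkl u]
    have := (mem_center_conj (A.x i j 1 * A.x j i 1 * A.x i j 1)⁻¹).mpr h1
    rwa [inv_inv] at this
  have h12 : A.x 1 2 u ∉ center K := key 1 2 0 1 (by decide) (by decide) base
  have h01 : A.x 0 1 u ∉ center K := key 0 1 1 2 (by decide) (by decide) base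
  have h20 : A.x 2 0 u ∉ center K := key 2 0 0 2 (by decide) (by decide) base
  have h21 : A.x 2 1 u ∉ center K := key 2 1 0 1 (by decide) (by decide) h20
  have h10 : A.x 1 0 u ∉ center K := key 1 0 1 2 (by decide) (by decide) h20
  fin_cases i <;> fin_cases j
  · exact absurd rfl hij
  · exact h01
  · exact base
  · exact h10
  · exact absurd rfl hij
  · exact h12
  · exact h20
  · exact h21
  · exact absurd rfl hij

/-- field type -/
theorem lData_f {φ : MulAut K} (h : A.IsTau (true, false) φ) :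
    LData φ (closure {y | ∃ i j : Fin 3, i ≠ j ∧ y = A.x i j 1}) := by
  have hx : ∀ i j, i ≠ j → ∀ u, φ (A.x i j u) = A.x i j (u * u) := by
    intro i j hij u
    rw [h i j hij]
    rfl
  apply lData_of
  · rintro _ ⟨i, j, hij, rfl⟩
    rw [hx i j hij]; rfl
  · rintro _ ⟨i, j, hij, rfl⟩
    exact A.x_sq i j hij 1
  · rintro _ ⟨i, j, hij, rfl⟩ -
    refine ⟨x_not_center A hij (by decide), A.x i j F4.w, ?_⟩
    rw [hx i j hij, A.x_inv i j hij, A.x_add i j hij]
    rfl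
  · rintro _ ⟨i, j, hij, rfl⟩
    obtain ⟨k, hk1, hk2⟩ : ∃ k : Fin 3, i ≠ k ∧ j ≠ k := by
      clear h hx
      revert i j; decide
    have h1 := A.sum i j k hij hk1 hk2 1 1
    have e1 : trF ((1 : F4) * (1 * 1)) = false := by decide
    rw [e1, A.s_false, mul_one, mul_one] at h1
    have h2 : A.x i j 1 = ⁅A.x i k 1, A.x k j 1⁆ := by
      rw [commutatorElement_def, A.x_inv i k hk1, A.x_inv k j hk2.symm, h1]
      have r := A.x_row i k j hk1 hij 1 1
      have c := A.x_col i j k hij hk2.symm 1 1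
      have s1 := A.x_sq i k hk1 1
      have s2 := A.x_sq k j hk2.symm 1
      symm
      calc A.x k j 1 * A.x i k 1 * A.x i j 1 * A.x i k 1 * A.x k j 1
          = A.x k j 1 * (A.x i k 1 * A.x i j 1) * A.x i k 1 * A.x k j 1 := by group
        _ = A.x k j 1 * A.x i j 1 * (A.x i k 1 * A.x i k 1) * A.x k j 1 := by rw [r]; group
        _ = (A.x k j 1 * A.x i j 1) * A.x k j 1 := by rw [s1, mul_one]
        _ = A.x i j 1 * (A.x k j 1 * A.x k j 1) := by rw [← c]; group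
        _ = A.x i j 1 := by rw [s2, mul_one]
    rw [h2]
    exact commutator_mem_commutator (subset_closure ⟨i, k, hk1, rfl⟩)
      (subset_closure ⟨k, j, hk2.symm, rfl⟩)
  · exact ⟨A.x 0 2 1, ⟨0, 2, by decide, rfl⟩, A.x02_ne_one⟩

theorem chk_g : ∀ u : F4, ∃ p : Code, dcm (false, true) p = ⟨0, 0, u, false⟩ := by decide +kernel

theorem kap02_add : ∀ u : F4, ∃ v, u = kap 0 2 * v + v := by decide
theorem kap20_add : ∀ u : F4, ∃ v, u = kap 2 0 * v + v := by decide

/-- graph type -/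
theorem lData_g {φ : MulAut K} (h : A.IsTau (false, true) φ) :
    LData φ (closure {y | ∃ u : F4, y = A.x 0 2 u ∨ y = A.x 2 0 u}) := by
  have h02 : ∀ u, φ (A.x 0 2 u) = A.x 0 2 u := fun u => h.x02 u
  have h20 : ∀ u, φ (A.x 2 0 u) = A.x 2 0 u := fun u => h.x20 u
  have hs02 : ∀ u, ∃ k, φ k * k⁻¹ = A.x 0 2 u := by
    intro u
    obtain ⟨p, hp⟩ := chk_g u
    refine ⟨A.el p, ?_⟩
    rw [h.el, A.el_inv, A.el_mul, ← A.el_x02, ← hp]
    rfl
  set n := A.x 0 2 1 * A.x 2 0 1 * A.x 0 2 1 with hn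
  have hφn : φ n = n := by rw [hn, map_mul, map_mul, h02, h20]
  have hwey : ∀ u, n⁻¹ * A.x 0 2 u * n = A.x 2 0 u := fun u => A.x_wey 0 2 0 2 (by decide) (by decide) u
  set S : Set K := {y | ∃ u : F4, y = A.x 0 2 u ∨ y = A.x 2 0 u} with hS
  have m02 : ∀ u, A.x 0 2 u ∈ closure S := fun u => subset_closure ⟨u, Or.inl rfl⟩
  have m20 : ∀ u, A.x 2 0 u ∈ closure S := fun u => subset_closure ⟨u, Or.inr rfl⟩
  have mh : A.h ∈ closure S := by
    rw [← A.h_eq 0 2 (by decide)]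
    exact mul_mem (mul_mem (mul_mem (m02 _) (m20 _)) (m02 _)) (mul_mem (mul_mem (m02 _) (m20 _)) (m02 _))
  have ch : ∀ i j, i ≠ j → ∀ v, ⁅A.h⁻¹, A.x i j v⁆ = A.x i j (kap i j * v + v) := by
    intro i j hij v
    rw [commutatorElement_def, inv_inv, A.h_x i j hij, A.x_inv i j hij, A.x_add i j hij]
  apply lData_of
  · rintro _ ⟨u, rfl | rfl⟩
    · exact h02 u
    · exact h20 u
  · rintro _ ⟨u, rfl | rfl⟩
    · exact A.x_sq 0 2 (by decide) u
    · exact A.x_sq 2 0 (by decide) u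
  · rintro _ ⟨u, rfl | rfl⟩ hne
    · have hu : u ≠ 0 := fun h0 => hne (by rw [h0, A.x_zero 0 2 (by decide)])
      exact ⟨x_not_center A (by decide) hu, hs02 u⟩
    · have hu : u ≠ 0 := fun h0 => hne (by rw [h0, A.x_zero 2 0 (by decide)])
      refine ⟨x_not_center A (by decide) hu, ?_⟩
      obtain ⟨k, hk⟩ := hs02 u
      refine ⟨n⁻¹ * k * n, ?_⟩
      rw [map_mul, map_mul, map_inv, hφn, ← hwey u, ← hk]
      group
  · rintro _ ⟨u, rfl | rfl⟩
    · obtain ⟨v, hv⟩ := kap02_add u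
      rw [hv, ← ch 0 2 (by decide)]
      exact commutator_mem_commutator (inv_mem mh) (m02 v)
    · obtain ⟨v, hv⟩ := kap20_add u
      rw [hv, ← ch 2 0 (by decide)]
      exact commutator_mem_commutator (inv_mem mh) (m20 v)
  · exact ⟨A.x 0 2 1, ⟨1, Or.inl rfl⟩, A.x02_ne_one⟩

/-- unitary type -/
theorem cData_c {φ : MulAut K} (h : A.IsTau (true, true) φ) : CData φ := by
  have key : ∀ c k : Bool, ∃ y, φ y * y⁻¹ = A.el ⟨0, 0, if c then 1 else 0, k⟩ := by
    intro c k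
    obtain ⟨p, hp⟩ := chk_c (c, k)
    refine ⟨A.el p, ?_⟩
    rw [h.el, A.el_inv, A.el_mul]
    show A.el (dcm (true, true) p) = _
    rw [hp]
  have hz : ∀ z ∈ center K, ∃ k, z = A.el ⟨0, 0, 0, k⟩ := by
    intro z hz
    have h1 := (A.center z).mp (fun m => (mem_center_iff.mp hz m).symm)
    rcases h1 with h1 | h1
    · exact ⟨false, by rw [h1]; exact A.el_one.symm⟩
    · exact ⟨true, by rw [h1, A.el_z]⟩
  refine ⟨?_, A.x 0 2 1, A.x_sq 0 2 (by decide) 1, x_not_center A (by decide) (by decide), ?_, ?_⟩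
  · intro z h1
    obtain ⟨k, rfl⟩ := hz z h1
    exact key false k
  · rw [h.x02]; rfl
  · intro z h1
    obtain ⟨k, rfl⟩ := hz z h1
    have e : A.x 0 2 1 * A.el ⟨0, 0, 0, k⟩ = A.el ⟨0, 0, 1, k⟩ := by
      rw [← A.el_x02, A.el_mul]
      congr 1
      cases k <;> decide
    rw [e]
    exact key true k

/-- automorphisms of the same pure type -/
theorem mul_inner_of_tau {τ : Ty} {φ ψ : MulAut K} {l m : K}
    (h1 : A.IsTau τ (MulAut.conj l * φ * (MulAut.conj l)⁻¹))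
    (h2 : A.IsTau τ (MulAut.conj m * ψ * (MulAut.conj m)⁻¹)) : ∃ k, φ * ψ = MulAut.conj k := by
  have h3 := h1.ext h2
  have h4 := h1.sq
  set β := MulAut.conj l * φ * (MulAut.conj l)⁻¹ with hβ
  have e1 : φ = (MulAut.conj l)⁻¹ * β * MulAut.conj l := by rw [hβ]; group
  have e2 : ψ = (MulAut.conj m)⁻¹ * β * MulAut.conj m := by rw [h3]; group
  refine ⟨l⁻¹ * β (l * m⁻¹) * m, ?_⟩
  rw [map_mul, map_mul, Cov.conj_map, map_mul, map_inv, map_inv, e1, e2]
  have h5 : β⁻¹ = β := inv_eq_of_mul_eq_one_left h4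
  rw [h5]
  group

/-- type `c` in the coordinates `A` -/
def TyC (A : Cov K) (φ : MulAut K) : Prop :=
  ∃ l, A.IsTau (true, true) (MulAut.conj l * φ * (MulAut.conj l)⁻¹)

/-- **(b6)** in coordinates -/
theorem cases_cov (A : Cov K) {φ : MulAut K} (h2 : φ * φ = 1) (ho : ∀ l, φ ≠ MulAut.conj l) :
    (∃ J, LData φ J) ∨ TyC A φ := by
  obtain ⟨l, τ, hτ, h⟩ := A.exists_conj_tau φ h2 ho
  obtain ⟨e, f⟩ := τ
  cases f
  · cases e
    · exact absurd rfl hτ
    · exact Or.inl ⟨_, (lData_f h).of_conj⟩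
  · cases e
    · exact Or.inl ⟨_, (lData_g h).of_conj⟩
    · exact Or.inr ⟨l, h⟩

theorem TyC.cData {A : Cov K} {φ : MulAut K} (h : TyC A φ) : CData φ := by
  obtain ⟨l, hl⟩ := h
  exact (cData_c hl).of_conj

theorem TyC.mul {A : Cov K} {φ ψ : MulAut K} (h : TyC A φ) (h' : TyC A ψ) : φ * ψ ∈ Inn K := by
  obtain ⟨l, hl⟩ := h
  obtain ⟨m, hm⟩ := h'
  obtain ⟨k, hk⟩ := mul_inner_of_tau hl hm
  exact ⟨k, hk.symm⟩

/-- perfect groups of automorphisms are inner -/
theorem perfect_le_inn (A : Cov K) {B : Subgroup (MulAut K)} (hB : ⁅B, B⁆ = B) : B ≤ Inn K := by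
  rw [← hB, commutator_le]
  intro α _ β _
  have h1 : ∀ γ : MulAut K, γ * γ ∈ Inn K := fun γ => by
    obtain ⟨k, hk⟩ := A.sq_inner γ
    exact ⟨k, hk.symm⟩
  have hn : ∀ γ δ : MulAut K, γ ∈ Inn K → δ * γ * δ⁻¹ ∈ Inn K := by
    rintro _ δ ⟨k, rfl⟩
    exact ⟨δ k, Cov.conj_map δ k⟩
  rw [commutatorElement_def]
  -- `α β α⁻¹ β⁻¹ = α² (α⁻¹ β)² β⁻²`
  have e : α * β * α⁻¹ * β⁻¹ = (α * α) * ((α⁻¹ * β) * (α⁻¹ * β)) * (β⁻¹ * β⁻¹) := by group
  rw [e]
  exact mul_mem (mul_mem (h1 _) (h1 _)) (h1 _)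

/-- a noncentral involution commutes with an element whose square is not central -/
theorem exists_sq_not_center [Finite K] (A : Cov K) {s : K} (hs2 : s * s = 1) (hsc : s ∉ center K) :
    ∃ q, q * s = s * q ∧ q * q ∉ center K := by
  have h1 : s ≠ 1 := fun h => hsc (by rw [h]; exact one_mem _)
  have hz : s ≠ A.z := fun h => hsc (by
    rw [h, mem_center_iff]; exact fun m => (A.z_cen m).symm)
  obtain ⟨m, k, hm⟩ := A.inv_conj hs2 h1 hz (c := 1) (by decide)
  have e1 : A.x 0 2 1 * A.s k = A.el ⟨0, 0, 1, k⟩ := by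
    rw [A.el_eq]
    simp only [A.x_zero 0 1 (by decide), A.x_zero 1 2 (by decide), one_mul]
  rw [e1] at hm
  have h2 : A.el ⟨1, 1, 0, false⟩ * A.el ⟨0, 0, 1, k⟩ = A.el ⟨0, 0, 1, k⟩ * A.el ⟨1, 1, 0, false⟩ :=
    (A.commute_el rfl rfl _).symm
  refine ⟨m * A.el ⟨1, 1, 0, false⟩ * m⁻¹, ?_, ?_⟩
  · rw [← hm] at h2
    calc m * A.el ⟨1, 1, 0, false⟩ * m⁻¹ * s = m * (A.el ⟨1, 1, 0, false⟩ * (m⁻¹ * s * m)) * m⁻¹ := by
          group
      _ = s * (m * A.el ⟨1, 1, 0, false⟩ * m⁻¹) := by rw [h2]; group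
  · have e2 : m * A.el ⟨1, 1, 0, false⟩ * m⁻¹ * (m * A.el ⟨1, 1, 0, false⟩ * m⁻¹) =
        m * A.el (cmul ⟨1, 1, 0, false⟩ ⟨1, 1, 0, false⟩) * m⁻¹ := by
      rw [← A.el_mul]; group
    rw [e2, mem_center_conj, el_mem_center]
    decide

/-! ### The statements for `K` -/

section main

variable [Finite K] (hperf : commutator K = ⊤) (hZ2 : Nat.card (center K) = 2)
  {F : Type*} [Field F] [Fintype F] (hF : Fintype.card F = 4)
  (e : K ⧸ center K ≃* Matrix.ProjectiveSpecialLinearGroup (Fin 3) F)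

include hperf hZ2 hF e

/-- **(b5)** -/
theorem b5 {φ : MulAut K} (h : Out φ) {s : K} (hs2 : s * s = 1) (hsc : s ∉ center K) (hs : φ s = s) :
    ∃ p, p * s = s * p ∧ 4 ∣ orderOf (φ p * p⁻¹) := by
  obtain ⟨A, -, -, -⟩ := exists_cov hZ2 hperf hF e
  exact b5_cov A h.sq (fun l hl => h.out ⟨l, hl.symm⟩) hs2 hsc hs

/-- **(b6)** `C` : type `c` -/
theorem b6 : ∃ C : MulAut K → Prop, (∀ φ, Out φ → (∃ J, LData φ J) ∨ C φ) ∧ (∀ φ, C φ → CData φ) ∧
    ∀ φ ψ, C φ → C ψ → φ * ψ ∈ Inn K := by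
  obtain ⟨A, -, -, -⟩ := exists_cov hZ2 hperf hF e
  exact ⟨TyC A, fun φ h => cases_cov A h.sq (fun l hl => h.out ⟨l, hl.symm⟩), fun φ h => h.cData,
    fun φ ψ h h' => h.mul h'⟩

/-- perfect groups of automorphisms are inner -/
theorem perfect_inn {B : Subgroup (MulAut K)} (hB : ⁅B, B⁆ = B) : B ≤ Inn K := by
  obtain ⟨A, -, -, -⟩ := exists_cov hZ2 hperf hF e
  exact perfect_le_inn A hB

/-- squares of automorphisms are inner -/
theorem sq_inn (α : MulAut K) : α * α ∈ Inn K := by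
  obtain ⟨A, -, -, -⟩ := exists_cov hZ2 hperf hF e
  obtain ⟨k, hk⟩ := A.sq_inner α
  exact ⟨k, hk.symm⟩

/-- an element of order four modulo the centre commuting with a noncentral involution -/
theorem exists_sq {s : K} (hs2 : s * s = 1) (hsc : s ∉ center K) :
    ∃ q, q * s = s * q ∧ q * q ∉ center K := by
  obtain ⟨A, -, -, -⟩ := exists_cov hZ2 hperf hF e
  exact exists_sq_not_center A hs2 hsc

end main

end Cfsg.Agent.UGT.I34.Two
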