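import Cfsg.Agent.UGT.I34.Two.Defs
import Cfsg.Agent.UGT.I34.Two.K2

/-!
# The fields `out_sq`, `sharp`, `types` of `KF K z` for `K = 2.L₃(4)`
-/

set_option autoImplicit false

namespace Cfsg.Agent.UGT.I34.Two

open Subgroup
open Cfsg.Agent.SporadicA.FieldFour
open Cfsg.Agent.OddHalf.D9.L34
open Cfsg.Agent.StdL34 (Ty)

variable {K : Type*} [Group K]

/-- an outer type is not inner -/
theorem tau_not_inn {A : Cov K} {τ : Ty} (hτ : τ ≠ (false, false)) {β : MulAut K} (h : A.IsTau τ β) :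
    β ∉ Inn K := by
  rintro ⟨m, rfl⟩
  have h1 : MulAut.conj m (A.x 0 2 1) = A.x 0 2 1 := by
    have e1 : ∀ e, Cfsg.Agent.StdL34.fr e (1 : F4) = 1 := by decide
    rw [h.x02, e1]
  rw [MulAut.conj_apply, mul_inv_eq_iff_eq_mul] at h1
  obtain ⟨p, hp⟩ := A.cent h1
  have h2 : A.Cd 1 p τ := by
    unfold Cov.Cd
    rw [mul_one]
    show A.IsTau τ (MulAut.conj (elx A.x A.z p))
    rw [← hp]
    exact h
  exact hτ h2.one.1

theorem TyC.not_inn {A : Cov K} {φ : MulAut K} (h : TyC A φ) : φ ∉ Inn K := by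
  obtain ⟨l, hl⟩ := h
  rintro ⟨k, rfl⟩
  exact tau_not_inn (by decide) hl ⟨l * k * l⁻¹, by simp only [map_mul, map_inv]⟩

theorem LData.fG {φ : MulAut K} {J : Subgroup K} (h : LData φ J) : FG φ := by
  refine ⟨{s | s ∈ J ∧ s * s = 1 ∧ s ∉ center K ∧ ∃ k, φ k * k⁻¹ = s}, ?_, ?_, ?_⟩
  · rintro s ⟨h1, h2, -, k, hk⟩
    refine ⟨h2, h.le h1, k, ?_⟩
    have h3 : s⁻¹ = s := inv_eq_of_mul_eq_one_left h2
    rw [← h3, ← hk, mul_inv_rev, inv_inv]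
  · rw [← h.gen]
    exact h.perf
  · by_contra hcon
    push Not at hcon
    apply h.ne
    rw [h.gen, closure_eq_bot_iff]
    intro s hs
    exact absurd (hcon s hs) hs.2.2.1

theorem CData.cC {φ : MulAut K} (h : CData φ) {z : K} (hz : z * z = 1) (hzc : z ∈ center K) : CC z φ := by
  have key : ∀ y : K, y * y = 1 → (∃ k, φ k * k⁻¹ = y) → ∃ k, y = k * (φ k)⁻¹ := by
    rintro y hy ⟨k, hk⟩
    refine ⟨k, ?_⟩
    have h3 : y⁻¹ = y := inv_eq_of_mul_eq_one_left hy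
    rw [← h3, ← hk, mul_inv_rev, inv_inv]
  obtain ⟨b, hb1, hb2, hb3, hb4⟩ := h.fus
  refine ⟨b, hb1, hb2, hb3, ?_, ?_, key z hz (h.cen z hzc)⟩
  · have := hb4 1 (one_mem _)
    rw [mul_one] at this
    exact key b hb1 this
  · refine key _ ?_ (hb4 z hzc)
    rw [mul_assoc, ← mem_center_iff.mp hzc, mul_assoc, hz, mul_one, hb1]

theorem IsTwo.exists_cov [Finite K] (h : IsTwo K) : Nonempty (Cov K) := by
  obtain ⟨e⟩ := h.quot
  obtain ⟨A, -, -, -⟩ := Cfsg.Agent.OddHalf.D9.L34.exists_cov h.card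
    ((Group.isPerfect_def).mp h.perfect) (show Fintype.card F4 = 4 by decide) e
  exact ⟨A⟩

/-- **field `out_sq`** -/
theorem IsTwo.out_sq [Finite K] (h : IsTwo K) (α : MulAut K) : α * α ∈ Inn K := by
  obtain ⟨A⟩ := h.exists_cov
  obtain ⟨k, hk⟩ := A.sq_inner α
  exact ⟨k, hk.symm⟩

/-- **field `sharp`** -/
theorem IsTwo.sharp [Finite K] (h : IsTwo K) : ∀ α : MulAut K, α * α = 1 → α ∉ Inn K → ∀ t : K,
    t * t = 1 → t ∉ center K → α t = t → ∃ p, p * t = t * p ∧ (α p * p⁻¹) * (α p * p⁻¹) ≠ 1 := by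
  intro α h2 ho t ht1 ht2 ht3
  obtain ⟨A⟩ := h.exists_cov
  obtain ⟨p, hp, hp4⟩ := b5_cov A h2 (fun l hl => ho ⟨l, hl.symm⟩) ht1 ht2 ht3
  refine ⟨p, hp, fun hcon => ?_⟩
  have h5 : orderOf (α p * p⁻¹) ∣ 2 := orderOf_dvd_of_pow_eq_one (by rw [pow_two, hcon])
  have := hp4.trans h5
  omega

/-- **field `types`** -/
theorem IsTwo.types [Finite K] (h : IsTwo K) {z : K} (hz : z * z = 1) (hzc : z ∈ center K) :
    ∃ C : Set (MulAut K), (∀ α ∈ C, α ∉ Inn K) ∧ (∀ α ∈ C, ∀ β ∈ C, α * β ∈ Inn K) ∧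
    (∀ α, α * α = 1 → α ∉ Inn K → α ∉ C → FG α) ∧ ∀ α ∈ C, α * α = 1 → CC z α := by
  obtain ⟨A⟩ := h.exists_cov
  refine ⟨{α | TyC A α}, fun α hα => TyC.not_inn hα, fun α hα β hβ => TyC.mul hα hβ, ?_, ?_⟩
  · intro α h2 ho hC
    rcases cases_cov A h2 (fun l hl => ho ⟨l, hl.symm⟩) with ⟨J, hJ⟩ | hC'
    · exact hJ.fG
    · exact absurd hC' hC
  · intro α hα _
    exact (TyC.cData hα).cC hz hzc

end Cfsg.Agent.UGT.I34.Two
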