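import Cfsg.Agent.UGT.I34.Two.KNorm
import Cfsg.Agent.UGT.I34.Two.Defs
import Cfsg.Agent.UGT.I34.Two.K2

/-!
# `2.L3(4)`: the K-facts of THEOREM I34, `Z = 2` (helper161)

`loc` : the structure `Loc` of the centraliser of a noncentral involution; `kfacts : KFacts`.
-/

set_option autoImplicit false
set_option linter.constructorNameAsVariable false
set_option linter.unusedVariables false

namespace Cfsg.Agent.UGT.I34.Two.KS

open Subgroup
open Cfsg.Agent.SporadicA.FieldFour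
open Cfsg.Agent.ONType.Psl (kap)
open Cfsg.Agent.StdL34 (trF fr Ty imgx)
open Cfsg.Agent.OddHalf.D9.L34
open scoped commutatorElement

variable {K : Type*} [Group K]

/-! ### codes -/

theorem code_surj : ∀ a b d : F4, (a, b) ≠ (0, 0) → ∃ a' b' : F4, a * b' + a' * b = d := by decide +kernel

theorem code_small : ∀ (d : F4) (l : Bool), d ≠ 0 → ∃ a b : F4,
    (∃ a' b' : F4, a * b' + a' * b = d ∧ trF (a * (b' * b') + a' * (b * b)) = l) ∧
    ∀ a' b' : F4, ¬ (a * b' + a' * b = 0 ∧ trF (a * (b' * b') + a' * (b * b)) = true) := by decide +kernel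

theorem code_g_gen : ∀ (d : F4) (l : Bool), ∃ (y1 y2 y3 y4 y5 y6 : F4), ∃ m : Bool,
    d = y1 * 1 + 1 * y2 + (y3 * F4.w + F4.w * y4) ∧
      l = xor (trF (y1 * (1 * 1) + 1 * (y2 * y2))) (trF (y3 * (F4.w * F4.w) + F4.w * (y4 * y4))) := by
  intro d l
  have h : ∀ (d : F4) (l : Bool), ∃ (y1 y3 : F4),
    d = y1 * 1 + 1 * 0 + (y3 * F4.w + F4.w * 0) ∧
      l = xor (trF (y1 * (1 * 1) + 1 * (0 * 0))) (trF (y3 * (F4.w * F4.w) + F4.w * (0 * 0))) := by decide +kernel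
  obtain ⟨y1, y3, h⟩ := h d l
  exact ⟨y1, 0, y3, 0, 0, 0, true, h⟩

variable (A : Cov K)

theorem E1_comm_ZT : A.ZT ≤ A.E1 := by
  rintro _ ⟨p, -, hb, rfl⟩
  exact ⟨p, hb, rfl⟩

theorem E2_comm_ZT : A.ZT ≤ A.E2 := by
  rintro _ ⟨p, ha, -, rfl⟩
  exact ⟨p, ha, rfl⟩

theorem el_split (p : Code) : A.el p = A.el ⟨p.a, 0, 0, false⟩ * A.el ⟨0, p.b, p.c, p.k⟩ := by
  rw [A.el_mul]
  congr 1
  obtain ⟨a, b, c, k⟩ := p
  simp only [cmul, Code.mk.injEq]
  refine ⟨by ring, by ring, by ring, ?_⟩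
  have h0 : ∀ v : F4, trF (0 * v) = false := by decide
  rw [h0, Bool.xor_false, Bool.false_xor]

theorem mem_center_el {p : Code} : A.el p ∈ center K ↔ p = cone ∨ p = ⟨0, 0, 0, true⟩ := by
  rw [mem_center_iff]
  have h1 : (∀ g, g * A.el p = A.el p * g) ↔ ∀ g, A.el p * g = g * A.el p :=
    ⟨fun h g => (h g).symm, fun h g => (h g).symm⟩
  rw [h1, A.center, ← A.el_one, ← A.el_z]
  exact ⟨fun h => h.imp A.inj A.inj, fun h => h.imp (fun h => by rw [h]) (fun h => by rw [h])⟩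

theorem mem_center_iff' {x : K} : x ∈ center K ↔ x = 1 ∨ x = A.z := by
  rw [mem_center_iff, ← A.center]
  exact ⟨fun h g => (h g).symm, fun h g => (h g).symm⟩

/-- generation by the products `t t^x` -/
theorem gen_of (k : Bool) (H : Subgroup K) (hH : ∀ x, x * A.el ⟨0, 0, 1, k⟩ * x⁻¹ ∈ A.T →
    A.el ⟨0, 0, 1, k⟩ * (x * A.el ⟨0, 0, 1, k⟩ * x⁻¹) ∈ H) : A.T ≤ H := by
  set t := A.el ⟨0, 0, 1, k⟩ with ht
  have h3 : ∀ c, A.el ⟨0, 0, c, k⟩ = A.x 0 2 c * A.s k := by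
    intro c
    rw [A.el_eq]
    show A.x 0 1 0 * A.x 1 2 0 * A.x 0 2 c * A.s k = _
    rw [A.x_zero 0 1 (by decide), A.x_zero 1 2 (by decide), one_mul, one_mul]
  have hcj : ∀ (m u v : K), m⁻¹ * u * m = v → m⁻¹ * (u * A.s k) * m = v * A.s k := by
    intro m u v h
    rw [← h]
    calc m⁻¹ * (u * A.s k) * m = m⁻¹ * u * (A.s k * m) := by group
      _ = _ := by rw [A.s_cen]; group
  have h02 : ∀ u, u ≠ 0 → ∃ g, A.x 0 2 u * A.s k = g * t * g⁻¹ := by
    intro u hu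
    obtain ⟨m, hm⟩ := A.x02_conj 1 u (by decide) hu
    refine ⟨m⁻¹, ?_⟩
    rw [← hm k, ht, h3, inv_inv]
  have hcls : ∀ y g, y = g * t * g⁻¹ → y ∈ A.T → t * y ∈ H := by
    rintro _ g rfl hy
    exact hH g hy
  have hss : A.s k * A.s k = 1 := by rw [A.s_mul, Bool.xor_self, A.s_false]
  have hprod : ∀ m : K, t * (m * A.s k) = A.x 0 2 1 * m := by
    intro m
    rw [ht, h3]
    calc A.x 0 2 1 * A.s k * (m * A.s k) = A.x 0 2 1 * (A.s k * m) * A.s k := by group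
      _ = A.x 0 2 1 * (m * A.s k) * A.s k := by rw [A.s_cen]
      _ = A.x 0 2 1 * m * (A.s k * A.s k) := by group
      _ = _ := by rw [hss, mul_one]
  -- `x₀₂(1 + c) ∈ H`
  have hx02 : ∀ c, c ≠ 0 → A.x 0 2 (1 + c) ∈ H := by
    intro c hc
    obtain ⟨g, hg⟩ := h02 c hc
    have h4 := hcls _ g hg (by rw [← h3]; exact A.el_mem _)
    rwa [hprod, A.x_add 0 2 (by decide)] at h4
  have hx02' : ∀ c, A.x 0 2 c ∈ H := by
    intro c
    have hw := hx02 F4.w (by decide)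
    have hv := hx02 F4.v (by decide)
    have e2 : ∀ c : F4, c = 0 ∨ c = 1 + F4.w ∨ c = 1 + F4.v ∨ c = (1 + F4.w) + (1 + F4.v) := by decide
    rcases e2 c with h | h | h | h
    · rw [h, A.x_zero 0 2 (by decide)]; exact one_mem H
    · rw [h]; exact hw
    · rw [h]; exact hv
    · rw [h, ← A.x_add 0 2 (by decide)]; exact mul_mem hw hv
  have hx01 : ∀ u, A.x 0 1 u ∈ H := by
    intro u
    rcases eq_or_ne u 0 with rfl | hu
    · rw [A.x_zero 0 1 (by decide)]; exact one_mem H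
    · obtain ⟨g, hg⟩ := h02 u hu
      have hw := A.x_wey 1 2 0 2 (by decide) (by decide) u
      set n := A.x 1 2 1 * A.x 2 1 1 * A.x 1 2 1
      have hw' : n⁻¹ * A.x 0 2 u * n = A.x 0 1 u := hw
      have h4 := hcls (A.x 0 1 u * A.s k) (n⁻¹ * g) (by rw [← hcj n _ _ hw', hg]; group) (by
        have : A.x 0 1 u * A.s k = A.el ⟨u, 0, 0, k⟩ := by
          rw [A.el_eq]
          show _ = A.x 0 1 u * A.x 1 2 0 * A.x 0 2 0 * A.s k
          rw [A.x_zero 0 2 (by decide), A.x_zero 1 2 (by decide), mul_one, mul_one]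
        rw [this]; exact A.el_mem _)
      rw [hprod] at h4
      have h5 := mul_mem (inv_mem (hx02' 1)) h4
      rwa [inv_mul_cancel_left] at h5
  have hx12 : ∀ u, A.x 1 2 u ∈ H := by
    intro u
    rcases eq_or_ne u 0 with rfl | hu
    · rw [A.x_zero 1 2 (by decide)]; exact one_mem H
    · obtain ⟨g, hg⟩ := h02 u hu
      have hw := A.x_wey 0 1 0 2 (by decide) (by decide) u
      set n := A.x 0 1 1 * A.x 1 0 1 * A.x 0 1 1
      have hw' : n⁻¹ * A.x 0 2 u * n = A.x 1 2 u := hw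
      have h4 := hcls (A.x 1 2 u * A.s k) (n⁻¹ * g) (by rw [← hcj n _ _ hw', hg]; group) (by
        have : A.x 1 2 u * A.s k = A.el ⟨0, u, 0, k⟩ := by
          rw [A.el_eq]
          show _ = A.x 0 1 0 * A.x 1 2 u * A.x 0 2 0 * A.s k
          rw [A.x_zero 0 2 (by decide), A.x_zero 0 1 (by decide), mul_one, one_mul]
        rw [this]; exact A.el_mem _)
      rw [hprod] at h4
      have h5 := mul_mem (inv_mem (hx02' 1)) h4
      rwa [inv_mul_cancel_left] at h5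
  exact T_le_of_root A hx01 hx12

/-- the field `out` -/
theorem out_of (α : MulAut K) (ho : ∀ l, α ≠ MulAut.conj l) (hp : ∃ n : ℕ, α ^ 2 ^ n = 1)
    (hT : ∀ x ∈ A.T, α x ∈ A.T) (hZ : ∀ w ∈ A.ZT, α w = w ∨ α w = w * A.z) (N : Subgroup K) (hN : N ≤ A.T)
    (hn : ∀ x ∈ A.T, ∀ n ∈ N, x * n * x⁻¹ ∈ N) (hm : ∀ x ∈ A.T, α x * x⁻¹ ∈ N) : A.ZT ≤ N := by
  obtain ⟨n, hn2⟩ := hp
  have hfin : Finite A.T := Nat.finite_of_card_ne_zero (by rw [card_T]; norm_num)
  -- `α` permutes `T`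
  have hT' : ∀ y, y ∈ A.T ↔ α y ∈ A.T := by
    intro y
    refine ⟨hT y, fun hy => ?_⟩
    have h1 : A.T.map α.toMonoidHom = A.T := by
      apply Subgroup.eq_of_le_of_card_ge
      · rintro _ ⟨x, hx, rfl⟩
        exact hT x hx
      · exact le_of_eq (Nat.card_congr (A.T.equivMapOfInjective _ α.injective).toEquiv)
    rw [← h1] at hy
    obtain ⟨x, hx, hxy⟩ := hy
    have h2 : α x = α y := hxy
    rw [← α.injective h2]; exact hx
  obtain ⟨B, p, τ, hBT, hcd⟩ := exists_cd_of_norm A α hn2 hT'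
  have hBZ : B.ZT = A.ZT := by rw [← commutator_T, hBT, commutator_T]
  have hz := z_eq A B
  rw [← hBZ]
  rw [← hBT] at hN hn hm
  rw [← hBZ] at hZ
  rw [← hz] at hZ
  clear hT hT' hBT hBZ hfin
  have hcd' := hcd.nk
  obtain ⟨a, b, c, k⟩ := p
  obtain ⟨e, f⟩ := τ
  have hval : ∀ y : Code, α (B.el y) * (B.el y)⁻¹ = B.el (cmul (cact ⟨a, b, c, false⟩ (e, f) y) (cinv y)) := by
    intro y
    have := hcd'.apply y
    rw [this, B.el_inv, B.el_mul]; rfl
  -- the field bit is trivial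
  have he : e = false := by
    have h1 : ∀ (a b c : F4) (e f : Bool), (∃ k, cact ⟨a, b, c, false⟩ (e, f) ⟨0, 0, F4.w, false⟩ =
        ⟨0, 0, F4.w, k⟩) → e = false := by decide +kernel
    apply h1 a b c e f
    have h2 := hcd'.apply ⟨0, 0, F4.w, false⟩
    rcases hZ _ (el_mem_ZT B F4.w false) with h | h
    · refine ⟨false, B.inj ?_⟩
      rw [← h]; exact h2.symm
    · refine ⟨true, B.inj ?_⟩
      have h3 : B.el ⟨0, 0, F4.w, true⟩ = B.el ⟨0, 0, F4.w, false⟩ * B.z := by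
        rw [← B.el_z, B.el_mul]
        congr 1
      rw [h3, ← h]; exact h2.symm
  subst he
  have hf : f = true := by
    by_contra hf
    have hf' : f = false := by simpa using hf
    subst hf'
    have h4 : MulAut.conj (B.el ⟨a, b, c, k⟩) * α = 1 := Cov.IsTau.ext hcd Cov.isTau_one
    apply ho (B.el ⟨a, b, c, k⟩)⁻¹
    rw [map_inv]
    exact eq_inv_of_mul_eq_one_right h4
  subst hf
  -- elements over `(u, u)`
  have hu : ∀ u : F4, ∃ d k, B.el ⟨u, u, d, k⟩ ∈ N := by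
    intro u
    have h1 : ∀ a b c u : F4, (fun r : Code => r.a = u ∧ r.b = u)
        (cmul (cact ⟨a, b, c, false⟩ (false, true) ⟨u, 0, 0, false⟩) (cinv ⟨u, 0, 0, false⟩)) := by
      decide +kernel
    have h2 := hm _ (B.el_mem ⟨u, 0, 0, false⟩)
    rw [hval] at h2
    obtain ⟨h3, h4⟩ := h1 a b c u
    revert h2 h3 h4
    generalize cmul (cact ⟨a, b, c, false⟩ (false, true) ⟨u, 0, 0, false⟩) (cinv ⟨u, 0, 0, false⟩) = r
    intro h2 h3 h4
    obtain ⟨r1, r2, r3, r4⟩ := r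
    simp only at h3 h4
    rw [h3, h4] at h2
    exact ⟨r3, r4, h2⟩
  have hcomm : ∀ u y1 : F4, B.el ⟨0, 0, y1 * u, trF (y1 * (u * u))⟩ ∈ N := by
    intro u y1
    obtain ⟨d, k', hd⟩ := hu u
    have h1 := mul_mem (hn _ (B.el_mem ⟨y1, 0, 0, false⟩) _ hd) (inv_mem hd)
    have h2 := el_comm B ⟨y1, 0, 0, false⟩ ⟨u, u, d, k'⟩
    rw [commutatorElement_def] at h2
    rw [h2] at h1
    simp only at h1
    have e1 : y1 * u + u * 0 = y1 * u := by ring
    have e2 : y1 * (u * u) + u * (0 * 0) = y1 * (u * u) := by ring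
    rwa [e1, e2] at h1
  intro y hy
  obtain ⟨d, l, rfl⟩ := exists_of_mem_ZT B hy
  have key : ∀ (d : F4) (l : Bool), ∃ y1 y3 : F4, d = y1 * 1 + y3 * F4.w ∧
      l = xor (trF (y1 * (1 * 1))) (trF (y3 * (F4.w * F4.w))) := by decide +kernel
  obtain ⟨y1, y3, h1, h2⟩ := key d l
  have h3 := mul_mem (hcomm 1 y1) (hcomm F4.w y3)
  rw [B.el_mul] at h3
  have h4 : cmul ⟨0, 0, y1 * 1, trF (y1 * (1 * 1))⟩ ⟨0, 0, y3 * F4.w, trF (y3 * (F4.w * F4.w))⟩ =
      ⟨0, 0, d, l⟩ := by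
    rw [h1, h2]
    simp only [cmul, Code.mk.injEq]
    refine ⟨by ring, by ring, by ring, ?_⟩
    have h0 : trF ((0 : F4) * (0 * 0)) = false := by decide
    rw [h0, Bool.xor_false]
  rwa [h4] at h3

/-- **The structure of the centraliser of a noncentral involution.** -/
theorem loc [Finite K] (A : Cov K) (t : K) (h2 : t * t = 1) (hc : t ∉ center K) :
    ∃ P Z : Subgroup K, Loc K A.z t P Z := by
  rw [mem_center_iff' A, not_or] at hc
  obtain ⟨B, k, ht⟩ := exists_t A h2 hc.1 hc.2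
  have hz := z_eq A B
  rw [← hz] at hc ⊢
  have h1 : (1 : F4) ≠ 0 := by decide
  refine ⟨B.T, B.ZT, ?_⟩
  subst ht
  exact
  { mem_P := fun x => (comm_iff_T B h1 k x).symm
    mem_Z := fun x => ⟨fun h => ⟨ZT_le_T B h, fun y hy => ZT_comm B h hy⟩, fun h => (mem_ZT_iff B h.1).2 h.2⟩
    card_P := card_T B
    card_Z := card_ZT B
    sq_Z := fun x hx => ZT_sq B hx
    nconj := fun x => B.fact_nof _ x h2 hc.1 hc.2
    comm := fun x hx y hy => comm_mem B hx hy
    surj := by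
      rintro _ ⟨p, rfl⟩ hx w hw
      obtain ⟨d, l, rfl⟩ := exists_of_mem_ZT B hw
      have hab : (p.a, p.b) ≠ (0, 0) := by
        intro h
        apply hx
        rw [mem_ZT]
        simpa using h
      obtain ⟨a', b', h⟩ := code_surj p.a p.b d hab
      refine ⟨B.el ⟨a', b', 0, false⟩, B.el_mem _, ?_⟩
      rw [el_comm]
      simp only
      rw [h]
      have e : ∀ l' : Bool, B.el ⟨0, 0, d, l'⟩ = B.el ⟨0, 0, d, l⟩ ∨
          B.el ⟨0, 0, d, l'⟩ = B.el ⟨0, 0, d, l⟩ * B.z := by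
        intro l'
        have e2 : B.el ⟨0, 0, d, !l⟩ = B.el ⟨0, 0, d, l⟩ * B.z := by
          rw [← B.el_z, B.el_mul]
          congr 1
          simp only [cmul, Code.mk.injEq]
          refine ⟨by ring, by ring, by ring, ?_⟩
          have h0 : trF ((0 : F4) * (0 * 0)) = false := by decide
          rw [h0, Bool.xor_false, Bool.xor_true]
        rcases Bool.eq_or_eq_not l' l with h | h
        · left; rw [h]
        · right; rw [h]; exact e2
      exact e _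
    z_mem := B.z_mem_comm
    small := by
      intro w hw hw1 hwz
      obtain ⟨d, l, rfl⟩ := exists_of_mem_ZT B hw
      have hd : d ≠ 0 := by
        rintro rfl
        cases l
        · exact hw1 B.el_one
        · exact hwz B.el_z
      obtain ⟨a, b, ⟨a', b', h3, h4⟩, h5⟩ := code_small d l hd
      refine ⟨B.el ⟨a, b, 0, false⟩, B.el_mem _, ⟨B.el ⟨a', b', 0, false⟩, B.el_mem _, ?_⟩, ?_⟩
      · rw [el_comm]
        simp only
        rw [h3, h4]
      · rintro _ ⟨q, rfl⟩ h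
        rw [el_comm, ← B.el_z] at h
        have h6 := B.inj h
        simp only [Code.mk.injEq, true_and] at h6
        exact h5 q.a q.b h6
    ab := by
      refine ⟨B.E1, B.E2, B.E1_le, B.E2_le, E1_comm_ZT B, E2_comm_ZT B, B.card_E1, B.card_E2,
        fun x => B.sq_E1, fun x => B.sq_E2, ?_⟩
      rintro _ ⟨p, rfl⟩
      exact ⟨_, ⟨⟨p.a, 0, 0, false⟩, rfl, rfl⟩, _, ⟨⟨0, p.b, p.c, p.k⟩, rfl, rfl⟩, el_split B p⟩
    gen := fun H hH => gen_of B k H hH
    four := by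
      refine ⟨B.el ⟨1, 1, 0, false⟩, B.el_mem _, ?_⟩
      rw [el_sq, mem_center_el]
      decide
    out := by
      intro α ho hp hT hZ N hN hn hm
      exact out_of B α (fun l h => ho ⟨l, h.symm⟩) hp hT hZ N hN hn hm }

end Cfsg.Agent.UGT.I34.Two.KS
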