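import Cfsg.Agent.UGT.I34.Two.KSyl

/-!
# `2.L3(4)`: facts (b1) generation, (b3) (helper161)
-/

set_option autoImplicit false
set_option linter.constructorNameAsVariable false
set_option linter.unusedVariables false

namespace Cfsg.Agent.UGT.I34.Two.KS

open Subgroup
open Cfsg.Agent.SporadicA.FieldFour
open Cfsg.Agent.ONType.Psl (kap)
open Cfsg.Agent.StdL34 (trF fr Ty imgx)
open Cfsg.Agent.OddHalf.D9.L34
open scoped commutatorElement

variable {L : Type*} [Group L] (A : Cov L)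

/-- `T` is generated by the root elements `x₀₁(a)`, `x₁₂(b)` -/
theorem T_le_of_root {H : Subgroup L} (h1 : ∀ a, A.x 0 1 a ∈ H) (h2 : ∀ b, A.x 1 2 b ∈ H) : A.T ≤ H := by
  have hz : ∀ (a b : F4), A.el ⟨0, 0, a * b, trF (a * (b * b))⟩ ∈ H := by
    intro a b
    have h := el_comm A ⟨a, 0, 0, false⟩ ⟨0, b, 0, false⟩
    simp only at h
    have e : ∀ a b : F4, a * b + 0 * 0 = a * b ∧ a * (b * b) + 0 * (0 * 0) = a * (b * b) := by decide
    rw [(e a b).1, (e a b).2, A.el_x01, A.el_x12] at h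
    rw [← h, commutatorElement_def]
    exact mul_mem (mul_mem (mul_mem (h1 _) (h2 _)) (inv_mem (h1 _))) (inv_mem (h2 _))
  have hZ : ∀ c k, A.el ⟨0, 0, c, k⟩ ∈ H := by
    have e1 : ∀ (c : F4) (k : Bool), c ≠ 0 → ∃ a b : F4, a * b = c ∧ trF (a * (b * b)) = k := by decide
    have e2 : cmul ⟨0, 0, 1, false⟩ ⟨0, 0, 1, true⟩ = ⟨0, 0, 0, true⟩ := by decide
    have h3 : ∀ c k, c ≠ 0 → A.el ⟨0, 0, c, k⟩ ∈ H := by
      intro c k hc
      obtain ⟨a, b, h4, h5⟩ := e1 c k hc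
      rw [← h4, ← h5]; exact hz a b
    intro c k
    rcases eq_or_ne c 0 with rfl | hc
    · cases k
      · have h6 : A.el ⟨0, 0, 0, false⟩ = 1 := A.el_one
        rw [h6]; exact one_mem H
      · have h4 := mul_mem (h3 1 false (by decide)) (h3 1 true (by decide))
        rwa [A.el_mul, e2] at h4
    · exact h3 c k hc
  rintro _ ⟨⟨a, b, c, k⟩, rfl⟩
  have h4 : A.el ⟨a, b, c, k⟩ = A.x 0 1 a * A.x 1 2 b * A.el ⟨0, 0, c, k⟩ := by
    rw [A.el_eq, A.el_eq]
    show _ = A.x 0 1 a * A.x 1 2 b * (A.x 0 1 0 * A.x 1 2 0 * A.x 0 2 c * A.s k)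
    rw [A.x_zero 0 1 (by decide), A.x_zero 1 2 (by decide)]
    group
  rw [h4]
  exact mul_mem (mul_mem (h1 a) (h2 b)) (hZ c k)

/-- **(b1)** `T` is generated by the conjugates of a noncentral involution of `Z(T)` -/
theorem T_le_of_conj {t : L} (ht : t ∈ A.ZT) (h1 : t ≠ 1) (hz : t ≠ A.z) {H : Subgroup L}
    (hH : ∀ (x g : L), x ∈ A.T → x = g * t * g⁻¹ → x ∈ H) : A.T ≤ H := by
  obtain ⟨c, k, rfl⟩ := exists_of_mem_ZT A ht
  have hc : c ≠ 0 := by
    rintro rfl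
    cases k
    · exact h1 A.el_one
    · exact hz A.el_z
  have h3 : ∀ c, A.el ⟨0, 0, c, k⟩ = A.x 0 2 c * A.s k := by
    intro c
    rw [A.el_eq]
    show A.x 0 1 0 * A.x 1 2 0 * A.x 0 2 c * A.s k = _
    rw [A.x_zero 0 1 (by decide), A.x_zero 1 2 (by decide), one_mul, one_mul]
  have hcj : ∀ (m u v : L), m⁻¹ * u * m = v → m⁻¹ * (u * A.s k) * m = v * A.s k := by
    intro m u v h
    rw [← h]
    calc m⁻¹ * (u * A.s k) * m = m⁻¹ * u * (A.s k * m) := by group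
      _ = _ := by rw [A.s_cen]; group
  have h02 : ∀ u, u ≠ 0 → ∃ g, A.x 0 2 u * A.s k = g * A.el ⟨0, 0, c, k⟩ * g⁻¹ := by
    intro u hu
    obtain ⟨m, hm⟩ := A.x02_conj c u hc hu
    refine ⟨m⁻¹, ?_⟩
    rw [← hm k, h3, inv_inv]
  have h01 : ∀ u, u ≠ 0 → A.x 0 1 u * A.s k ∈ H := by
    intro u hu
    obtain ⟨g, hg⟩ := h02 u hu
    have hw := A.x_wey 1 2 0 2 (by decide) (by decide) u
    set n := A.x 1 2 1 * A.x 2 1 1 * A.x 1 2 1
    have hw' : n⁻¹ * A.x 0 2 u * n = A.x 0 1 u := hw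
    refine hH _ (n⁻¹ * g) ?_ ?_
    · have : A.x 0 1 u * A.s k = A.el ⟨u, 0, 0, k⟩ := by
        rw [A.el_eq]
        show _ = A.x 0 1 u * A.x 1 2 0 * A.x 0 2 0 * A.s k
        rw [A.x_zero 0 2 (by decide), A.x_zero 1 2 (by decide), mul_one, mul_one]
      rw [this]; exact A.el_mem _
    · rw [← hcj n _ _ hw', hg]; group
  have h12 : ∀ u, u ≠ 0 → A.x 1 2 u * A.s k ∈ H := by
    intro u hu
    obtain ⟨g, hg⟩ := h02 u hu
    have hw := A.x_wey 0 1 0 2 (by decide) (by decide) u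
    set n := A.x 0 1 1 * A.x 1 0 1 * A.x 0 1 1
    have hw' : n⁻¹ * A.x 0 2 u * n = A.x 1 2 u := hw
    refine hH _ (n⁻¹ * g) ?_ ?_
    · have : A.x 1 2 u * A.s k = A.el ⟨0, u, 0, k⟩ := by
        rw [A.el_eq]
        show _ = A.x 0 1 0 * A.x 1 2 u * A.x 0 2 0 * A.s k
        rw [A.x_zero 0 2 (by decide), A.x_zero 0 1 (by decide), mul_one, one_mul]
      rw [this]; exact A.el_mem _
    · rw [← hcj n _ _ hw', hg]; group
  have hsum : ∀ u : F4, u ≠ 0 → F4.w * u ≠ 0 ∧ F4.v * u ≠ 0 ∧ u = F4.w * u + F4.v * u := by decide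
  have hss : A.s k * A.s k = 1 := by rw [A.s_mul, Bool.xor_self, A.s_false]
  have hadd : ∀ (i j : Fin 3) (u v : F4), i ≠ j → A.x i j (u + v) = (A.x i j u * A.s k) * (A.x i j v * A.s k) := by
    intro i j u v hij
    calc A.x i j (u + v) = A.x i j u * A.x i j v * (A.s k * A.s k) := by rw [hss, mul_one, A.x_add i j hij]
      _ = A.x i j u * (A.x i j v * A.s k) * A.s k := by group
      _ = A.x i j u * (A.s k * A.x i j v) * A.s k := by rw [A.s_cen]
      _ = _ := by group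
  apply T_le_of_root A
  · intro a
    rcases eq_or_ne a 0 with rfl | ha
    · rw [A.x_zero 0 1 (by decide)]; exact one_mem H
    · obtain ⟨e1, e2, e3⟩ := hsum a ha
      rw [e3, hadd 0 1 _ _ (by decide)]
      exact mul_mem (h01 _ e1) (h01 _ e2)
  · intro a
    rcases eq_or_ne a 0 with rfl | ha
    · rw [A.x_zero 1 2 (by decide)]; exact one_mem H
    · obtain ⟨e1, e2, e3⟩ := hsum a ha
      rw [e3, hadd 1 2 _ _ (by decide)]
      exact mul_mem (h12 _ e1) (h12 _ e2)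

/-! ### automorphisms normalising `T` -/

/-- an automorphism of 2-power order normalising `T` has a code in suitable coordinates with the same `T` -/
theorem exists_cd_of_norm (α : MulAut L) {n : ℕ} (hn : α ^ (2 ^ n) = 1)
    (hα : ∀ y, y ∈ A.T ↔ α y ∈ A.T) : ∃ (B : Cov L) (p : Code) (τ : Ty), B.T = A.T ∧ B.Cd α p τ := by
  -- a fixed `x₀₂(c)`
  choose! f hf0 hf using fun (c : F4) (hc : c ≠ 0) => A.aut_x02 α hα hc
  have hinj : ∀ c d : F4, c ≠ 0 → d ≠ 0 → f c = f d → c = d := by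
    intro c d hc hd h
    have h1 := hf c hc
    rw [h, ← hf d hd] at h1
    have h2 := α.injective h1
    rw [← A.el_x02, ← A.el_x02] at h2
    have h3 := A.inj h2
    simp only [Code.mk.injEq] at h3
    exact h3.2.2.1
  have hpow : ∀ (m : ℕ) (c : F4), c ≠ 0 → f^[m] c ≠ 0 ∧ (α ^ m) (A.x 0 2 c) = A.x 0 2 (f^[m] c) := by
    intro m
    induction m with
    | zero => intro c hc; exact ⟨hc, rfl⟩
    | succ m ih =>
      intro c hc
      obtain ⟨h1, h2⟩ := ih (f c) (hf0 c hc)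
      refine ⟨h1, ?_⟩
      rw [pow_succ, MulAut.mul_apply, hf c hc, h2]; rfl
  have hper : ∀ c, c ≠ 0 → f^[2 ^ n] c = c := by
    intro c hc
    obtain ⟨h1, h2⟩ := hpow (2 ^ n) c hc
    rw [hn, MulAut.one_apply, ← A.el_x02, ← A.el_x02] at h2
    have h3 := A.inj h2
    simp only [Code.mk.injEq] at h3
    exact h3.2.2.1.symm
  have hfix : ∃ c, c ≠ 0 ∧ f c = c := by
    by_contra hcon
    push Not at hcon
    -- `f` is a 3-cycle
    have h3 : ∀ c, c ≠ 0 → f (f (f c)) = c := by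
      intro c hc
      have a1 := hf0 c hc
      have a2 := hf0 _ a1
      have a3 := hf0 _ a2
      have b1 := hcon c hc
      have b2 := hcon _ a1
      have b3 := hcon _ a2
      have b4 : f (f c) ≠ c ∨ f (f c) = c := (eq_or_ne _ _).symm
      rcases b4 with b4 | b4
      · -- c, f c, f f c are distinct; f f f c ∉ {f f c, f c}
        have b5 : f (f (f c)) ≠ f c := fun h => b4 (hinj _ _ a2 hc h)
        have key : ∀ c d e g : F4, (c ≠ 0 ∧ d ≠ 0 ∧ e ≠ 0 ∧ g ≠ 0 ∧ d ≠ c ∧ e ≠ d ∧ e ≠ c ∧ g ≠ e ∧ g ≠ d) →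
            g = c := by decide
        exact key c (f c) (f (f c)) _ ⟨hc, a1, a2, a3, b1, b2, b4, b3, b5⟩
      · -- the third element is fixed
        exfalso
        have key : ∀ c d : F4, (c ≠ 0 ∧ d ≠ 0 ∧ d ≠ c) → ∃ e : F4, (e ≠ 0 ∧ e ≠ c ∧ e ≠ d) ∧
          ∀ g : F4, g ≠ 0 → g ≠ c → g ≠ d → g = e := by decide
        obtain ⟨e, ⟨e0, e1, e2⟩, e3⟩ := key c (f c) ⟨hc, a1, b1⟩
        apply hcon e e0
        apply e3 _ (hf0 e e0)
        · intro h
          rw [← b4] at h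
          exact e2 (hinj _ _ e0 a1 h)
        · intro h
          exact e1 (hinj _ _ e0 hc h)
    have h4 : f^[3] = f^[3] := rfl
    have h5 : ∀ m c, c ≠ 0 → f^[3 * m] c = c := by
      intro m
      induction m with
      | zero => intro c _; rfl
      | succ m ih =>
        intro c hc
        rw [Nat.mul_succ, Function.iterate_add_apply]
        show f^[3 * m] (f (f (f c))) = c
        rw [h3 c hc]; exact ih c hc
    -- 2 ^ n = 3 m + 1 or 3 m + 2
    have h6 := hper 1 (by decide)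
    have h7 : 2 ^ n % 3 = 1 ∨ 2 ^ n % 3 = 2 := by
      have : ¬ 3 ∣ 2 ^ n := by
        intro h
        have := (Nat.prime_three).dvd_of_dvd_pow h
        norm_num at this
      omega
    have h8 : 2 ^ n = 3 * (2 ^ n / 3) + 2 ^ n % 3 := by omega
    have o1 : (1 : F4) ≠ 0 := by decide
    rcases h7 with h7 | h7
    · rw [h8, h7, Function.iterate_add_apply] at h6
      have h9 : f^[1] 1 = f 1 := rfl
      rw [h9, h5 _ _ (hf0 1 o1)] at h6
      exact hcon 1 o1 h6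
    · rw [h8, h7, Function.iterate_add_apply] at h6
      have h9 : f^[2] 1 = f (f 1) := rfl
      rw [h9, h5 _ _ (hf0 _ (hf0 1 o1))] at h6
      have h10 := h3 1 o1
      rw [h6] at h10
      exact hcon 1 o1 h10
  obtain ⟨c, hc, hfc⟩ := hfix
  have hxc : α (A.x 0 2 c) = A.x 0 2 c := by rw [hf c hc, hfc]
  -- change coordinates by a power of `h`
  have hT : ∀ m : L, (m = 1 ∨ m = A.h ∨ m = A.h * A.h) → ∀ y, y ∈ A.T → m⁻¹ * y * m ∈ A.T := by
    have hx : ∀ y, y ∈ A.T → A.h⁻¹ * y * A.h ∈ A.T := by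
      rintro _ ⟨⟨a, b, d, k⟩, rfl⟩
      refine ⟨⟨kap 0 1 * a, kap 1 2 * b, kap 0 2 * d, k⟩, ?_⟩
      rw [A.el_eq, A.el_eq]
      simp only
      rw [← A.h_x 0 1 (by decide), ← A.h_x 1 2 (by decide), ← A.h_x 0 2 (by decide)]
      have hs := A.s_cen k A.h
      calc A.h⁻¹ * A.x 0 1 a * A.h * (A.h⁻¹ * A.x 1 2 b * A.h) * (A.h⁻¹ * A.x 0 2 d * A.h) * A.s k
          = A.h⁻¹ * A.x 0 1 a * A.x 1 2 b * A.x 0 2 d * (A.h * A.s k) := by group
        _ = _ := by rw [← hs]; group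
    rintro m (rfl | rfl | rfl) y hy
    · simpa using hy
    · exact hx y hy
    · have := hx _ (hx y hy)
      have e : (A.h * A.h)⁻¹ * y * (A.h * A.h) = A.h⁻¹ * (A.h⁻¹ * y * A.h) * A.h := by group
      rw [e]; exact this
  have hm : ∃ m : L, (m = 1 ∨ m = A.h ∨ m = A.h * A.h) ∧ m⁻¹ * A.x 0 2 c * m = A.x 0 2 1 := by
    have h1 : ∀ u, A.h⁻¹ * A.x 0 2 u * A.h = A.x 0 2 (kap 0 2 * u) := fun u => A.h_x 0 2 (by decide) u
    have h2 : ∀ u, (A.h * A.h)⁻¹ * A.x 0 2 u * (A.h * A.h) = A.x 0 2 (kap 0 2 * (kap 0 2 * u)) := by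
      intro u
      rw [← h1, ← h1]; group
    have key : ∀ c : F4, c ≠ 0 → 1 = c ∨ 1 = kap 0 2 * c ∨ 1 = kap 0 2 * (kap 0 2 * c) := by decide
    rcases key c hc with h | h | h
    · exact ⟨1, Or.inl rfl, by rw [← h]; group⟩
    · exact ⟨A.h, Or.inr (Or.inl rfl), by rw [h1, ← h]⟩
    · exact ⟨A.h * A.h, Or.inr (Or.inr rfl), by rw [h2, ← h]⟩
  obtain ⟨m, hm, hmc⟩ := hm
  have hTeq : (cjc A m).T = A.T := by
    have hle : A.T ≤ (cjc A m).T := by
      intro y hy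
      rw [mem_cjc_T]
      exact hT m hm y hy
    have : Finite (cjc A m).T := Nat.finite_of_card_ne_zero (by rw [card_T]; norm_num)
    symm
    apply Subgroup.eq_of_le_of_card_ge hle
    rw [card_T, card_T]
  have hx1 : (cjc A m).x 0 2 1 = A.x 0 2 c := by
    show m * A.x 0 2 1 * m⁻¹ = _
    rw [← hmc]; group
  obtain ⟨p, τ, h⟩ := (cjc A m).exists_cd (α := α) (by rw [hx1, hxc])
  exact ⟨_, p, τ, hTeq, h⟩

/-- codes: `α(y) y⁻¹` takes at most one nontrivial value modulo `z` -/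
theorem code_move : ∀ (τ : Ty) (a b c : F4), (∀ y y' : F4 × F4,
    (fun r r' : Code => nk r = cone ∨ nk r' = cone ∨ nk r = nk r')
      (cmul (cact ⟨a, b, c, false⟩ τ ⟨y.1, y.2, 0, false⟩) (cinv ⟨y.1, y.2, 0, false⟩))
      (cmul (cact ⟨a, b, c, false⟩ τ ⟨y'.1, y'.2, 0, false⟩) (cinv ⟨y'.1, y'.2, 0, false⟩))) →
    τ = (false, false) ∧ a = 0 ∧ b = 0 := by
  decide +kernel

theorem nk_eq_of_mul_z {p q : Code} (h : A.el p = A.el q * A.z) : nk p = nk q := by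
  rw [← A.el_z, A.el_mul] at h
  rw [A.inj h]
  obtain ⟨a, b, c, k⟩ := q
  show (⟨a + 0, b + 0, 0 * b + c + 0, false⟩ : Code) = ⟨a, b, c, false⟩
  rw [add_zero, add_zero, add_zero, zero_mul, zero_add]

/-- **(b3)** an automorphism of 2-power order normalising `T` and moving the elements of `T` by at most one
element modulo `z` is induced by `Z(T)` -/
theorem exists_conj_of_small (α : MulAut L) {n : ℕ} (hn : α ^ (2 ^ n) = 1)
    (hα : ∀ y, y ∈ A.T ↔ α y ∈ A.T) (w : L)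
    (hw : ∀ y ∈ A.T, α y * y⁻¹ = 1 ∨ α y * y⁻¹ = A.z ∨ α y * y⁻¹ = w ∨ α y * y⁻¹ = w * A.z) :
    ∃ d ∈ A.ZT, α = MulAut.conj d := by
  obtain ⟨B, p, τ, hT, hcd⟩ := exists_cd_of_norm A α hn hα
  have hz := z_eq A B
  have hcd' := hcd.nk
  have hval : ∀ y : Code, α (B.el y) * (B.el y)⁻¹ = B.el (cmul (cact (nk p) τ y) (cinv y)) := by
    intro y
    rw [hcd'.apply, B.el_inv, B.el_mul]
  have hval' : ∀ y : Code, B.el (cmul (cact (nk p) τ y) (cinv y)) = 1 ∨
      B.el (cmul (cact (nk p) τ y) (cinv y)) = B.z ∨ B.el (cmul (cact (nk p) τ y) (cinv y)) = w ∨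
      B.el (cmul (cact (nk p) τ y) (cinv y)) = w * B.z := by
    intro y
    rw [← hval, hz]
    exact hw _ (by rw [← hT]; exact B.el_mem y)
  have h1 : ∀ r : Code, B.el r = 1 ∨ B.el r = B.z → nk r = cone := by
    rintro r (h | h)
    · rw [← B.el_one] at h
      rw [B.inj h]; rfl
    · rw [← B.el_z] at h
      rw [B.inj h]; rfl
  have hzz : ∀ m : L, m * B.z * B.z = m := fun m => by rw [mul_assoc, B.z_sq, mul_one]
  have h2 : ∀ r r' : Code, (B.el r = w ∨ B.el r = w * B.z) → (B.el r' = w ∨ B.el r' = w * B.z) →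
      nk r = nk r' := by
    rintro r r' (h | h) (h' | h')
    · rw [← h'] at h; rw [B.inj h]
    · apply nk_eq_of_mul_z B
      rw [h, h', hzz]
    · apply nk_eq_of_mul_z B
      rw [h, h']
    · rw [← h'] at h; rw [B.inj h]
  have h3 := code_move τ p.a p.b p.c (by
    intro y y'
    rcases hval' ⟨y.1, y.2, 0, false⟩ with h | h | h | h
    · exact Or.inl (h1 _ (Or.inl h))
    · exact Or.inl (h1 _ (Or.inr h))
    all_goals
      rcases hval' ⟨y'.1, y'.2, 0, false⟩ with h' | h' | h' | h'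
      · exact Or.inr (Or.inl (h1 _ (Or.inl h')))
      · exact Or.inr (Or.inl (h1 _ (Or.inr h')))
    · exact Or.inr (Or.inr (h2 _ _ (Or.inl h) (Or.inl h')))
    · exact Or.inr (Or.inr (h2 _ _ (Or.inl h) (Or.inr h')))
    · exact Or.inr (Or.inr (h2 _ _ (Or.inr h) (Or.inl h')))
    · exact Or.inr (Or.inr (h2 _ _ (Or.inr h) (Or.inr h'))))
  obtain ⟨rfl, ha, hb⟩ := h3
  have h4 : MulAut.conj (B.el p) * α = 1 := Cov.IsTau.ext hcd Cov.isTau_one
  refine ⟨(B.el p)⁻¹, ?_, ?_⟩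
  · apply inv_mem
    have h5 : B.el p ∈ B.ZT := ⟨p, ha, hb, rfl⟩
    rw [← commutator_T, hT, commutator_T] at h5
    exact h5
  · rw [map_inv]
    exact eq_inv_of_mul_eq_one_right h4

end Cfsg.Agent.UGT.I34.Two.KS
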