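import Cfsg.Agent.UGT.I34.Two.Map

/-!
# `2.L3(4)`: the Sylow 2-subgroup (helper161), facts (b1), (b2)

For `A : Cov L` the Sylow 2-subgroup `A.T` has order 128, `ZT = T' = Z(T)` is elementary abelian of order 8 and contains
`z`; a noncentral involution `t ∈ Z(T)` has `C(t) = T` and `T` is generated by the conjugates of `t` in `T`.
-/

set_option autoImplicit false
set_option linter.constructorNameAsVariable false
set_option linter.unusedVariables false

namespace Cfsg.Agent.UGT.I34.Two.KS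

open Subgroup
open Cfsg.Agent.SporadicA.FieldFour
open Cfsg.Agent.ONType.Psl (kap)
open Cfsg.Agent.StdL34 (trF fr Ty imgx)
open Cfsg.Agent.OddHalf.D9.L34
open scoped commutatorElement

/-! ### codes -/

/-- commutator of codes -/
def ccm (p q : Code) : Code := cmul (cmul (cmul p q) (cinv p)) (cinv q)

theorem tr_add (u v : F4) : trF (u + v) = xor (trF u) (trF v) := by revert u v; decide

theorem ccm_eq (p q : Code) :
    ccm p q = ⟨0, 0, p.a * q.b + q.a * p.b, trF (p.a * (q.b * q.b) + q.a * (p.b * p.b))⟩ := by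
  obtain ⟨a, b, c, k⟩ := p
  obtain ⟨a', b', c', k'⟩ := q
  simp only [ccm, cmul, cinv, Code.mk.injEq]
  refine ⟨?_, ?_, ?_, ?_⟩
  · have : ∀ a a' : F4, a + a' + a + a' = 0 := by decide
    exact this _ _
  · have : ∀ a a' : F4, a + a' + a + a' = 0 := by decide
    exact this _ _
  · have : ∀ a b c a' b' c' : F4, a' * (b + b' + b) + (a * (b + b') + (a' * b + c + c') + (c + a * b)) +
        (c' + a' * b') = a * b' + a' * b := by decide +kernel
    exact this _ _ _ _ _ _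
  · rw [tr_add]
    have h1 : ∀ k k' t1 t2 t3 t4 t5 : Bool, xor (xor (xor (xor (xor (xor k k') t1) (xor k t2)) t3) (xor k' t4)) t5 =
        xor (xor (xor (xor t1 t2) t3) t4) t5 := by decide
    rw [h1]
    have h2 : ∀ a b a' b' : F4, xor (xor (xor (xor (trF (a' * (b * b))) (trF (a * (b * b))))
        (trF (a * ((b + b') * (b + b'))))) (trF (a' * (b' * b')))) (trF (a' * ((b + b' + b) * (b + b' + b)))) =
        xor (trF (a * (b' * b'))) (trF (a' * (b * b))) := by decide +kernel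
    exact h2 _ _ _ _

theorem cmul_self (p : Code) : cmul p p = ⟨0, 0, p.a * p.b, trF (p.a * (p.b * p.b))⟩ := by
  obtain ⟨a, b, c, k⟩ := p
  simp only [cmul, Code.mk.injEq]
  refine ⟨Cov.add_self a, Cov.add_self b, ?_, ?_⟩
  · rw [add_assoc, Cov.add_self, add_zero]
  · rw [Bool.xor_self, Bool.false_xor]

section T

variable {L : Type*} [Group L] (A : Cov L)

theorem el_comm (p q : Code) : ⁅A.el p, A.el q⁆ =
    A.el ⟨0, 0, p.a * q.b + q.a * p.b, trF (p.a * (q.b * q.b) + q.a * (p.b * p.b))⟩ := by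
  rw [← ccm_eq]; exact A.comm_el p q

theorem el_sq (p : Code) : A.el p * A.el p = A.el ⟨0, 0, p.a * p.b, trF (p.a * (p.b * p.b))⟩ := by
  rw [A.el_mul, cmul_self]

theorem mem_ZT {p : Code} : A.el p ∈ A.ZT ↔ p.a = 0 ∧ p.b = 0 := by
  constructor
  · rintro ⟨q, ha, hb, h⟩
    rw [← A.inj h]
    exact ⟨ha, hb⟩
  · rintro ⟨ha, hb⟩
    exact ⟨p, ha, hb, rfl⟩

theorem el_mem_ZT (c : F4) (k : Bool) : A.el ⟨0, 0, c, k⟩ ∈ A.ZT := ⟨_, rfl, rfl, rfl⟩

theorem exists_of_mem_ZT {y : L} (h : y ∈ A.ZT) : ∃ c k, y = A.el ⟨0, 0, c, k⟩ := by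
  obtain ⟨⟨a, b, c, k⟩, ha, hb, rfl⟩ := h
  simp only at ha hb
  subst ha hb
  exact ⟨c, k, rfl⟩

theorem ZT_le_T : A.ZT ≤ A.T := by
  rintro _ ⟨p, -, -, rfl⟩
  exact A.el_mem p

theorem z_mem_ZT : A.z ∈ A.ZT := by rw [← A.el_z]; exact el_mem_ZT A 0 true

/-- `|T| = 128` -/
theorem card_T : Nat.card A.T = 128 := by
  rw [← card_code]
  symm
  exact Nat.card_congr (Equiv.ofBijective (fun p => (⟨A.el p, A.el_mem p⟩ : A.T))
    ⟨fun p q h => A.inj (congrArg Subtype.val h), fun ⟨_, p, hp⟩ => ⟨p, Subtype.ext hp⟩⟩)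

/-- `|Z(T)| = 8` -/
theorem card_ZT : Nat.card A.ZT = 8 := by
  have e : Nat.card (F4 × Bool) = Nat.card A.ZT := by
    apply Nat.card_congr
    refine Equiv.ofBijective (fun q => (⟨A.el ⟨0, 0, q.1, q.2⟩, el_mem_ZT A _ _⟩ : A.ZT)) ⟨?_, ?_⟩
    · rintro ⟨c, k⟩ ⟨c', k'⟩ h
      have := A.inj (congrArg Subtype.val h)
      simp only [Code.mk.injEq, true_and] at this
      rw [this.1, this.2]
    · rintro ⟨y, hy⟩
      obtain ⟨c, k, rfl⟩ := exists_of_mem_ZT A hy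
      exact ⟨(c, k), rfl⟩
  rw [← e, Nat.card_prod, Nat.card_eq_fintype_card, F4.card_eq, Nat.card_eq_fintype_card, Fintype.card_bool]

theorem ZT_sq {y : L} (h : y ∈ A.ZT) : y * y = 1 := by
  obtain ⟨c, k, rfl⟩ := exists_of_mem_ZT A h
  rw [el_sq, ← A.el_one]
  have e : trF ((0 : F4) * (0 * 0)) = false := by decide
  rw [mul_zero] at *
  rfl

theorem ZT_comm {x y : L} (hx : x ∈ A.ZT) (hy : y ∈ A.T) : x * y = y * x := by
  obtain ⟨p, ha, hb, rfl⟩ := hx
  obtain ⟨q, rfl⟩ := hy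
  exact A.commute_el ha hb q

/-- `Z(T)` -/
theorem mem_ZT_iff {x : L} (hx : x ∈ A.T) : x ∈ A.ZT ↔ ∀ y ∈ A.T, x * y = y * x := by
  constructor
  · intro h y hy
    exact ZT_comm A h hy
  · intro h
    obtain ⟨p, rfl⟩ := hx
    rw [mem_ZT]
    exact A.mem_center_T h

theorem comm_mem {x y : L} (hx : x ∈ A.T) (hy : y ∈ A.T) : ⁅x, y⁆ ∈ A.ZT := by
  obtain ⟨p, rfl⟩ := hx
  obtain ⟨q, rfl⟩ := hy
  rw [el_comm]
  exact el_mem_ZT A _ _

theorem sq_mem {x : L} (hx : x ∈ A.T) : x * x ∈ A.ZT := by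
  obtain ⟨p, rfl⟩ := hx
  rw [el_sq]
  exact el_mem_ZT A _ _

/-- `T' = Z(T)` -/
theorem commutator_T : ⁅A.T, A.T⁆ = A.ZT := by
  apply le_antisymm A.comm_T_le
  intro y hy
  obtain ⟨c, k, rfl⟩ := exists_of_mem_ZT A hy
  have h1 : ∀ c : F4, A.el ⟨0, 0, c, trF c⟩ ∈ ⁅A.T, A.T⁆ := by
    intro c
    have h := commutator_mem_commutator (A.el_mem ⟨c, 0, 0, false⟩) (A.el_mem ⟨0, 1, 0, false⟩)
    rw [el_comm] at h
    have e : ∀ c : F4, c * 1 + 0 * 0 = c ∧ c * (1 * 1) + 0 * (0 * 0) = c := by decide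
    simp only at h
    rwa [(e c).1, (e c).2] at h
  have h2 := A.z_mem_comm
  rcases Bool.eq_or_eq_not k (trF c) with h | h
  · rw [h]; exact h1 c
  · have h3 := mul_mem (h1 c) h2
    rw [← A.el_z, A.el_mul] at h3
    have e : ∀ c : F4, cmul ⟨0, 0, c, trF c⟩ ⟨0, 0, 0, true⟩ = ⟨0, 0, c, !(trF c)⟩ := by decide
    rw [e] at h3
    rw [h]; exact h3

/-- squares generate `Z(T)` modulo nothing: every `x₀₂(c)`-coset element is a square -/
theorem exists_sq_of_ne {c : F4} (hc : c ≠ 0) (k : Bool) : ∃ x ∈ A.T, x * x = A.el ⟨0, 0, c, k⟩ := by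
  obtain ⟨q, hq⟩ := code_sqrt ⟨0, 0, c, k⟩ rfl rfl hc
  exact ⟨A.el q, A.el_mem q, by rw [A.el_mul, hq]⟩

/-- the centraliser of a noncentral involution of `Z(T)` is `T` -/
theorem comm_iff_T [Finite L] {c : F4} (hc : c ≠ 0) (k : Bool) (x : L) :
    x * A.el ⟨0, 0, c, k⟩ = A.el ⟨0, 0, c, k⟩ * x ↔ x ∈ A.T := by
  have h3 : ∀ c, A.el ⟨0, 0, c, k⟩ = A.x 0 2 c * A.s k := by
    intro c
    rw [A.el_eq]
    show A.x 0 1 0 * A.x 1 2 0 * A.x 0 2 c * A.s k = _
    rw [A.x_zero 0 1 (by decide), A.x_zero 1 2 (by decide), one_mul, one_mul]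
  constructor
  · intro h
    -- both centralisers have the same order
    obtain ⟨m, hm⟩ := A.x02_conj c 1 hc (by decide)
    have hm' := hm k
    rw [← h3, ← h3] at hm'
    have h4 : ∀ y, y * A.el ⟨0, 0, 1, k⟩ = A.el ⟨0, 0, 1, k⟩ * y ↔ y ∈ A.T := by
      intro y
      rw [h3]; exact A.comm_iff y k
    have h5 : ∀ y, y * A.el ⟨0, 0, c, k⟩ = A.el ⟨0, 0, c, k⟩ * y ↔ m⁻¹ * y * m ∈ A.T := by
      intro y
      rw [← h4, ← hm']
      constructor
      · intro h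
        calc m⁻¹ * y * m * (m⁻¹ * A.el ⟨0, 0, c, k⟩ * m) = m⁻¹ * (y * A.el ⟨0, 0, c, k⟩) * m := by group
          _ = m⁻¹ * (A.el ⟨0, 0, c, k⟩ * y) * m := by rw [h]
          _ = _ := by group
      · intro h
        calc y * A.el ⟨0, 0, c, k⟩ = m * (m⁻¹ * y * m * (m⁻¹ * A.el ⟨0, 0, c, k⟩ * m)) * m⁻¹ := by group
          _ = m * (m⁻¹ * A.el ⟨0, 0, c, k⟩ * m * (m⁻¹ * y * m)) * m⁻¹ := by rw [h]
          _ = _ := by group
    have h6 : A.T.map (MulAut.conj m).toMonoidHom = A.T := by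
      have hle : A.T ≤ A.T.map (MulAut.conj m).toMonoidHom := by
        intro y hy
        have : m⁻¹ * y * m ∈ A.T := by
          rw [← h5]
          exact (ZT_comm A (el_mem_ZT A c k) hy).symm
        exact ⟨m⁻¹ * y * m, this, by show m * (m⁻¹ * y * m) * m⁻¹ = y; group⟩
      symm
      apply Subgroup.eq_of_le_of_card_ge hle
      exact le_of_eq (Nat.card_congr (A.T.equivMapOfInjective _ (MulAut.conj m).injective).symm.toEquiv)
    have h7 : x ∈ A.T.map (MulAut.conj m).toMonoidHom :=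
      ⟨m⁻¹ * x * m, (h5 x).1 h, by show m * (m⁻¹ * x * m) * m⁻¹ = x; group⟩
    rwa [h6] at h7
  · intro h
    exact (ZT_comm A (el_mem_ZT A c k) h).symm

end T

end Cfsg.Agent.UGT.I34.Two.KS
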