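import Cfsg.Agent.OddHalf.D9.L34.CFacts

/-!
# `2.L3(4)`: transport of coordinates (helper161)

`map` : transport along an isomorphism; `exists_T_eq` : every Sylow 2-subgroup is the subgroup `T` of some coordinates;
`exists_t` : every noncentral involution is `x₀₂(1) z^k` for some coordinates.
-/

set_option autoImplicit false
set_option linter.constructorNameAsVariable false
set_option linter.unusedVariables false

namespace Cfsg.Agent.UGT.I34.Two.KS

open Subgroup
open Cfsg.Agent.SporadicA.FieldFour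
open Cfsg.Agent.ONType.Psl (kap)
open Cfsg.Agent.ONType.OuterL (rv rv_ne rv_rv)
open Cfsg.Agent.StdL34 (trF fr Ty imgx)
open Cfsg.Agent.OddHalf.D9.L34

variable {L M : Type*} [Group L] [Group M]

theorem map_zp (e : L ≃* M) (z : L) (k : Bool) : e (zp z k) = zp (e z) k := by
  cases k
  · exact map_one e
  · rfl

theorem map_elx (A : Cov L) (e : L ≃* M) (p : Code) :
    elx (fun i j u => e (A.x i j u)) (e A.z) p = e (elx A.x A.z p) := by
  unfold elx; rw [map_mul, map_mul, map_mul, map_zp]

/-- transport of coordinates -/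
def map (A : Cov L) (e : L ≃* M) : Cov M where
  z := e A.z
  x i j u := e (A.x i j u)
  h := e A.h
  z_cen m := by
    obtain ⟨l, rfl⟩ := e.surjective m
    rw [← map_mul, A.z_cen, map_mul]
  z_sq := by rw [← map_mul, A.z_sq, map_one]
  x_add i j h u v := by rw [← map_mul, A.x_add i j h]
  x_row i j k h1 h2 u v := by rw [← map_mul, ← map_mul, A.x_row i j k h1 h2]
  x_col i j k h1 h2 u v := by rw [← map_mul, ← map_mul, A.x_col i j k h1 h2]
  x_sum i j k h1 h2 h3 u v := by
    rw [← map_mul, A.x_sum i j k h1 h2 h3, map_mul, map_mul, map_mul, map_zp]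
  x_wey i j k l h h' u := by
    rw [← map_mul, ← map_mul, ← map_inv, ← map_mul, ← map_mul, A.x_wey i j k l h h']
  h_pow := by rw [← map_pow, A.h_pow, map_one]
  h_x i j h u := by rw [← map_inv, ← map_mul, ← map_mul, A.h_x i j h]
  h_eq i j h := by
    rw [← map_mul, ← map_mul, ← map_mul, ← map_mul, ← map_mul, A.h_eq i j h]
  el_inj p q h := by
    rw [map_elx, map_elx] at h
    exact A.el_inj (e.injective h)
  gen := by
    have h1 := congrArg (Subgroup.map (e : L →* M)) A.gen
    rw [MonoidHom.map_closure, Subgroup.map_top_of_surjective _ e.surjective] at h1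
    rw [← h1]
    congr 1
    ext y
    constructor
    · rintro ⟨i, j, u, h, rfl⟩; exact ⟨_, ⟨i, j, u, h, rfl⟩, rfl⟩
    · rintro ⟨_, ⟨i, j, u, h, rfl⟩, rfl⟩; exact ⟨i, j, u, h, rfl⟩
  odd_index := by
    obtain ⟨T, hT, h2⟩ := A.odd_index
    refine ⟨T.map (e : L →* M), ?_, ?_⟩
    · intro l
      constructor
      · rintro ⟨y, hy, rfl⟩
        obtain ⟨p, rfl⟩ := (hT y).1 hy
        exact ⟨p, (map_elx A e p).symm⟩
      · rintro ⟨p, rfl⟩
        exact ⟨elx A.x A.z p, (hT _).2 ⟨p, rfl⟩, (map_elx A e p).symm⟩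
    · rw [Subgroup.index_map_of_bijective e.bijective]
      exact h2
  cent_mod l k h := by
    obtain ⟨y, rfl⟩ := e.surjective l
    rw [← map_zp, ← map_mul, ← map_mul, ← map_mul] at h
    obtain ⟨p, rfl⟩ := A.cent_mod y k (e.injective h)
    exact ⟨p, (map_elx A e p).symm⟩
  center k := by
    obtain ⟨y, rfl⟩ := e.surjective k
    rw [map_eq_one_iff _ e.injective, e.apply_eq_iff_eq, ← A.center]
    constructor
    · intro h m
      apply e.injective
      rw [map_mul, map_mul]; exact h _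
    · intro h m
      obtain ⟨m, rfl⟩ := e.surjective m
      rw [← map_mul, ← map_mul, h]
  r_ne n h := by
    rw [← map_mul, ← map_pow, map_eq_one_iff _ e.injective] at h
    exact A.r_ne n h
  outer α := by
    obtain ⟨l, τ, H⟩ := A.outer ((e.trans α).trans e.symm)
    refine ⟨e l, τ, fun i j hij u => ?_⟩
    have h1 := congrArg e (H i j hij u)
    rw [map_mul, map_mul, map_inv] at h1
    have h2 : e (((e.trans α).trans e.symm) (A.x i j u)) = α (e (A.x i j u)) := by simp
    rw [h2] at h1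
    rw [h1]
    unfold imgx
    split <;> rfl

theorem map_el (A : Cov L) (e : L ≃* M) (p : Code) : (map A e).el p = e (A.el p) := map_elx A e p

theorem mem_map_T (A : Cov L) (e : L ≃* M) (m : M) : m ∈ (map A e).T ↔ e.symm m ∈ A.T := by
  constructor
  · rintro ⟨p, rfl⟩
    rw [map_el, MulEquiv.symm_apply_apply]
    exact A.el_mem p
  · rintro ⟨p, hp⟩
    refine ⟨p, ?_⟩
    rw [map_el, hp, MulEquiv.apply_symm_apply]

/-- the central involution does not depend on the coordinates -/
theorem z_eq (A B : Cov L) : B.z = A.z := by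
  rcases (A.center B.z).1 B.z_cen with h | h
  · exact absurd h B.z_ne_one
  · exact h

/-- conjugate coordinates -/
def cjc (A : Cov L) (l : L) : Cov L := map A (MulAut.conj l)

theorem cjc_el (A : Cov L) (l : L) (p : Code) : (cjc A l).el p = l * A.el p * l⁻¹ := map_elx A _ p

theorem mem_cjc_T (A : Cov L) (l m : L) : m ∈ (cjc A l).T ↔ l⁻¹ * m * l ∈ A.T := by
  have h := mem_map_T A (MulAut.conj l) m
  have h2 : (MulAut.conj l).symm m = l⁻¹ * m * l := rfl
  rw [h2] at h
  exact h

/-- **Every Sylow 2-subgroup is the subgroup `T` of some coordinates.** -/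
theorem exists_T_eq [Finite L] (A : Cov L) (S : Sylow 2 L) : ∃ B : Cov L, B.T = (S : Subgroup L) := by
  obtain ⟨l, hl⟩ := A.exists_conj_T_iff (S : Subgroup L) S.isPGroup' (Cov.not_dvd_index S)
  refine ⟨cjc A l, ?_⟩
  ext y
  rw [mem_cjc_T, ← hl]

/-- `T` is a Sylow 2-subgroup -/
theorem exists_sylow [Finite L] (A : Cov L) : ∃ S : Sylow 2 L, (S : Subgroup L) = A.T := by
  have : Fact (Nat.Prime 2) := ⟨Nat.prime_two⟩
  exact ⟨A.isPGroup_T.toSylow A.T_index, rfl⟩

/-- **Every noncentral involution is `x₀₂(1) z^k` for some coordinates.** -/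
theorem exists_t [Finite L] (A : Cov L) {t : L} (h2 : t * t = 1) (h1 : t ≠ 1) (hz : t ≠ A.z) :
    ∃ (B : Cov L) (k : Bool), t = B.el ⟨0, 0, 1, k⟩ := by
  obtain ⟨m, k, hm⟩ := A.inv_conj h2 h1 hz (c := 1) (by decide)
  refine ⟨cjc A m, k, ?_⟩
  rw [cjc_el]
  have h3 : A.el ⟨0, 0, 1, k⟩ = A.x 0 2 1 * A.s k := by
    rw [A.el_eq]
    show A.x 0 1 0 * A.x 1 2 0 * A.x 0 2 1 * A.s k = _
    rw [A.x_zero 0 1 (by decide), A.x_zero 1 2 (by decide), one_mul, one_mul]
  rw [h3, ← hm]; group

end Cfsg.Agent.UGT.I34.Two.KS
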