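import Cfsg.Agent.UGT.I34.Two.Defs

/-!
# Step 1 of [B], the end: two commuting subgroups of order at least 64 acting faithfully

`exists_ne` : a subgroup `R` of order at least 64 of `P` centralises no element of `P - Z`.
`exists_elem` : `R` contains an elementary abelian subgroup of order at least 16, not contained in `Z`,
if `R` has no elementary abelian subgroup of order 32.
`false_of_two` : the contradiction of Step 1.
-/

set_option autoImplicit false

open Subgroup
open scoped commutatorElement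

namespace Cfsg.Agent.UGT.I34.Two.Rank

section loc

variable {K : Type*} [Group K] {z t : K} {P Z : Subgroup K}

theorem z_mem_Z (h : Loc K z t P Z) : z ∈ Z := by
  have h1 : ⁅P, P⁆ ≤ Z := commutator_le.mpr fun x hx y hy => h.comm x hx y hy
  exact h1 h.z_mem

/-- `y ↦ [x, y]` is a homomorphism on `P`. -/
def cm (h : Loc K z t P Z) (x : K) (hx : x ∈ P) : ↥P →* K where
  toFun y := ⁅x, (y : K)⁆
  map_one' := by simp
  map_mul' a b := by
    have h1 := (h.mem_Z _).1 (h.comm x hx b b.2)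
    have h2 : ⁅x, (b : K)⁆ * (a : K) = a * ⁅x, (b : K)⁆ := h1.2 a a.2
    have h3 : ⁅x, ((a * b : ↥P) : K)⁆ = ⁅x, (a : K)⁆ * ((a : K) * ⁅x, (b : K)⁆ * (a : K)⁻¹) := by
      simp only [commutatorElement_def, Subgroup.coe_mul]
      group
    rw [h3, ← h2, mul_inv_cancel_right]

theorem cm_apply (h : Loc K z t P Z) (x : K) (hx : x ∈ P) (y : ↥P) : cm h x hx y = ⁅x, (y : K)⁆ := rfl

variable [Finite K]

/-- a subgroup of order at least 64 of `P` centralises no element of `P - Z` -/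
theorem exists_ne (h : Loc K z t P Z) {R : Subgroup K} (hR : R ≤ P) (h64 : 64 ≤ Nat.card R) {x : K}
    (hx : x ∈ P) (hxZ : x ∉ Z) : ∃ y ∈ R, x * y ≠ y * x := by
  by_contra hcon
  push Not at hcon
  set f := cm h x hx with hf
  -- `R` lies in the kernel
  have h1 : R.subgroupOf P ≤ f.ker := by
    intro y hy
    rw [mem_subgroupOf] at hy
    rw [MonoidHom.mem_ker, hf, cm_apply, commutatorElement_eq_one_iff_mul_comm]
    exact hcon _ hy
  have h2 : 64 ≤ Nat.card f.ker := by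
    calc 64 ≤ Nat.card R := h64
      _ = Nat.card (R.subgroupOf P) := (Nat.card_congr (subgroupOfEquivOfLe hR).toEquiv).symm
      _ ≤ Nat.card f.ker := Nat.card_le_card_of_injective _ (inclusion_injective h1)
  have h3 : Nat.card f.range * Nat.card f.ker = 128 := by
    rw [← h.card_P, ← Subgroup.index_ker, mul_comm, Subgroup.card_mul_index]
  have h4 : Nat.card f.range ≤ 2 := by
    by_contra h5
    have h6 : 3 * 64 ≤ Nat.card f.range * Nat.card f.ker := Nat.mul_le_mul (by omega) h2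
    omega
  -- `Z` is covered by two translates of the range
  have h5 : (Z : Set K) ⊆ (f.range : Set K) ∪ (fun w => w * z) '' (f.range : Set K) := by
    intro w hw
    obtain ⟨y, hy, h7 | h7⟩ := h.surj x hx hxZ w hw
    · exact Or.inl ⟨⟨y, hy⟩, h7⟩
    · refine Or.inr ⟨⁅x, y⁆, ⟨⟨y, hy⟩, rfl⟩, ?_⟩
      have h8 : z * z = 1 := h.sq_Z z (z_mem_Z h)
      simp only [h7, mul_assoc, h8, mul_one]
  have h6 : Nat.card Z ≤ 4 := by
    have e1 : Nat.card Z = (Z : Set K).ncard := rfl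
    have e2 : Nat.card f.range = (f.range : Set K).ncard := rfl
    rw [e1]
    calc (Z : Set K).ncard ≤ _ := Set.ncard_le_ncard h5 (Set.toFinite _)
      _ ≤ _ := Set.ncard_union_le _ _
      _ ≤ (f.range : Set K).ncard + (f.range : Set K).ncard := by
          exact Nat.add_le_add_left (Set.ncard_image_le (Set.toFinite _)) _
      _ ≤ 4 := by omega
  rw [h.card_Z] at h6
  omega

omit [Finite K] in
theorem card_inf_ge (h : Loc K z t P Z) {R A : Subgroup K} (hR : R ≤ P) (h64 : 64 ≤ Nat.card R)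
    (hA : A ≤ P) (h32 : Nat.card A = 32) : 16 ≤ Nat.card ↥(R ⊓ A) := by
  have h1 : R.relIndex P * Nat.card R = 128 := by
    rw [← h.card_P, mul_comm, ← Subgroup.relIndex_bot_left, ← Subgroup.relIndex_bot_left]
    exact Subgroup.relIndex_mul_relIndex _ _ _ bot_le hR
  have h2 : R.relIndex P ≤ 2 := by
    by_contra h5
    have h6 : 3 * 64 ≤ R.relIndex P * Nat.card R := Nat.mul_le_mul (by omega) h64
    omega
  have h3 : R.relIndex A ≤ R.relIndex P := by
    refine relIndex_le_of_le_right hA ?_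
    intro h0
    rw [h0] at h1
    omega
  have h4 : (R ⊓ A).relIndex A * Nat.card ↥(R ⊓ A) = 32 := by
    rw [← h32, mul_comm, ← Subgroup.relIndex_bot_left, ← Subgroup.relIndex_bot_left]
    exact Subgroup.relIndex_mul_relIndex _ _ _ bot_le inf_le_right
  rw [inf_relIndex_right] at h4
  by_contra h5
  have h6 : R.relIndex A * Nat.card ↥(R ⊓ A) ≤ 2 * 15 := Nat.mul_le_mul (by omega) (by omega)
  omega

theorem exists_elem (h : Loc K z t P Z) {R : Subgroup K} (hR : R ≤ P) (h64 : 64 ≤ Nat.card R) :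
    ∃ W ≤ R, (∀ a ∈ W, a * a = 1) ∧ 16 ≤ Nat.card W ∧ ∃ w ∈ W, w ∉ Z := by
  obtain ⟨A, -, hA, -, -, -, h32, -, hsq, -⟩ := h.ab
  refine ⟨R ⊓ A, inf_le_left, fun a ha => hsq a ha.2, card_inf_ge h hR h64 hA h32, ?_⟩
  by_contra hcon
  push Not at hcon
  have h1 : R ⊓ A ≤ Z := hcon
  have h2 : Nat.card ↥(R ⊓ A) ≤ Nat.card Z := Nat.card_le_card_of_injective _ (inclusion_injective h1)
  have h3 := card_inf_ge h hR h64 hA h32
  rw [h.card_Z] at h2
  omega

end loc

/-- the preimage in `S₁` of an elementary abelian subgroup -/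
theorem exists_pre {S : Type*} [Group S] {S1 : Subgroup S} {K1 : Type*} [Group K1] [Finite K1]
    {z1 t1 : K1} {P1 Z1 : Subgroup K1} (L1 : Loc K1 z1 t1 P1 Z1) (ι1 : ↥S1 →* K1)
    (hι1 : Function.Injective ι1) (hP1 : ι1.range ≤ P1) (h64 : 64 ≤ Nat.card ι1.range) :
    ∃ W ≤ S1, (∀ a ∈ W, a * a = 1) ∧ 16 ≤ Nat.card W ∧ ∃ w ∈ W, ∃ y ∈ S1, w * y ≠ y * w := by
  obtain ⟨W, hW, hsq, h16, w, hw, hwZ⟩ := exists_elem L1 hP1 h64
  obtain ⟨y, hy, hne⟩ := exists_ne L1 hP1 h64 (hP1 (hW hw)) hwZ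
  obtain ⟨w0, rfl⟩ := hW hw
  obtain ⟨y0, rfl⟩ := hy
  refine ⟨(W.comap ι1).map S1.subtype, ?_, ?_, ?_, w0, ⟨w0, hw, rfl⟩, y0, y0.2, ?_⟩
  · rintro _ ⟨a, -, rfl⟩
    exact a.2
  · rintro _ ⟨a, ha, rfl⟩
    have h1 := hsq _ ha
    rw [← map_mul, ← map_one ι1] at h1
    exact congrArg Subtype.val (hι1 h1)
  · have e1 : Nat.card ↥((W.comap ι1).map S1.subtype) = Nat.card ↥(W.comap ι1) :=
      (Nat.card_congr ((W.comap ι1).equivMapOfInjective _ S1.subtype_injective).toEquiv).symm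
    have e2 : Nat.card ↥(W.comap ι1) = Nat.card ↥((W.comap ι1).map ι1) :=
      Nat.card_congr ((W.comap ι1).equivMapOfInjective _ hι1).toEquiv
    rw [e1, e2, map_comap_eq, inf_eq_right.mpr hW]
    exact h16
  · intro h1
    apply hne
    rw [← map_mul, ← map_mul]
    congr 1
    exact Subtype.ext h1

/-- **The end of Step 1**: two commuting subgroups `S₁, S₂` of a group `S`, faithful on `K`, embedded with
order at least 64 in the centralisers `P₁, P₂` of noncentral involutions. -/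
theorem false_of_two {S : Type*} [Group S] {S1 S2 : Subgroup S} (hc : ∀ x ∈ S1, ∀ y ∈ S2, x * y = y * x)
    {K : Type*} [Group K] {z : K} (hK : KF K z) (ρ : S →* MulAut K) [Finite K]
    (inj1 : ∀ x ∈ S1, ρ x = 1 → x = 1) (inj2 : ∀ x ∈ S2, ρ x = 1 → x = 1)
    {K1 K2 : Type*} [Group K1] [Group K2] [Finite K1] [Finite K2] {z1 t1 : K1} {z2 t2 : K2}
    {P1 Z1 : Subgroup K1} {P2 Z2 : Subgroup K2} (L1 : Loc K1 z1 t1 P1 Z1) (L2 : Loc K2 z2 t2 P2 Z2)
    (ι1 : ↥S1 →* K1) (ι2 : ↥S2 →* K2) (hι1 : Function.Injective ι1) (hι2 : Function.Injective ι2)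
    (hP1 : ι1.range ≤ P1) (hP2 : ι2.range ≤ P2) (h1 : 64 ≤ Nat.card ι1.range)
    (h2 : 64 ≤ Nat.card ι2.range) : False := by
  obtain ⟨W1, hW1, sq1, c1, w, hw, y, hy, hne⟩ := exists_pre L1 ι1 hι1 hP1 h1
  obtain ⟨W2, hW2, sq2, c2, -⟩ := exists_pre L2 ι2 hι2 hP2 h2
  have hfin : Finite (MulAut K) := Finite.of_injective (fun e : MulAut K => (e : K → K))
    DFunLike.coe_injective
  -- the images have order at least 16
  have img : ∀ (W S' : Subgroup S), W ≤ S' → (∀ x ∈ S', ρ x = 1 → x = 1) → 16 ≤ Nat.card W →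
      16 ≤ Nat.card ↥(W.map ρ) := by
    intro W S' hW hinj hc
    have hi : Function.Injective (ρ.comp W.subtype) := by
      rw [injective_iff_map_eq_one]
      intro a ha
      exact Subtype.ext (hinj a (hW a.2) ha)
    have e : Nat.card ↥(W.map ρ) = Nat.card ↥W := by
      have e0 : W.map ρ = (ρ.comp W.subtype).range := by
        rw [MonoidHom.range_comp, range_subtype]
      rw [e0]
      exact (Nat.card_congr (MonoidHom.ofInjective hi).toEquiv).symm
    rw [e]
    exact hc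
  have i1 := img W1 S1 hW1 inj1 c1
  have i2 := img W2 S2 hW2 inj2 c2
  -- the product
  have hcomm : ∀ a ∈ W1.map ρ, ∀ b ∈ W2.map ρ, a * b = b * a := by
    rintro _ ⟨a, ha, rfl⟩ _ ⟨b, hb, rfl⟩
    rw [← map_mul, ← map_mul, hc a (hW1 ha) b (hW2 hb)]
  have hsup : ∀ a ∈ W1.map ρ ⊔ W2.map ρ, a * a = 1 := by
    have hle : W2.map ρ ≤ normalizer (W1.map ρ : Set (MulAut K)) := by
      intro b hb
      rw [mem_normalizer_iff]
      intro a
      constructor
      · intro ha
        rw [← hcomm a ha b hb, mul_inv_cancel_right]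
        exact ha
      · intro ha
        have h3 := hcomm _ ha b hb
        have h4 : b * a * b⁻¹ = a := by
          have h5 : b * a * b⁻¹ * b = b * (b * a * b⁻¹) := h3
          rw [inv_mul_cancel_right] at h5
          exact (mul_left_cancel h5).symm
        rwa [h4] at ha
    intro a ha
    rw [sup_comm, ← SetLike.mem_coe, coe_mul_of_left_le_normalizer_right _ _ hle] at ha
    obtain ⟨c, hc', b, hb, rfl⟩ := ha
    obtain ⟨b0, hb0, rfl⟩ := hb
    obtain ⟨c0, hc0, rfl⟩ := hc'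
    have h3 := sq1 b0 hb0
    have h4 := sq2 c0 hc0
    have h5 := hc b0 (hW1 hb0) c0 (hW2 hc0)
    have h6 : b0 * c0 * (b0 * c0) = 1 := by
      calc b0 * c0 * (b0 * c0) = b0 * (c0 * b0) * c0 := by group
        _ = b0 * (b0 * c0) * c0 := by rw [h5]
        _ = (b0 * b0) * (c0 * c0) := by group
        _ = 1 := by rw [h3, h4, one_mul]
    show ρ c0 * ρ b0 * (ρ c0 * ρ b0) = 1
    rw [← map_mul, ← h5, ← map_mul, h6, map_one]
  have hcard := hK.rank _ hsup
  have e1 : W1.map ρ = W1.map ρ ⊔ W2.map ρ :=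
    eq_of_le_of_card_ge le_sup_left (hcard.trans i1)
  have e2 : W2.map ρ = W1.map ρ ⊔ W2.map ρ :=
    eq_of_le_of_card_ge le_sup_right (hcard.trans i2)
  have h3 : ρ w ∈ W2.map ρ := by
    rw [e2, ← e1]
    exact ⟨w, hw, rfl⟩
  obtain ⟨w', hw', h4⟩ := h3
  apply hne
  have h5 : ρ (w * y) = ρ (y * w) := by
    rw [map_mul, map_mul, ← h4, ← map_mul, ← map_mul, hc y hy w' (hW2 hw')]
  have h6 : w * y * (y * w)⁻¹ = 1 := by
    apply inj1
    · exact mul_mem (mul_mem (hW1 hw) hy) (inv_mem (mul_mem hy (hW1 hw)))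
    · rw [map_mul, map_inv, h5, mul_inv_cancel]
  exact mul_inv_eq_one.1 h6

end Cfsg.Agent.UGT.I34.Two.Rank
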