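import Cfsg.Agent.UGT.I34.Two.Basic

/-!
# Step 1 (i), (ii): if `v` moves `X ∈ Ω_u`, then `u` moves all `Y ∈ Ω_v`, the diagonals coincide, and `|Ω_v| = 2`
-/

set_option autoImplicit false

open Cfsg Subgroup
open Cfsg.Agent.SignalizersComponents
open Cfsg.Agent.SignalizersComponents.IntrinsicBasic
open Cfsg.Agent.Intrinsic
open Cfsg.Agent.Intrinsic.Basic hiding IsPair PQS Target
open Cfsg.Agent.Intrinsic.Cen hiding pair_comm pair_mem_cen exists_pump pump_unique
open Cfsg.Agent.Intrinsic.Quot hiding Big isPair_quot small_or_big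
open Cfsg.Agent.Intrinsic.Diag
open Cfsg.Agent.Intrinsic.WZero (fixes_of_comm fixSub mem_fixSub mem_cent inv_eq)
open Cfsg.Agent.UGT.I34 Cfsg.Agent.UGT.I34.Pair
open Cfsg.Agent.McLLyComp.Act
open Cfsg.Agent.ONType.Psl (PSL3)
open scoped commutatorElement

namespace Cfsg.Agent.UGT.I34.Two

universe u

variable {G : Type u} [Group G] [Finite G] {u v : G} {X Y : Subgroup G}

theorem conj_eq_one_iff {K : Type*} [Group K] (x : K) : MulAut.conj x = 1 ↔ x ∈ center K := by
  rw [mem_center_iff]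
  constructor
  · intro h y
    have h1 := DFunLike.congr_fun h y
    rw [MulAut.conj_apply, MulAut.one_apply] at h1
    calc y * x = x * y * x⁻¹ * x := by rw [h1]
      _ = x * y := by group
  · intro h
    apply MulEquiv.ext
    intro y
    rw [MulAut.conj_apply, MulAut.one_apply, ← h y, mul_inv_cancel_right]

/-- involutions of the diagonal -/
theorem Env.diag_elem (E : Env G) (hX : IsPair two u X) (hv2 : v * v = 1) (huv : u * v = v * u)
    (hmove : cj v X ≠ X) {s : G} (hs : s ∈ diag (centralizer ({u} : Set G)) X v) (hs2 : s * s = 1)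
    (hs1 : s ≠ 1) : ∃ x, ∃ hx : x ∈ X, s⁻¹ * (x * (v * x * v⁻¹)) ∈ core (centralizer ({u} : Set G)) ∧
      x * x ∈ core X ∧ (QuotientGroup.mk ⟨x, hx⟩ : Bar X) ∉ center (Bar X) ∧
      ∃ hsX : s ∈ normalizer (X : Set G), act X ⟨s, hsX⟩ = MulAut.conj (QuotientGroup.mk ⟨x, hx⟩) := by
  have hvH : v ∈ centralizer ({u} : Set G) := mem_c huv.symm
  have huH : u ∈ centralizer ({u} : Set G) := mem_c rfl
  obtain ⟨hE, h2, -, -⟩ := exists_diag hX.comp hvH hv2 hmove
  obtain ⟨x, hx, hmk⟩ := h2 s hs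
  have hsH : s ∈ centralizer ({u} : Set G) := (hE.le hs).1
  have hf := fixes_inv_mul hX.comp hvH hmove hx hsH hmk
  have hsX : s ∈ normalizer (X : Set G) := by
    have := mul_mem (le_normalizer hx) hf.1
    rwa [mul_inv_cancel_left] at this
  have hact : act X ⟨s, hsX⟩ = MulAut.conj (QuotientGroup.mk ⟨x, hx⟩) := by
    have h3 := (act_eq_one_iff hf.1).mpr hf
    have h4 := act_mul (le_normalizer hx) hf.1
    rw [h3, mul_one, act_of_mem hx] at h4
    rw [← h4]
    exact act_congr hsX (by group)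
  obtain ⟨t, ht⟩ : ∃ t, t = (QuotientGroup.mk ⟨x, hx⟩ : Bar X) := ⟨_, rfl⟩
  have hz := E.kf_pair hX
  have htt : t * t ∈ center (Bar X) := by
    rw [← conj_eq_one_iff, map_mul, ht, ← hact, ← act_mul hsX hsX, act_eq_one_iff, hs2]
    exact fixes_one X
  have hcX : ∀ c ∈ core X, ∀ h ∈ centralizer ({u} : Set G),
      h * c * h⁻¹ ∈ core (centralizer ({u} : Set G)) := fun c hc h hh =>
    conj_mem_core (le_normalizer hh) (hX.comp.core_le_core hc)
  have htc : t ∉ center (Bar X) := by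
    intro h
    have key : x * (v * x * v⁻¹) ∈ core (centralizer ({u} : Set G)) := by
      rcases (hz.mem_center t).mp h with h3 | h3
      · rw [ht, Quot.mk_eq_one_iff] at h3
        exact mul_mem (hX.comp.core_le_core h3) (hcX x h3 v hvH)
      · rw [ht, Quot.mk_eq_mk_iff'] at h3
        have h4 := inv_mem h3
        rw [mul_inv_rev, inv_inv] at h4
        -- `c = u⁻¹ x`
        have e1 : x * (v * x * v⁻¹) = (u * (u⁻¹ * x) * u⁻¹) * (v * (u⁻¹ * x) * v⁻¹) := by
          have hui : u⁻¹ = u := inv_eq_of_mul_eq_one_left hX.sq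
          have h5 : u⁻¹ * v * u⁻¹ = v := by
            rw [hui, huv, mul_assoc, hX.sq, mul_one]
          symm
          calc (u * (u⁻¹ * x) * u⁻¹) * (v * (u⁻¹ * x) * v⁻¹) = x * (u⁻¹ * v * u⁻¹) * x * v⁻¹ := by
                group
            _ = x * (v * x * v⁻¹) := by rw [h5]; group
        have h5 : u⁻¹ * x ∈ core X := by
          rw [show u⁻¹ * x = (x⁻¹ * u)⁻¹ by group]
          exact inv_mem h3
        rw [e1]
        exact mul_mem (hcX _ h5 u huH) (hcX _ h5 v hvH)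
    apply hs1
    apply eq_one_of_mem_core_sq _ hs2 (K := centralizer ({u} : Set G))
    have h3 := mul_mem key (inv_mem hmk)
    have e : x * (v * x * v⁻¹) * (s⁻¹ * (x * (v * x * v⁻¹)))⁻¹ = s := by group
    rwa [e] at h3
  refine ⟨x, hx, hmk, ?_, ht ▸ htc, hsX, hact⟩
  have h5 := hz.lift t htt htc
  rw [ht] at h5
  exact (Quot.mk_eq_one_iff (mul_mem hx hx)).mp h5

theorem Env.diag_not_fixes (E : Env G) (hX : IsPair two u X) (hY : IsPair two v Y)
    (huv : u * v = v * u) (hmove : cj v X ≠ X) {s : G}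
    (hs : s ∈ diag (centralizer ({u} : Set G)) X v) (hs2 : s * s = 1) (hs1 : s ≠ 1) :
    ¬ Fixes s Y := by
  intro hsY
  have hvH : v ∈ centralizer ({u} : Set G) := mem_c huv.symm
  obtain ⟨x, hx, hmk, hxx, hxc, hsX, hact⟩ := E.diag_elem hX hY.sq huv hmove hs hs2 hs1
  obtain ⟨hE, -⟩ := exists_diag hX.comp hvH hY.sq hmove
  obtain ⟨t, ht⟩ : ∃ t, t = (QuotientGroup.mk ⟨x, hx⟩ : Bar X) := ⟨_, rfl⟩
  rw [← ht] at hxc hact
  have hz := E.kf_pair hX
  have htt : t * t = 1 := by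
    rw [ht]; exact (Quot.mk_eq_one_iff (mul_mem hx hx)).mpr hxx
  obtain ⟨P, Z, hL⟩ := hz.loc t htt hxc
  obtain ⟨p, hpP, hpp⟩ := hL.four
  have hpt := (hL.mem_P p).mp hpP
  obtain ⟨q, hqX, hqs, hqp⟩ := lift_comm hs2 hsX p (by
    rw [hact, MulAut.conj_apply, ← hpt, mul_inv_cancel_right])
  have hsv : s * v = v * s := comm_c (hE.le hs).2
  obtain ⟨M, hM⟩ := E.key hY hs2 hs1 hsv hsY hqs
  obtain ⟨w, hw⟩ : ∃ w, w = v * (q * v * q⁻¹) := ⟨_, rfl⟩
  rw [← hw] at hM
  have hvi : v⁻¹ = v := inv_eq_of_mul_eq_one_left hY.sq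
  have hw' : w = (v * q * v⁻¹) * q⁻¹ := by rw [hw, hvi]; group
  have hg : Fixes (v * q * v⁻¹) X :=
    hX.comp.fixes_of_mem (isComp_cj_of_mem hX.comp hvH) (Ne.symm hmove) (conj_mem_cj hqX)
  have hwX : w ∈ normalizer (X : Set G) := by
    rw [hw']; exact mul_mem hg.1 (inv_mem (le_normalizer hqX))
  have hactw : act X ⟨w, hwX⟩ = (MulAut.conj p)⁻¹ := by
    have h1 := act_mul hg.1 (inv_mem (le_normalizer hqX))
    rw [(act_eq_one_iff hg.1).mpr hg, one_mul, act_inv (le_normalizer hqX), act_of_mem hqX, hqp] at h1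
    rw [← h1]
    exact act_congr hwX hw'
  have hp7 := pow_of_comm hz htt hxc hpt
  have h7 : w ^ 2 ^ 7 ∈ fixSub X := by
    rw [mem_fixSub, ← act_eq_one_iff (pow_mem hwX _)]
    have h1 : (⟨w ^ 2 ^ 7, pow_mem hwX _⟩ : ↥(normalizer (X : Set G))) = ⟨w, hwX⟩ ^ 2 ^ 7 := rfl
    rw [h1, map_pow, hactw, inv_pow, ← map_pow, hp7, map_one, inv_one]
  have h8 : w * w ∈ fixSub X := by
    apply mem_of_pow (odd_card_core M) hM (k := 6)
    rw [← pow_two, ← pow_mul, show 2 * 2 ^ 6 = 2 ^ 7 by norm_num]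
    exact h7
  rw [mem_fixSub, ← act_eq_one_iff (mul_mem hwX hwX), act_mul hwX hwX, hactw, ← mul_inv_rev,
    inv_eq_one, ← map_mul, conj_eq_one_iff] at h8
  exact hpp h8

/-- every 2-component contains an involution -/
theorem exists_inv {H K : Subgroup G} (hK : IsComp H K) : ∃ s ∈ K, s * s = 1 ∧ s ≠ 1 := by
  have : Fact (Nat.Prime 2) := ⟨Nat.prime_two⟩
  obtain ⟨s, hs⟩ := exists_prime_orderOf_dvd_card' 2 hK.even
  refine ⟨s, s.2, ?_, ?_⟩
  · have h1 : s * s = 1 := by rw [← pow_two, ← hs, pow_orderOf_eq_one]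
    exact congrArg Subtype.val h1
  · intro h
    have : s = 1 := Subtype.ext h
    rw [this, orderOf_one] at hs
    omega

/-- `u` normalizes `Y`, commutes with `J`, and `Y = J O(Y)`: then `u` fixes `Y` -/
theorem fixes_of_sup_comm {J : Subgroup G} (hs : J ⊔ core Y = Y) (huY : u ∈ normalizer (Y : Set G))
    (h : ∀ j ∈ J, u * j = j * u) : Fixes u Y := by
  have h1 := fixes_of_comm h
  exact (fixes_iff_of_sup hs h1.1 huY).mp h1

omit [Finite G] in
theorem lam_pair (hX : IsPair two u X) : Lam PSL3 X := hX.kind.quot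

/-- **Step 1 (i)** -/
theorem Env.diag_eq (E : Env G) (hX : IsPair two u X) (hY : IsPair two v Y)
    (huv : u * v = v * u) (hmove : cj v X ≠ X) : cj u Y ≠ Y ∧
      diag (centralizer ({u} : Set G)) X v = diag (centralizer ({v} : Set G)) Y u := by
  have hvH : v ∈ centralizer ({u} : Set G) := mem_c huv.symm
  have huH : u ∈ centralizer ({v} : Set G) := mem_c huv
  obtain ⟨hE, -⟩ := exists_diag hX.comp hvH hY.sq hmove
  have hlam := lam_diag hX.comp hvH hY.sq hmove (lam_pair hX)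
  obtain ⟨E0, hE0⟩ : ∃ E0, E0 = diag (centralizer ({u} : Set G)) X v := ⟨_, rfl⟩
  obtain ⟨s, hsE, hs2, hs1⟩ := exists_inv hE
  have hnf := E.diag_not_fixes hX hY huv hmove hsE hs2 hs1
  rw [← hE0] at hE hlam hsE ⊢
  have hE' : IsComp (centralizer ({v} : Set G) ⊓ centralizer ({u} : Set G)) E0 := by
    rw [inf_comm]; exact hE
  have hsv : s ∈ centralizer ({v} : Set G) := (hE.le hsE).2
  have hL2 := isComp_le_L2 huH hX.sq hE'
  by_cases h : cj u Y = Y
  · exfalso
    have huY := mem_normalizer_iff_cj.mpr h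
    rcases McLLyComp.PumpT.tc_le_or huH hX.sq hE'.tc hY.comp.tc huY with h1 | h1
    · have h2 := sup_of_lam hE hY.comp hlam (lam_pair hY) h1
      have h3 : Fixes u Y := fixes_of_sup_comm h2 huY fun j hj => (comm_c (hE.le hj).1).symm
      exact hmove (mem_normalizer_iff_cj.mp (typeZero_symm' hY hX huv.symm h3).1)
    · exact hnf ((hY.comp.fixes_iff hsv).mpr (h1 hsE))
  · refine ⟨h, ?_⟩
    by_contra hne
    obtain ⟨hE1, -, -, hcore, -⟩ := exists_diag hY.comp huH hX.sq h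
    apply hnf
    refine fixes_of_comm_diag hY.comp huH hX.sq h hsv (hY.comp.L2_le_normalizer (hL2 hsE))
      ((isComp_cj_of_mem hY.comp huH).L2_le_normalizer (hL2 hsE)) fun m hm => ?_
    have h1 := hE'.comm_le_core hE1 hne (commutator_mem_commutator hsE hm)
    have h2 := h1.2
    rw [hcore] at h2
    exact h2.2

/-- **Step 1 (ii)** -/
theorem Env.omega (E : Env G) (hX : IsPair two u X) (hY : IsPair two v Y)
    (huv : u * v = v * u) (hmove : cj v X ≠ X) {Y' : Subgroup G} (hY' : IsPair two v Y') :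
    Y' = Y ∨ Y' = cj u Y := by
  have huH : u ∈ centralizer ({v} : Set G) := mem_c huv
  obtain ⟨h1, h2⟩ := E.diag_eq hX hY huv hmove
  obtain ⟨h3, h4⟩ := E.diag_eq hX hY' huv hmove
  by_contra hne
  push Not at hne
  exact diag_ne hY.comp huH hX.sq h1 hY'.comp h3 hne.1 hne.2 (h4.symm.trans h2)

end Cfsg.Agent.UGT.I34.Two
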