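import Cfsg.Agent.Lib.SylowNormalInf

/-!
# Covering by a Sylow subgroup

`sylow_cover`: `S` a Sylow 2-subgroup of `L`, `N0 ≤ N` normal in `L`, `N / N0` a 2-group: every element of `N` is
congruent modulo `N0` to an element of `S ⊓ N`.
-/

set_option autoImplicit false

open Subgroup

namespace Cfsg.Agent.UGT.I34.Two

variable {G : Type*} [Group G] [Finite G]

/-- `S` a Sylow 2-subgroup of `L`, `N0 ≤ N` normal in `L`, `N / N0` a 2-group: every `n ∈ N` is congruent modulo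
`N0` to an element of `S ⊓ N`. -/
theorem sylow_cover {L S N N0 : Subgroup G} (hS2 : IsPGroup 2 ↥S)
    (hS : ¬ 2 ∣ S.relIndex L) (hNL : N ≤ L) (hN : ∀ l ∈ L, ∀ n ∈ N, l * n * l⁻¹ ∈ N)
    (hN0 : ∀ l ∈ L, ∀ n ∈ N0, l * n * l⁻¹ ∈ N0)
    (h2 : ∀ n ∈ N, ∃ k : ℕ, n ^ 2 ^ k ∈ N0) :
    ∀ n ∈ N, ∃ s ∈ S ⊓ N, s⁻¹ * n ∈ N0 ∧ n * s⁻¹ ∈ N0 := by
  intro n hn
  have : Fact (Nat.Prime 2) := ⟨Nat.prime_two⟩
  have hSp : IsPGroup 2 ↥(S.subgroupOf L) := hS2.comap_of_injective L.subtype L.subtype_injective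
  have hn1 : (N.subgroupOf L).Normal := ⟨fun x hx g => hN g g.2 x hx⟩
  have hn0 : (N0.subgroupOf L).Normal := ⟨fun x hx g => hN0 g g.2 x hx⟩
  have h := Lib.SylowNormalInf.le_sup_inf (hSp.toSylow hS) (N.subgroupOf L) (N0.subgroupOf L)
    (fun x hx => by
      obtain ⟨k, hk⟩ := h2 x hx
      exact ⟨k, hk⟩)
  have h3 : (⟨n, hNL hn⟩ : ↥L) ∈ N.subgroupOf L := hn
  obtain ⟨a, ha, s, hs, has⟩ := mem_sup_of_normal_left.mp (h h3)
  obtain ⟨hs1, hs2⟩ := hs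
  have hs1' : (s : G) ∈ S := hs1
  have hs2' : (s : G) ∈ N := hs2
  have ha' : (a : G) ∈ N0 := ha
  have has' : (a : G) * s = n := congrArg Subtype.val has
  refine ⟨s, ⟨hs1', hs2'⟩, ?_, ?_⟩
  · have h4 := hN0 (s : G)⁻¹ (L.inv_mem s.2) a ha'
    have h5 : (s : G)⁻¹ * n = (s : G)⁻¹ * a * (s : G)⁻¹⁻¹ := by
      rw [← has']; group
    rw [h5]; exact h4
  · rw [← has', mul_inv_cancel_right]
    exact ha'

/-- the version with `S` a Sylow subgroup of the whole group -/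
theorem sylow_cover_top (S : Sylow 2 G) {N N0 : Subgroup G} [N.Normal] [N0.Normal]
    (h2 : ∀ n ∈ N, ∃ k : ℕ, n ^ 2 ^ k ∈ N0) :
    ∀ n ∈ N, ∃ s ∈ (S : Subgroup G) ⊓ N, s⁻¹ * n ∈ N0 ∧ n * s⁻¹ ∈ N0 := by
  intro n hn
  have : Fact (Nat.Prime 2) := ⟨Nat.prime_two⟩
  refine sylow_cover (L := ⊤) S.isPGroup' ?_ le_top (fun l _ n hn => ?_)
    (fun l _ n hn => ?_) h2 n hn
  · rw [relIndex_top_right]
    exact S.not_dvd_index
  · exact Normal.conj_mem inferInstance n hn l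
  · exact Normal.conj_mem inferInstance n hn l

end Cfsg.Agent.UGT.I34.Two
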