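import Cfsg.Agent.UGT.I34.Two.StepOneA
import Cfsg.Agent.UGT.I34.Two.Rank
import Cfsg.Agent.UGT.I34.Two.Syl

/-!
# Step 1 (iii): type (2) does not occur
-/

set_option autoImplicit false

open Cfsg Subgroup
open Cfsg.Agent.SignalizersComponents
open Cfsg.Agent.SignalizersComponents.IntrinsicBasic
open Cfsg.Agent.Intrinsic
open Cfsg.Agent.Intrinsic.Basic hiding IsPair PQS Target
open Cfsg.Agent.Intrinsic.Cen hiding pair_comm pair_mem_cen exists_pump pump_unique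
open Cfsg.Agent.Intrinsic.Quot hiding Big isPair_quot small_or_big
open Cfsg.Agent.Intrinsic.Diag
open Cfsg.Agent.Intrinsic.WZero (fixes_of_comm fixSub mem_fixSub mem_cent inv_eq)
open Cfsg.Agent.UGT.I34 Cfsg.Agent.UGT.I34.Pair
open Cfsg.Agent.McLLyComp.Act
open scoped commutatorElement

namespace Cfsg.Agent.UGT.I34.Two

universe u

variable {G : Type u} [Group G] [Finite G]

omit [Finite G] in
/-- the image in `N / O(N)` of a subgroup of `N` commuting with `w` centralises `t` -/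
theorem mem_P_of_comm {N : Subgroup G} {z t : Bar N} {P Zc : Subgroup (Bar N)}
    (hL : Loc (Bar N) z t P Zc) {w : G} (hwN : w ∈ normalizer (N : Set G))
    (ht : act N ⟨w, hwN⟩ = MulAut.conj t) {a : G} (haN : a ∈ N) (haw : a * w = w * a) :
    (QuotientGroup.mk ⟨a, haN⟩ : Bar N) ∈ P := by
  rw [hL.mem_P]
  have h1 : act N ⟨w, hwN⟩ (QuotientGroup.mk ⟨a, haN⟩) = QuotientGroup.mk ⟨a, haN⟩ := by
    rw [act_mk hwN haN, Cfsg.Agent.McLLyComp.Act.mk_eq_iff]
    rw [← haw, mul_inv_cancel_right, inv_mul_cancel]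
    exact one_mem _
  rw [ht, MulAut.conj_apply] at h1
  obtain ⟨b, hb⟩ : ∃ b, b = (QuotientGroup.mk ⟨a, haN⟩ : Bar N) := ⟨_, rfl⟩
  rw [← hb] at h1 ⊢
  calc b * t = t * b * t⁻¹ * t := by rw [h1]
    _ = t * b := by group

/-- covering up to index two -/
theorem card_image {N : Subgroup G} {z t : Bar N} {P Zc : Subgroup (Bar N)}
    (hL : Loc (Bar N) z t P Zc) {w : G} (hw : w * w = 1) (hwN : w ∈ normalizer (N : Set G))
    (ht : act N ⟨w, hwN⟩ = MulAut.conj t) {L Z1 : Subgroup G}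
    (hC : ∀ a ∈ N, a * w = w * a → cj a Z1 = Z1 → a ∈ L)
    (hidx : ∀ a ∈ N, a * w = w * a → ∀ b ∈ N, b * w = w * b → cj a Z1 ≠ Z1 → cj b Z1 ≠ Z1 →
      cj a Z1 = cj b Z1) : 64 ≤ Nat.card (qs N L) := by
  classical
  have key : ∃ p0 : Bar N, ∀ p ∈ P, p ∈ qs N L ∨ p0⁻¹ * p ∈ qs N L := by
    by_cases hall : ∀ p ∈ P, p ∈ qs N L
    · exact ⟨1, fun p hp => Or.inl (hall p hp)⟩
    · push Not at hall
      obtain ⟨p0, hp0, hp0n⟩ := hall
      have hlift : ∀ p ∈ P, ∃ q, ∃ hq : q ∈ N, q * w = w * q ∧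
          (QuotientGroup.mk ⟨q, hq⟩ : Bar N) = p := by
        intro p hp
        apply lift_comm hw hwN p
        rw [ht, MulAut.conj_apply, ← (hL.mem_P p).mp hp, mul_inv_cancel_right]
      have hmem : ∀ q, ∀ hq : q ∈ N, q * w = w * q → cj q Z1 = Z1 →
          (QuotientGroup.mk ⟨q, hq⟩ : Bar N) ∈ qs N L := by
        intro q hq hqw hqZ
        rw [mem_qs hq]
        exact ⟨q, ⟨hC q hq hqw hqZ, hq⟩, by rw [inv_mul_cancel]; exact one_mem _⟩
      obtain ⟨q0, hq0, hq0w, hq0p⟩ := hlift p0 hp0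
      have h0 : cj q0 Z1 ≠ Z1 := by
        intro h
        apply hp0n
        rw [← hq0p]
        exact hmem q0 hq0 hq0w h
      refine ⟨p0, fun p hp => ?_⟩
      obtain ⟨q, hq, hqw, hqp⟩ := hlift p hp
      by_cases h : cj q Z1 = Z1
      · left
        rw [← hqp]
        exact hmem q hq hqw h
      · right
        have h1 := hidx q0 hq0 hq0w q hq hqw h0 h
        have hc : (q0⁻¹ * q) * w = w * (q0⁻¹ * q) := by
          have e : q0⁻¹ * w = w * q0⁻¹ := by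
            calc q0⁻¹ * w = q0⁻¹ * (w * q0) * q0⁻¹ := by group
              _ = w * q0⁻¹ := by rw [← hq0w]; group
          rw [mul_assoc, hqw, ← mul_assoc, e, mul_assoc]
        have h2 : cj (q0⁻¹ * q) Z1 = Z1 := by
          rw [cj_mul, ← h1, ← cj_mul, inv_mul_cancel, cj_one]
        have h3 := hmem (q0⁻¹ * q) (mul_mem (inv_mem hq0) hq) hc h2
        rw [← hqp, ← hq0p]
        exact h3
  obtain ⟨p0, hp0⟩ := key
  obtain ⟨R, hR⟩ : ∃ R, R = qs N L := ⟨_, rfl⟩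
  rw [← hR] at hp0 ⊢
  have h1 : (P : Set (Bar N)) ⊆ (R : Set (Bar N)) ∪ (fun r => p0 * r) '' (R : Set (Bar N)) := by
    intro p hp
    rcases hp0 p hp with h | h
    · exact Or.inl h
    · exact Or.inr ⟨_, h, mul_inv_cancel_left _ _⟩
  have h2 := Set.ncard_le_ncard h1 (Set.toFinite _)
  have h3 := Set.ncard_union_le (R : Set (Bar N)) ((fun r => p0 * r) '' (R : Set (Bar N)))
  have h4 : ((fun r => p0 * r) '' (R : Set (Bar N))).ncard ≤ (R : Set (Bar N)).ncard :=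
    Set.ncard_image_le (Set.toFinite _)
  have h5 : (P : Set (Bar N)).ncard = 128 := by
    rw [← Nat.card_coe_set_eq]; exact hL.card_P
  have h6 : (R : Set (Bar N)).ncard = Nat.card R := (Nat.card_coe_set_eq _).symm
  omega

omit [Finite G] in
/-- nontrivial 2-elements have an involution as a power -/
theorem exists_inv_pow {x : G} {n : ℕ} (hx : x ^ 2 ^ n = 1) (hx1 : x ≠ 1) :
    ∃ k : ℕ, x ^ k * x ^ k = 1 ∧ x ^ k ≠ 1 := by
  induction n generalizing x with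
  | zero => rw [pow_zero, pow_one] at hx; exact absurd hx hx1
  | succ n ih =>
    by_cases h : x ^ 2 = 1
    · exact ⟨1, by rw [pow_one, ← pow_two, h], by rwa [pow_one]⟩
    · obtain ⟨k, h1, h2⟩ := ih (x := x ^ 2) (by rw [← pow_mul, ← pow_succ', hx]) h
      rw [← pow_mul] at h1 h2
      exact ⟨2 * k, h1, h2⟩

/-- a Sylow 2-subgroup of `L`, as a subgroup of `G` -/
theorem exists_syl (L : Subgroup G) : ∃ S : Subgroup G, S ≤ L ∧ IsPGroup 2 ↥S ∧ ¬ 2 ∣ S.relIndex L := by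
  have : Fact (Nat.Prime 2) := ⟨Nat.prime_two⟩
  obtain ⟨T⟩ : Nonempty (Sylow 2 ↥L) := inferInstance
  refine ⟨(T : Subgroup ↥L).map L.subtype, map_subtype_le _, T.isPGroup'.map _, ?_⟩
  rw [relIndex, subgroupOf, comap_map_eq_self_of_injective L.subtype_injective]
  exact T.not_dvd_index

/-- the action of a Sylow subgroup of `C(v, w) ∩ N(Z₁)` -/
theorem Env.side (E : Env G) {v w : G} {N N' Z1 : Subgroup G} (hN : IsPair two v N)
    (hN' : IsPair two v N') (hne : N' ≠ N) (hZ : IsPair two w Z1) (hvw : v * w = w * v)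
    (hwN : w ∈ normalizer (N : Set G)) {t : Bar N} (ht : act N ⟨w, hwN⟩ = MulAut.conj t)
    (htt : t * t = 1) (htc : t ∉ center (Bar N)) (hfN' : ¬ Fixes w N') {S L0 : Subgroup G}
    (hL0 : ∀ x, x ∈ L0 ↔ x * v = v * x ∧ x * w = w * x ∧ x ∈ normalizer (Z1 : Set G) ∧
      x ∈ normalizer (N : Set G) ∧ x ∈ normalizer (N' : Set G))
    (hSL : S ≤ L0) (hS2 : IsPGroup 2 ↥S) (hS : ¬ 2 ∣ S.relIndex L0)
    (hidx : ∀ a ∈ N, a * w = w * a → ∀ b ∈ N, b * w = w * b → cj a Z1 ≠ Z1 → cj b Z1 ≠ Z1 →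
      cj a Z1 = cj b Z1) :
    (∃ (z t : Bar N) (P Zc : Subgroup (Bar N)), Loc (Bar N) z t P Zc ∧
      ∃ ι : ↥(N.subgroupOf S) →* Bar N, Function.Injective ι ∧ ι.range ≤ P ∧
        64 ≤ Nat.card ι.range) ∧ ∀ x ∈ S, x ∈ N → Fixes x Z1 → x = 1 := by
  have hz := E.kf_pair hN
  obtain ⟨P, Zc, hL⟩ := hz.loc t htt htc
  obtain ⟨LN, hLN⟩ : ∃ LN, LN = N ⊓ centralizer ({w} : Set G) ⊓ normalizer (Z1 : Set G) := ⟨_, rfl⟩
  have memLN : ∀ x, x ∈ LN ↔ x ∈ N ∧ x * w = w * x ∧ x ∈ normalizer (Z1 : Set G) := by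
    intro x
    rw [hLN, mem_inf, mem_inf, mem_centralizer_singleton_iff, and_assoc]
  have hNv : ∀ x ∈ N, x * v = v * x := fun x hx => pair_comm hN hx
  have hNN' : N ≤ normalizer (N' : Set G) := hN.comp.le_L2.trans hN'.comp.L2_le_normalizer
  have hLNL0 : LN ≤ L0 := by
    intro x hx
    obtain ⟨h1, h2, h3⟩ := (memLN x).mp hx
    exact (hL0 x).mpr ⟨hNv x h1, h2, h3, le_normalizer h1, hNN' h1⟩
  have h64 : 64 ≤ Nat.card (qs N LN) := card_image hL hZ.sq hwN ht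
    (fun a ha haw haZ => (memLN a).mpr ⟨ha, haw, mem_normalizer_iff_cj.mpr haZ⟩) hidx
  have hconj : ∀ l ∈ L0, ∀ n ∈ LN, l * n * l⁻¹ ∈ LN := by
    intro l hl n hn
    obtain ⟨-, h2, h3, h4, -⟩ := (hL0 l).mp hl
    obtain ⟨m1, m2, m3⟩ := (memLN n).mp hn
    refine (memLN _).mpr ⟨(mem_normalizer_iff.mp h4 n).mp m1, ?_, mul_mem (mul_mem h3 m3) (inv_mem h3)⟩
    exact comm_c (mul_mem (mul_mem (mem_c h2) (mem_c m2)) (inv_mem (mem_c h2)))
  have hcov : ∀ n ∈ LN, ∃ s ∈ S ⊓ LN, s⁻¹ * n ∈ LN ⊓ core N ∧ n * s⁻¹ ∈ LN ⊓ core N := by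
    refine sylow_cover hS2 hS hLNL0 hconj ?_ ?_
    · intro l hl n hn
      refine ⟨hconj l hl n hn.1, ?_⟩
      exact conj_mem_core ((hL0 l).mp hl).2.2.2.1 hn.2
    · intro n hn
      obtain ⟨m1, m2, -⟩ := (memLN n).mp hn
      refine ⟨7, pow_mem hn _, ?_⟩
      have h1 := pow_of_comm hz htt htc ((hL.mem_P _).mp (mem_P_of_comm hL hwN ht m1 m2))
      exact (Quot.mk_eq_one_iff (pow_mem m1 _)).mp h1
  have hpow : ∀ x ∈ S, ∃ k : ℕ, x ^ 2 ^ k = 1 := by
    intro x hx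
    obtain ⟨k, hk⟩ := hS2 ⟨x, hx⟩
    exact ⟨k, congrArg Subtype.val hk⟩
  refine ⟨⟨_, t, P, Zc, hL, ?_⟩, ?_⟩
  · have hmN : ∀ x : ↥(N.subgroupOf S), ((x : ↥S) : G) ∈ N := fun x => mem_subgroupOf.mp x.2
    let ι : ↥(N.subgroupOf S) →* Bar N :=
      { toFun := fun x => QuotientGroup.mk ⟨((x : ↥S) : G), hmN x⟩
        map_one' := rfl
        map_mul' := fun _ _ => rfl }
    have hι : ∀ (x : ↥(N.subgroupOf S)), ι x = QuotientGroup.mk ⟨((x : ↥S) : G), hmN x⟩ := fun _ => rfl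
    refine ⟨ι, ?_, ?_, ?_⟩
    · rw [injective_iff_map_eq_one]
      intro x hx
      rw [hι, Quot.mk_eq_one_iff] at hx
      obtain ⟨k, hk⟩ := hpow _ (x : ↥S).2
      exact Subtype.ext (Subtype.ext (eq_one_of_mem_core hx hk))
    · rintro _ ⟨x, rfl⟩
      rw [hι]
      exact mem_P_of_comm hL hwN ht (hmN x) ((hL0 _).mp (hSL (x : ↥S).2)).2.1
    · refine h64.trans (Nat.card_le_card_of_injective _ (inclusion_injective (?_ : qs N LN ≤ ι.range)))
      rintro _ ⟨n, hn, rfl⟩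
      obtain ⟨s, hs, hsn, -⟩ := hcov n hn
      have hsN : s ∈ N := ((memLN s).mp hs.2).1
      refine ⟨⟨⟨s, hs.1⟩, hsN⟩, ?_⟩
      rw [hι]
      exact (Quot.mk_eq_mk_iff' hsN n.2).mpr hsn.2
  · intro x hxS hxN hf
    by_contra hx1
    obtain ⟨k, hk⟩ := hpow x hxS
    obtain ⟨m, hm1, hm2⟩ := exists_inv_pow hk hx1
    have hfp : Fixes (x ^ m) Z1 := by
      have : x ^ m ∈ fixSub Z1 := pow_mem (mem_fixSub.mpr hf) m
      exact this
    obtain ⟨g1, g2, -⟩ := (hL0 _).mp (hSL (pow_mem hxS m))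
    exact E.not_both hN' hZ hvw hfN' hm1 hm2 g1 g2
      (hN'.comp.fixes_of_mem hN.comp hne (pow_mem hxN m)) hfp

/-- **Step 1.** -/
theorem Env.no_move (E : Env G) {u v : G} {X Y : Subgroup G} (hX : IsPair two u X)
    (hY : IsPair two v Y) (huv : u * v = v * u) : v ∈ normalizer (X : Set G) := by
  by_contra hn
  have hmove : cj v X ≠ X := fun h => hn (mem_normalizer_iff_cj.mpr h)
  have hvH : v ∈ centralizer ({u} : Set G) := mem_c huv.symm
  have huH : u ∈ centralizer ({v} : Set G) := mem_c huv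
  obtain ⟨hYm, hdiag⟩ := E.diag_eq hX hY huv hmove
  obtain ⟨hE, -⟩ := exists_diag hX.comp hvH hY.sq hmove
  obtain ⟨s, hsE, hs2, hs1⟩ := exists_inv hE
  obtain ⟨x, hx, hmk, hxx, -, -, -⟩ := E.diag_elem hX hY.sq huv hmove hsE hs2 hs1
  have hsu : s * u = u * s := comm_c (hE.le hsE).1
  have hsv : s * v = v * s := comm_c (hE.le hsE).2
  have hv2 := hY.sq
  have hvi : v⁻¹ = v := inv_eq_of_mul_eq_one_left hv2
  obtain ⟨w, hw⟩ : ∃ w, w = v * s := ⟨_, rfl⟩
  have hw2 : w * w = 1 := by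
    rw [hw]
    calc v * s * (v * s) = v * (s * v) * s := by group
      _ = (v * v) * (s * s) := by rw [hsv]; group
      _ = 1 := by rw [hv2, hs2, one_mul]
  have hvw : v * w = w * v := by rw [hw, mul_assoc, hsv]
  have hwu : w * u = u * w := by rw [hw, mul_assoc, hsu, ← mul_assoc, ← huv, mul_assoc]
  -- `w` is conjugate to `v`
  obtain ⟨g, hg⟩ : ∃ g, g * v * g⁻¹ = w := by
    have hxC : x ∈ centralizer ({u} : Set G) := hX.comp.le hx
    have hcong : (x * v * x⁻¹)⁻¹ * w ∈ core (centralizer ({u} : Set G)) := by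
      have hK' : IsComp (centralizer ({u} : Set G)) (cj v X) := isComp_cj_of_mem hX.comp hvH
      have h1 : ⁅x⁻¹, (v * x * v⁻¹)⁻¹⁆ ∈ core (centralizer ({u} : Set G)) :=
        hX.comp.core_le_core (hX.comp.comm_le_core hK' (Ne.symm hmove)
          (commutator_mem_commutator (inv_mem hx) (inv_mem (conj_mem_cj hx)))).1
      have h2 := hX.comp.core_le_core hxx
      have e : (x * v * x⁻¹)⁻¹ * w = (x * x) * ⁅x⁻¹, (v * x * v⁻¹)⁻¹⁆ *
          (s⁻¹ * (x * (v * x * v⁻¹)))⁻¹ := by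
        have e1 : (x * v * x⁻¹)⁻¹ * w = x * (v * x * v⁻¹)⁻¹ * s := by
          rw [hw, mul_inv_rev, mul_inv_rev, mul_inv_rev, mul_inv_rev, inv_inv, inv_inv, hvi]
          group
        rw [e1, commutatorElement_def]
        group
      rw [e]
      exact mul_mem (mul_mem h2 h1) (inv_mem hmk)
    obtain ⟨o, -, ho⟩ := Lifting.exists_conj_eq (odd_card_core (centralizer ({u} : Set G)))
      (v := x * v * x⁻¹) (v' := w) (n := 1) (m := 1)
      (by
        rw [pow_one, pow_two]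
        calc x * v * x⁻¹ * (x * v * x⁻¹) = x * (v * v) * x⁻¹ := by group
          _ = 1 := by rw [hv2]; group)
      (by rw [pow_one, pow_two, hw2])
      (le_normalizer_core _ (mul_mem (mul_mem hxC hvH) (inv_mem hxC))) hcong
    refine ⟨o * x, ?_⟩
    rw [← ho]; group
  have hw1 : w ≠ 1 := by
    intro h
    apply hY.ne_one
    calc v = g⁻¹ * (g * v * g⁻¹) * g := by group
      _ = 1 := by rw [hg, h]; group
  have hZ : IsPair two w (cj g Y) := by
    have := hY.cj g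
    rwa [hg] at this
  obtain ⟨Z1, hZ1⟩ : ∃ Z1, Z1 = cj g Y := ⟨_, rfl⟩
  rw [← hZ1] at hZ
  -- the two pairs over `v`
  have huvi : u * v * u⁻¹ = v := by rw [huv, mul_inv_cancel_right]
  have hY2 : IsPair two v (cj u Y) := by
    have := hY.cj u
    rwa [huvi] at this
  have hY2m : cj u (cj u Y) ≠ cj u Y := by
    rw [← cj_mul, hX.sq, cj_one]
    exact Ne.symm hYm
  have hfact : ∀ N : Subgroup G, IsPair two v N → ¬ Fixes w N ∧
      ∃ (hwN : w ∈ normalizer (N : Set G)) (t : Bar N), act N ⟨w, hwN⟩ = MulAut.conj t ∧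
        t * t = 1 ∧ t ∉ center (Bar N) := by
    intro N hN
    obtain ⟨hNm, hNd⟩ := E.diag_eq hX hN huv hmove
    obtain ⟨y, hy, -, hyy, hyc, hsN, hact⟩ := E.diag_elem hN hX.sq huv.symm hNm
      (hNd ▸ hsE) hs2 hs1
    have hwN : w ∈ normalizer (N : Set G) := by
      rw [hw]; exact mul_mem (le_normalizer hN.mem) hsN
    have hactw : act N ⟨w, hwN⟩ = MulAut.conj (QuotientGroup.mk ⟨y, hy⟩) := by
      have h1 := act_mul (le_normalizer hN.mem) hsN
      rw [(act_eq_one_iff (le_normalizer hN.mem)).mpr (fixes_self hN), one_mul, hact] at h1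
      rw [← h1]
      exact act_congr hwN hw
    refine ⟨?_, hwN, _, hactw, (Quot.mk_eq_one_iff (mul_mem hy hy)).mpr hyy, hyc⟩
    intro hf
    rw [← act_eq_one_iff hwN, hactw, conj_eq_one_iff] at hf
    exact hyc hf
  -- the pairs over `w`
  have homega : ∀ Z : Subgroup G, IsPair two w Z → Z = Z1 ∨ Z = cj g (cj u Y) := by
    intro Z hZp
    have h1 : IsPair two v (cj g⁻¹ Z) := by
      have := hZp.cj g⁻¹
      have e : g⁻¹ * w * g⁻¹⁻¹ = v := by rw [← hg]; group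
      rwa [e] at this
    rcases E.omega hX hY huv hmove h1 with h2 | h2
    · left; rw [hZ1, ← h2, cj_cj_inv]
    · right; rw [← h2, cj_cj_inv]
  have hidx : ∀ a : G, a * w = w * a → ∀ b : G, b * w = w * b → cj a Z1 ≠ Z1 → cj b Z1 ≠ Z1 →
      cj a Z1 = cj b Z1 := by
    have key : ∀ a : G, a * w = w * a → cj a Z1 ≠ Z1 → cj a Z1 = cj g (cj u Y) := by
      intro a ha hne
      have h1 : IsPair two w (cj a Z1) := by
        have := hZ.cj a
        rwa [ha, mul_inv_cancel_right] at this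
      exact (homega _ h1).resolve_left hne
    intro a ha b hb hna hnb
    rw [key a ha hna, key b hb hnb]
  -- the Sylow subgroup
  obtain ⟨L0, hL0⟩ : ∃ L0 : Subgroup G, ∀ x, x ∈ L0 ↔ x * v = v * x ∧ x * w = w * x ∧
      x ∈ normalizer (Z1 : Set G) ∧ x ∈ normalizer (Y : Set G) ∧ x ∈ normalizer (cj u Y : Set G) := by
    refine ⟨centralizer ({v} : Set G) ⊓ (centralizer ({w} : Set G) ⊓ (normalizer (Z1 : Set G) ⊓
      (normalizer (Y : Set G) ⊓ normalizer (cj u Y : Set G)))), fun x => ?_⟩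
    simp only [mem_inf, mem_centralizer_singleton_iff]
  obtain ⟨S, hSL, hS2, hS⟩ := exists_syl L0
  obtain ⟨hf1, hw1N, t1, ht1, htt1, htc1⟩ := hfact Y hY
  obtain ⟨hf2, hw2N, t2, ht2, htt2, htc2⟩ := hfact (cj u Y) hY2
  obtain ⟨⟨z1, t1', P1, Zc1, hLoc1, ι1, hι1, hP1, hc1⟩, hinj1⟩ := E.side hY hY2 hYm hZ hvw hw1N ht1
    htt1 htc1 hf2 hL0 hSL hS2 hS fun a _ ha b _ hb => hidx a ha b hb
  obtain ⟨⟨z2, t2', P2, Zc2, hLoc2, ι2, hι2, hP2, hc2⟩, hinj2⟩ := E.side hY2 hY (Ne.symm hYm) hZ hvw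
    hw2N ht2 htt2 htc2 hf1 (fun x => (hL0 x).trans (by tauto)) hSL hS2 hS
    fun a _ ha b _ hb => hidx a ha b hb
  have hSZ : S ≤ normalizer (Z1 : Set G) := fun x hx => ((hL0 x).mp (hSL hx)).2.2.1
  refine Rank.false_of_two (S1 := Y.subgroupOf S) (S2 := (cj u Y).subgroupOf S) ?_ (E.kf_pair hZ)
    ((act Z1).comp (inclusion hSZ)) ?_ ?_ hLoc1 hLoc2 ι1 ι2 hι1 hι2 hP1 hP2 hc1 hc2
  · intro a ha b hb
    have h1 : ⁅(a : G), (b : G)⁆ ∈ core Y :=
      (hY.comp.comm_le_core hY2.comp (Ne.symm hYm) (commutator_mem_commutator ha hb)).1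
    obtain ⟨k, hk⟩ := hS2 ⁅a, b⁆
    have h2 : ⁅(a : G), (b : G)⁆ ^ 2 ^ k = 1 := congrArg Subtype.val hk
    have h3 := eq_one_of_mem_core h1 h2
    apply Subtype.ext
    exact commutatorElement_eq_one_iff_mul_comm.mp h3
  · intro a ha h
    exact Subtype.ext (hinj1 a a.2 ha ((act_eq_one_iff (hSZ a.2)).mp h))
  · intro a ha h
    exact Subtype.ext (hinj2 a a.2 ha ((act_eq_one_iff (hSZ a.2)).mp h))

end Cfsg.Agent.UGT.I34.Two
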