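import Cfsg.Agent.UGT.I34.Two.StepOneB
import Cfsg.Agent.UGT.I34.Two.Half

/-!
# Step 2, part B: the configuration `Half`
-/

set_option autoImplicit false

open Cfsg Subgroup
open Cfsg.Agent.SignalizersComponents
open Cfsg.Agent.SignalizersComponents.IntrinsicBasic
open Cfsg.Agent.Intrinsic
open Cfsg.Agent.Intrinsic.Basic hiding IsPair PQS Target
open Cfsg.Agent.Intrinsic.Cen hiding pair_comm pair_mem_cen exists_pump pump_unique
open Cfsg.Agent.Intrinsic.Quot hiding Big isPair_quot small_or_big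
open Cfsg.Agent.Intrinsic.Diag
open Cfsg.Agent.Intrinsic.WZero (fixes_of_comm fixSub mem_fixSub mem_cent inv_eq)
open Cfsg.Agent.UGT.I34 Cfsg.Agent.UGT.I34.Pair
open Cfsg.Agent.McLLyComp.Act
open scoped commutatorElement

namespace Cfsg.Agent.UGT.I34.Two

universe u

variable {G : Type u} [Group G] [Finite G]

/-- a central involution of `L` lies in every Sylow 2-subgroup of `L` -/
theorem mem_syl {L S : Subgroup G} (hS2 : IsPGroup 2 ↥S) (hS : ¬ 2 ∣ S.relIndex L) {a : G}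
    (haL : a ∈ L) (ha : a * a = 1) (hac : ∀ l ∈ L, l * a = a * l) : a ∈ S := by
  have hz : ∀ n ∈ zpowers a, ∀ l ∈ L, l * n * l⁻¹ = n := by
    intro n hn l hl
    have h1 : n ∈ centralizer ({l} : Set G) := by
      have : zpowers a ≤ centralizer ({l} : Set G) := by
        rw [zpowers_le]; exact mem_c (hac l hl).symm
      exact this hn
    rw [← comm_c h1, mul_inv_cancel_right]
  obtain ⟨s, hs, hs', -⟩ := sylow_cover (N := zpowers a) (N0 := ⊥) hS2 hS (zpowers_le.mpr haL)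
    (fun l hl n hn => by rw [hz n hn l hl]; exact hn)
    (fun l _ n hn => by rw [mem_bot] at hn ⊢; rw [hn]; group)
    (fun n hn => ⟨1, by
      obtain ⟨k, rfl⟩ := hn
      rw [mem_bot, pow_one, ← zpow_natCast, ← zpow_mul, mul_comm, zpow_mul, zpow_natCast, pow_two,
        ha, one_zpow]⟩) a (mem_zpowers a)
  rw [mem_bot, inv_mul_eq_one] at hs'
  rw [← hs']
  exact hs.1

/-- one half of the configuration of Step 2 -/
theorem Env.half (E : Env G) {u v : G} {X Y : Subgroup G} (hX : IsPair two u X)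
    (hY : IsPair two v Y) (huv : u * v = v * u) (hv : v ∈ normalizer (X : Set G)) {t : Bar X}
    (ht : act X ⟨v, hv⟩ = MulAut.conj t) (htt : t * t = 1) (htc : t ∉ center (Bar X))
    (hnX : centralizer ({u} : Set G) ≤ normalizer (X : Set G)) {S : Subgroup G}
    (hSL : S ≤ centralizer ({u} : Set G) ⊓ centralizer ({v} : Set G)) (hS2 : IsPGroup 2 ↥S)
    (hS : ¬ 2 ∣ S.relIndex (centralizer ({u} : Set G) ⊓ centralizer ({v} : Set G)))
    (huS : u ∈ S) (hvS : v ∈ S) :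
    ∃ (z : Bar X) (P Zc : Subgroup (Bar X)) (ρ : ↥S →* MulAut (Bar X))
      (ι : ↥(X.subgroupOf S) →* Bar X),
      Half (⟨u, huS⟩ : ↥S) ⟨v, hvS⟩ (X.subgroupOf S) z t P Zc ρ ι ∧
      ∀ x : ↥S, ρ x = 1 → Fixes (x : G) X := by
  have hz := E.kf_pair hX
  obtain ⟨P, Zc, hL⟩ := hz.loc t htt htc
  have hSX : S ≤ normalizer (X : Set G) := fun x hx => hnX (hSL hx).1
  have hpow : ∀ x ∈ S, ∃ k : ℕ, x ^ 2 ^ k = 1 := by
    intro x hx
    obtain ⟨k, hk⟩ := hS2 ⟨x, hx⟩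
    exact ⟨k, congrArg Subtype.val hk⟩
  have hmX : ∀ x : ↥(X.subgroupOf S), ((x : ↥S) : G) ∈ X := fun x => mem_subgroupOf.mp x.2
  let ι : ↥(X.subgroupOf S) →* Bar X :=
    { toFun := fun x => QuotientGroup.mk ⟨((x : ↥S) : G), hmX x⟩
      map_one' := rfl
      map_mul' := fun _ _ => rfl }
  have hι : ∀ (x : ↥(X.subgroupOf S)), ι x = QuotientGroup.mk ⟨((x : ↥S) : G), hmX x⟩ :=
    fun _ => rfl
  let ρ : ↥S →* MulAut (Bar X) := (act X).comp (inclusion hSX)
  have hρ : ∀ x : ↥S, ρ x = act X ⟨x, hSX x.2⟩ := fun _ => rfl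
  obtain ⟨N, hN⟩ : ∃ N, N = X ⊓ centralizer ({v} : Set G) := ⟨_, rfl⟩
  have hNL : N ≤ centralizer ({u} : Set G) ⊓ centralizer ({v} : Set G) := by
    rw [hN]; exact inf_le_inf_right _ hX.comp.le
  have hconj : ∀ l ∈ centralizer ({u} : Set G) ⊓ centralizer ({v} : Set G), ∀ n ∈ N,
      l * n * l⁻¹ ∈ N := by
    intro l hl n hn
    rw [hN] at hn ⊢
    exact ⟨(mem_normalizer_iff.mp (hnX hl.1) n).mp hn.1,
      (centralizer ({v} : Set G)).mul_mem ((centralizer ({v} : Set G)).mul_mem hl.2 hn.2)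
        ((centralizer ({v} : Set G)).inv_mem hl.2)⟩
  have hcov : ∀ n ∈ N, ∃ s ∈ S ⊓ N, s⁻¹ * n ∈ N ⊓ core X ∧ n * s⁻¹ ∈ N ⊓ core X := by
    refine sylow_cover hS2 hS hNL hconj ?_ ?_
    · intro l hl n hn
      exact ⟨hconj l hl n hn.1, conj_mem_core (hnX hl.1) hn.2⟩
    · intro n hn
      have hn' := hn
      rw [hN] at hn'
      refine ⟨7, pow_mem hn _, ?_⟩
      have h1 := pow_of_comm hz htt htc ((hL.mem_P _).mp (mem_P_of_comm hL hv ht hn'.1
        (comm_c hn'.2)))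
      exact (Quot.mk_eq_one_iff (pow_mem hn'.1 _)).mp h1
  refine ⟨_, P, Zc, ρ, ι, ⟨hz, hL, htt, htc, ?_, ?_, ?_, ?_, ?_, ?_, ?_, ?_, ?_⟩, ?_⟩
  · exact normal_subgroupOf_of_le_normalizer hSX
  · exact fun s => Subtype.ext (comm_c (hSL s.2).1)
  · exact fun s => Subtype.ext (comm_c (hSL s.2).2)
  · rw [injective_iff_map_eq_one]
    intro x hx
    rw [hι, Quot.mk_eq_one_iff] at hx
    obtain ⟨k, hk⟩ := hpow _ (x : ↥S).2
    exact Subtype.ext (Subtype.ext (eq_one_of_mem_core hx hk))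
  · apply le_antisymm
    · rintro _ ⟨x, rfl⟩
      rw [hι]
      exact mem_P_of_comm hL hv ht (hmX x) (comm_c (hSL (x : ↥S).2).2)
    · intro p hp
      obtain ⟨q, hq, hqv, hqp⟩ := lift_comm hY.sq hv p (by
        rw [ht, MulAut.conj_apply, ← (hL.mem_P p).mp hp, mul_inv_cancel_right])
      obtain ⟨s, hs, hsn, -⟩ := hcov q (by rw [hN]; exact ⟨hq, mem_c hqv⟩)
      have hsX : s ∈ X := by
        have := hs.2
        rw [hN] at this
        exact this.1
      refine ⟨⟨⟨s, hs.1⟩, hsX⟩, ?_⟩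
      rw [hι, ← hqp]
      exact (Quot.mk_eq_mk_iff' hsX hq).mpr hsn.2
  · intro x
    rw [hρ, hι]
    exact act_of_mem (hmX x)
  · intro s x h
    rw [hρ, hι, hι, act_mk (hSX s.2) (hmX x)]
    rfl
  · exact ⟨hX.mem, rfl⟩
  · rw [hρ]; exact ht
  · intro x hx
    rw [hρ] at hx
    exact (act_eq_one_iff (hSX x.2)).mp hx

/-- data of a type I pair -/
theorem Env.inn_data (E : Env G) {u v : G} {X : Subgroup G} (hX : IsPair two u X)
    (hvv : v * v = 1) (hv : v ∈ normalizer (X : Set G)) (hinn : act X ⟨v, hv⟩ ∈ Inn (Bar X))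
    (hnf : ¬ Fixes v X) : ∃ t : Bar X, act X ⟨v, hv⟩ = MulAut.conj t ∧ t * t = 1 ∧
      t ∉ center (Bar X) := by
  obtain ⟨t, ht⟩ := hinn
  have htc : t ∉ center (Bar X) := by
    rw [← conj_eq_one_iff, ht, act_eq_one_iff]
    exact hnf
  refine ⟨t, ht.symm, (E.kf_pair hX).lift t ?_ htc, htc⟩
  rw [← conj_eq_one_iff, map_mul, ht, ← act_mul hv hv, act_eq_one_iff, hvv]
  exact fixes_one X

end Cfsg.Agent.UGT.I34.Two
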